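import Groth.Agent.ASp.Basic
import Groth.Prelude.Def_AlgSp3
import Groth.Prelude.Def_AlgSp4
/-!
The properties of morphisms of algebraic spaces respect isomorphisms.
-/

set_option backward.isDefEq.respectTransparency false
set_option backward.isDefEq.respectTransparency.types false

universe u

open CategoryTheory CategoryTheory.Limits AlgebraicGeometry Opposite

namespace Groth.Agent.ASt

open _root_.AlgSp

variable {S : Scheme.{u}}

instance respectsIso_repWith {P : MorphismProperty Scheme.{u}} : (RepWith (S := S) P).RespectsIso :=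
  MorphismProperty.relative_respectsIso _

theorem etale_postcomp_iso {U : Over S} {F G : Sp S} {a : (yon S).obj U ⟶ F} (ha : RepWith @Etale a)
    (e : F ≅ G) : RepWith @Etale (a ≫ e.hom) :=
  MorphismProperty.RespectsIso.postcomp (RepWith (S := S) @Etale) e.hom a ha

instance respectsIso_locP {Q : MorphismProperty Scheme.{u}} : (LocP Q : MorphismProperty (Sp S)).RespectsIso := by
  refine MorphismProperty.RespectsIso.mk _ (fun {X Y Z} e f hf U V a b h ha hb w => ?_)
    (fun {X Y Z} e f hf U V a b h ha hb w => ?_)
  · exact hf (a ≫ e.hom) b h (etale_postcomp_iso ha e) hb (by rw [Category.assoc, w])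
  · exact hf a (b ≫ e.inv) h ha (etale_postcomp_iso hb e.symm) (by
      rw [← Category.assoc ((yon S).map h), ← w]; simp)

instance respectsIso_isEtaleMor : (IsEtaleMor : MorphismProperty (Sp S)).RespectsIso := by
  refine MorphismProperty.RespectsIso.mk _ (fun {X Y Z} e f hf U φ hφ => ?_)
    (fun {X Y Z} e f hf U φ hφ => ?_)
  · simpa using hf (φ ≫ e.hom) (etale_postcomp_iso hφ e)
  · rw [← Category.assoc]
    exact etale_postcomp_iso (hf φ hφ) e

instance respectsIso_isSeparatedMor : (IsSeparatedMor : MorphismProperty (Sp S)).RespectsIso :=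
  inferInstanceAs (RepWith (S := S) @IsClosedImmersion).diagonal.RespectsIso

instance respectsIso_isQuasiSeparatedMor : (IsQuasiSeparatedMor : MorphismProperty (Sp S)).RespectsIso :=
  inferInstanceAs (RepWith (S := S) @QuasiCompact).diagonal.RespectsIso

theorem isPullback_precomp {Z Z' X X' Y : Sp S} {f : X' ⟶ Y} {e : X ≅ X'} {g : Z ⟶ Y} {fst : Z' ⟶ X}
    {snd : Z' ⟶ Z} (sq : IsPullback fst snd (e.hom ≫ f) g) : IsPullback (fst ≫ e.hom) snd f g :=
  IsPullback.of_iso sq (Iso.refl _) e (Iso.refl _) (Iso.refl _) (by simp) (by simp) (by simp) (by simp)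

theorem isPullback_postcomp {Z Z' X Y Y' : Sp S} {f : X ⟶ Y} {e : Y ≅ Y'} {g : Z ⟶ Y'} {fst : Z' ⟶ X}
    {snd : Z' ⟶ Z} (sq : IsPullback fst snd (f ≫ e.hom) g) : IsPullback fst snd f (g ≫ e.inv) :=
  IsPullback.of_iso sq (Iso.refl _) (Iso.refl _) (Iso.refl _) e.symm (by simp) (by simp) (by simp) (by simp)

instance respectsIso_univSp {Q : MorphismProperty (Sp S)} : (UnivSp Q).RespectsIso := by
  refine MorphismProperty.RespectsIso.mk _ (fun {X Y W} e f hf Z Z' hZ g fst snd sq => ?_)
    (fun {X Y W} e f hf Z Z' hZ g fst snd sq => ?_)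
  · exact hf hZ g _ snd (isPullback_precomp sq)
  · exact hf hZ _ fst snd (isPullback_postcomp sq)

instance respectsIso_isUnivClosedMor : (IsUnivClosedMor : MorphismProperty (Sp S)).RespectsIso :=
  respectsIso_univSp

instance respectsIso_isUnivOpenMor : (IsUnivOpenMor : MorphismProperty (Sp S)).RespectsIso :=
  respectsIso_univSp

instance respectsIso_isUnivInjectiveMor : (IsUnivInjectiveMor : MorphismProperty (Sp S)).RespectsIso :=
  respectsIso_univSp

instance respectsIso_isUnivSubmersiveMor : (IsUnivSubmersiveMor : MorphismProperty (Sp S)).RespectsIso :=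
  respectsIso_univSp

instance respectsIso_isUnivHomeoMor : (IsUnivHomeoMor : MorphismProperty (Sp S)).RespectsIso :=
  respectsIso_univSp

instance respectsIso_isQuasiCompactMor : (IsQuasiCompactMor : MorphismProperty (Sp S)).RespectsIso := by
  refine MorphismProperty.RespectsIso.mk _ (fun {X Y W} e f hf Z Z' hZ hZ' g fst snd sq => ?_)
    (fun {X Y W} e f hf Z Z' hZ hZ' g fst snd sq => ?_)
  · exact hf hZ hZ' g _ snd (isPullback_precomp sq)
  · exact hf hZ hZ' _ fst snd (isPullback_postcomp sq)

theorem bijective_map_iso {F G : Sp S} (e : F ≅ G) : Function.Bijective (Points.map e.hom) :=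
  Function.bijective_iff_has_inverse.2 ⟨Points.map e.inv,
    fun x => by rw [← Points.map_comp, e.hom_inv_id, Points.map_id],
    fun x => by rw [← Points.map_comp, e.inv_hom_id, Points.map_id]⟩

instance respectsIso_isSurjectiveMor : (IsSurjectiveMor : MorphismProperty (Sp S)).RespectsIso := by
  refine MorphismProperty.RespectsIso.mk _ (fun {X Y W} e f (hf : Function.Surjective (Points.map f)) => ?_)
    (fun {X Y W} e f (hf : Function.Surjective (Points.map f)) => ?_)
  · change Function.Surjective (Points.map (e.hom ≫ f))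
    rw [show Points.map (e.hom ≫ f) = Points.map f ∘ Points.map e.hom from funext (Points.map_comp _ _)]
    exact hf.comp (bijective_map_iso e).2
  · change Function.Surjective (Points.map (f ≫ e.hom))
    rw [show Points.map (f ≫ e.hom) = Points.map e.hom ∘ Points.map f from funext (Points.map_comp _ _)]
    exact (bijective_map_iso e).2.comp hf

instance respectsIso_isFiniteTypeMor : (IsFiniteTypeMor : MorphismProperty (Sp S)).RespectsIso :=
  inferInstanceAs (LocP (S := S) @LocallyOfFiniteType ⊓ IsQuasiCompactMor).RespectsIso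

instance respectsIso_isFinitePresentationMor : (IsFinitePresentationMor : MorphismProperty (Sp S)).RespectsIso :=
  inferInstanceAs (LocP (S := S) @LocallyOfFinitePresentation ⊓ (IsQuasiCompactMor ⊓ IsQuasiSeparatedMor)).RespectsIso

instance respectsIso_isProperMor : (IsProperMor : MorphismProperty (Sp S)).RespectsIso :=
  inferInstanceAs (IsSeparatedMor (S := S) ⊓ (IsFiniteTypeMor ⊓ IsUnivClosedMor)).RespectsIso

end Groth.Agent.ASt
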