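import Groth.Agent.ASt.DiagSq
import Groth.Agent.ASt.Props
import Groth.Agent.ASp.Graph
import Groth.Agent.ASp.OpenImm
import Groth.Agent.ASp.LocP
import Groth.Agent.S10519
import Groth.Agent.S10520
import Groth.Agent.S10521
import Groth.Agent.S10522
import Groth.Agent.S10526
import Groth.Agent.S10527
import Groth.Agent.S10530
import Groth.Agent.S10531
import Groth.Agent.S10533
import Groth.Agent.S10534
import Groth.Agent.S10535
import Groth.Agent.S10536
import Groth.Agent.S10539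
import Groth.Agent.S10540
import Groth.Agent.S10541
import Groth.Agent.S10542
import Groth.Agent.S10543
import Groth.Agent.S10546
import Groth.Agent.S10547
/-!
The calculus for the properties of morphisms of algebraic spaces in use.
-/

set_option backward.isDefEq.respectTransparency false
set_option backward.isDefEq.respectTransparency.types false
set_option linter.unusedSectionVars false

universe v₄ u₄ v₃ u₃ v₂ u₂ v' w' v w u

open CategoryTheory CategoryTheory.Limits AlgebraicGeometry Opposite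

namespace Groth.Agent.ASt

open _root_.AlgSp Groth.Agent.ASp

variable {S : Scheme.{u}}

/-- Restriction of a property to morphisms between algebraic spaces. -/
def onSpaces (P : MorphismProperty (Sp S)) : MorphismProperty (Sp S) :=
  fun X Y f => IsAlgSpace X → IsAlgSpace Y → P f

theorem respectsIso_onSpaces {P : MorphismProperty (Sp S)}
    (hPb : ∀ ⦃X₁ Y₁ X₂ Y₂ : Sp S⦄, IsAlgSpace X₁ → IsAlgSpace Y₁ → IsAlgSpace X₂ →
      IsAlgSpace Y₂ → ∀ (a : X₁ ⟶ Y₁) (b : Y₂ ⟶ Y₁) (a' : X₂ ⟶ Y₂) (b' : X₂ ⟶ X₁),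
      IsPullback b' a' a b → P a → P a') : (onSpaces P).RespectsIso := by
  have iso : ∀ {F G : Sp S}, (F ≅ G) → IsAlgSpace F → IsAlgSpace G := fun e h =>
    IsAlgSpace.of_iso h e
  refine MorphismProperty.RespectsIso.mk _ (fun {X Y Z} e f hf hX hZ => ?_) (fun {X Y Z} e f hf hX hZ => ?_)
  · exact hPb (iso e hX) hZ hX hZ f (𝟙 _) _ e.hom
      (IsPullback.of_horiz_isIso ⟨by simp⟩) (hf (iso e hX) hZ)
  · exact hPb hX (iso e.symm hZ) hX hZ f e.inv _ (𝟙 _)
      (IsPullback.of_horiz_isIso ⟨by simp⟩) (hf hX (iso e.symm hZ))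

theorem repByAlgSpWith_mono {P Q : MorphismProperty (Sp S)} {𝒳 : BasedCategory.{v, w} (Over S)}
    {𝒴 : BasedCategory.{v', w'} (Over S)} {f : 𝒳 ⥤ᵇ 𝒴}
    (h : ∀ ⦃X Y : Sp S⦄ (a : X ⟶ Y), IsAlgSpace X → IsAlgSpace Y → P a → Q a)
    (hf : AlgSt.RepByAlgSpWith P f) : AlgSt.RepByAlgSpWith Q f :=
  fun U y => let ⟨F, e, he, hP⟩ := hf U y; ⟨F, e, he, h _ F.property (IsAlgSpace.yon_obj U) hP⟩

theorem repByAlgSpWith_onSpaces_iff {P : MorphismProperty (Sp S)} {𝒳 : BasedCategory.{v, w} (Over S)}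
    {𝒴 : BasedCategory.{v', w'} (Over S)} {f : 𝒳 ⥤ᵇ 𝒴} :
    AlgSt.RepByAlgSpWith (onSpaces P) f ↔ AlgSt.RepByAlgSpWith P f :=
  ⟨repByAlgSpWith_mono fun _ _ _ hX hY h => h hX hY, repByAlgSpWith_mono fun _ _ _ _ _ h _ _ => h⟩

theorem compLocal_of_etale {P : MorphismProperty (Sp S)}
    (hc : ∀ ⦃X Y Z : Sp S⦄, IsAlgSpace X → IsAlgSpace Y → IsAlgSpace Z →
      ∀ (a : X ⟶ Y) (b : Y ⟶ Z), P a → P b → P (a ≫ b))
    (h : IsLocalOnBase IsEtCover P) : CompLocal P :=
  ⟨hc, fun X Y hX hY f V b hb hbs _ fst snd hT sq hP =>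
    (h (fun _ : PUnit.{u + 1} => (yon S).obj V) (fun _ => b) hY (fun _ => IsAlgSpace.yon_obj _)
      ⟨fun _ _ φ hφ => repWith_comp hφ hb, fun y => ⟨PUnit.unit, surjective_map_of_repWith hbs y⟩⟩ f hX
      (fun _ => _) (fun _ => snd) (fun _ => fst) (fun _ => hT) (fun _ => sq)).2 fun _ => hP⟩

theorem compLocal_onSpaces {P : MorphismProperty (Sp S)} (h : CompLocal P) : CompLocal (onSpaces P) :=
  ⟨fun _ _ _ hX hY hZ a b ha hb _ _ => h.comp hX hY hZ a b (ha hX hY) (hb hY hZ),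
    fun _ _ hX hY f _ b hb hbs _ fst snd hT sq hP _ _ =>
      h.loc hX hY f b hb hbs fst snd hT sq (hP hT (IsAlgSpace.yon_obj _))⟩

section Comp

variable {X Y Z : Sp S} {f : X ⟶ Y} {g : Y ⟶ Z}

theorem repWith_diagonal_comp {P : MorphismProperty Scheme.{u}} [P.IsStableUnderComposition]
    (hf : RepWith P (pullback.diagonal f)) (hg : RepWith P (pullback.diagonal g)) :
    RepWith P (pullback.diagonal (f ≫ g)) := by
  obtain ⟨m, hm, sqm⟩ := isPullback_map_comp f g
  rw [hm]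
  exact repWith_comp hf (repWith_of_isPullback sqm hg)

theorem isQuasiCompactMor_comp (hY : IsAlgSpace Y) (hZ : IsAlgSpace Z) (hf : IsQuasiCompactMor f)
    (hg : IsQuasiCompactMor g) : IsQuasiCompactMor (f ≫ g) := by
  intro W W' hW hWc k fst snd sq
  obtain ⟨Q, a, b, hQ⟩ : ∃ (Q : Sp S) (a : Q ⟶ Y) (b : Q ⟶ W), IsPullback a b g k :=
    ⟨_, _, _, IsPullback.of_hasPullback _ _⟩
  exact hf (isAlgSpace_of_isPullback hZ.diag hY hW hQ) (hg hW hWc k a b hQ) a fst
    (hQ.lift (fst ≫ f) snd (by rw [Category.assoc]; exact sq.w))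
    (IsPullback.of_bot (by rw [hQ.lift_snd]; exact sq) (hQ.lift_fst _ _ _).symm hQ)

theorem univSp_comp {Q : MorphismProperty (Sp S)}
    (hQ : ∀ ⦃A B C : Sp S⦄ (a : A ⟶ B) (b : B ⟶ C), Q a → Q b → Q (a ≫ b))
    (hY : IsAlgSpace Y) (hZ : IsAlgSpace Z) (hf : UnivSp Q f) (hg : UnivSp Q g) : UnivSp Q (f ≫ g) := by
  intro W W' hW k fst snd sq
  obtain ⟨R, a, b, hR⟩ : ∃ (R : Sp S) (a : R ⟶ Y) (b : R ⟶ W), IsPullback a b g k :=
    ⟨_, _, _, IsPullback.of_hasPullback _ _⟩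
  have h1 := hf (isAlgSpace_of_isPullback hZ.diag hY hW hR) a fst
    (hR.lift (fst ≫ f) snd (by rw [Category.assoc]; exact sq.w))
    (IsPullback.of_bot (by rw [hR.lift_snd]; exact sq) (hR.lift_fst _ _ _).symm hR)
  have h2 := hg hW k a b hR
  have := hQ _ _ h1 h2
  rwa [hR.lift_snd] at this

theorem isClosedMor_comp (hf : IsClosedMor f) (hg : IsClosedMor g) : IsClosedMor (f ≫ g) := by
  change IsClosedMap _
  rw [show Points.map (f ≫ g) = Points.map g ∘ Points.map f from funext (Points.map_comp f g)]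
  exact IsClosedMap.comp hg hf

theorem isOpenMor_comp (hf : IsOpenMor f) (hg : IsOpenMor g) : IsOpenMor (f ≫ g) := by
  change IsOpenMap _
  rw [show Points.map (f ≫ g) = Points.map g ∘ Points.map f from funext (Points.map_comp f g)]
  exact IsOpenMap.comp hg hf

theorem isSurjectiveMor_comp (hf : IsSurjectiveMor f) (hg : IsSurjectiveMor g) : IsSurjectiveMor (f ≫ g) := by
  change Function.Surjective _
  rw [show Points.map (f ≫ g) = Points.map g ∘ Points.map f from funext (Points.map_comp f g)]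
  exact Function.Surjective.comp hg hf

theorem affineType_comp {M : MorphismProperty Scheme.{u}} [M.IsStableUnderComposition]
    (hf : ∀ ⦃T : Over S⦄, IsAffine T.left → ∀ (b : (yon S).obj T ⟶ Y), ∃ (W : Over S) (i : W ⟶ T)
      (fst : (yon S).obj W ⟶ X), IsPullback fst ((yon S).map i) f b ∧ IsAffine W.left ∧ M i.left)
    (hg : ∀ ⦃T : Over S⦄, IsAffine T.left → ∀ (b : (yon S).obj T ⟶ Z), ∃ (W : Over S) (i : W ⟶ T)
      (fst : (yon S).obj W ⟶ Y), IsPullback fst ((yon S).map i) g b ∧ IsAffine W.left ∧ M i.left)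
    ⦃T : Over S⦄ (hT : IsAffine T.left) (b : (yon S).obj T ⟶ Z) :
    ∃ (W : Over S) (i : W ⟶ T) (fst : (yon S).obj W ⟶ X),
      IsPullback fst ((yon S).map i) (f ≫ g) b ∧ IsAffine W.left ∧ M i.left := by
  obtain ⟨V, j, c, sq, hV, hj⟩ := hg hT b
  obtain ⟨W, i, d, sq', hW, hi⟩ := hf hV c
  refine ⟨W, i ≫ j, d, ?_, hW, M.comp_mem _ _ hi hj⟩
  rw [Functor.map_comp]
  exact sq'.paste_vert sq

end Comp

theorem isAffineMor_comp {X Y Z : Sp S} {f : X ⟶ Y} {g : Y ⟶ Z} (hf : IsAffineMor f) (hg : IsAffineMor g) :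
    IsAffineMor (f ≫ g) := fun T hT b =>
  have lift : ∀ {A B : Sp S} {a : A ⟶ B}, IsAffineMor a → ∀ ⦃T : Over S⦄, IsAffine T.left → ∀ (b : (yon S).obj T ⟶ B),
      ∃ (W : Over S) (i : W ⟶ T) (fst : (yon S).obj W ⟶ A),
        IsPullback fst ((yon S).map i) a b ∧ IsAffine W.left ∧ (⊤ : MorphismProperty Scheme.{u}) i.left :=
    fun h _ hT b => let ⟨W, i, d, sq, hW⟩ := h hT b; ⟨W, i, d, sq, hW, trivial⟩
  let ⟨W, i, d, sq, hW, _⟩ := affineType_comp (lift hf) (lift hg) hT b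
  ⟨W, i, d, sq, hW⟩

/-! The instances of the calculus. -/

theorem compLocal_locP {Q : MorphismProperty Scheme.{u}} [IsEtLocal Q]
    (h : IsLocalOnBase (IsFpqcCover (S := S)) (LocP Q)) : CompLocal (LocP Q : MorphismProperty (Sp S)) :=
  compLocal_of_fpqc (fun _ _ _ _ hY _ _ _ => locP_comp hY) h

theorem compLocal_lft : CompLocal (LocP @LocallyOfFiniteType : MorphismProperty (Sp S)) :=
  compLocal_locP (Groth.Agent.S10526.result S)

theorem compLocal_lfp : CompLocal (LocP @LocallyOfFinitePresentation : MorphismProperty (Sp S)) :=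
  compLocal_locP (Groth.Agent.S10527.result S)

theorem compLocal_flat : CompLocal (LocP @Flat : MorphismProperty (Sp S)) :=
  compLocal_locP (Groth.Agent.S10530.result S)

theorem compLocal_smooth : CompLocal (LocP @Smooth : MorphismProperty (Sp S)) :=
  compLocal_locP (Groth.Agent.S10542.result S)

theorem compLocal_unramified :
    CompLocal (LocP (@LocallyOfFiniteType ⊓ @FormallyUnramified) : MorphismProperty (Sp S)) :=
  compLocal_locP (Groth.Agent.S10543.result S)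

theorem compLocal_lqf :
    CompLocal (LocP (@LocallyQuasiFinite ⊓ @LocallyOfFiniteType) : MorphismProperty (Sp S)) :=
  compLocal_locP (Groth.Agent.S10541.result S).1

theorem compLocal_quasiCompact : CompLocal (IsQuasiCompactMor : MorphismProperty (Sp S)) :=
  compLocal_of_fpqc (fun _ _ _ _ hY hZ _ _ => isQuasiCompactMor_comp hY hZ) (Groth.Agent.S10519.result S)

theorem compLocal_separated : CompLocal (IsSeparatedMor : MorphismProperty (Sp S)) :=
  compLocal_of_fpqc (fun _ _ _ _ _ _ _ _ => repWith_diagonal_comp) (Groth.Agent.S10535.result S)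

theorem compLocal_quasiSeparated : CompLocal (IsQuasiSeparatedMor : MorphismProperty (Sp S)) :=
  compLocal_of_fpqc (fun _ _ _ _ _ _ _ _ => repWith_diagonal_comp) (Groth.Agent.S10520.result S)

theorem compLocal_inf {P Q : MorphismProperty (Sp S)} (hP : CompLocal P) (hQ : CompLocal Q) : CompLocal (P ⊓ Q) :=
  ⟨fun _ _ _ hX hY hZ a b ha hb => ⟨hP.comp hX hY hZ a b ha.1 hb.1, hQ.comp hX hY hZ a b ha.2 hb.2⟩,
    fun _ _ hX hY f _ b hb hbs _ fst snd hT sq h =>
      ⟨hP.loc hX hY f b hb hbs fst snd hT sq h.1, hQ.loc hX hY f b hb hbs fst snd hT sq h.2⟩⟩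

theorem compLocal_qcqs : CompLocal (IsQuasiCompactMor ⊓ IsQuasiSeparatedMor : MorphismProperty (Sp S)) :=
  compLocal_inf compLocal_quasiCompact compLocal_quasiSeparated

theorem compLocal_univClosed : CompLocal (IsUnivClosedMor : MorphismProperty (Sp S)) :=
  compLocal_of_fpqc (fun _ _ _ _ hY hZ _ _ => univSp_comp (fun _ _ _ _ _ => isClosedMor_comp) hY hZ)
    (Groth.Agent.S10521.result S)

theorem compLocal_univOpen : CompLocal (IsUnivOpenMor : MorphismProperty (Sp S)) :=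
  compLocal_of_fpqc (fun _ _ _ _ hY hZ _ _ => univSp_comp (fun _ _ _ _ _ => isOpenMor_comp) hY hZ)
    (Groth.Agent.S10522.result S)

theorem compLocal_proper : CompLocal (IsProperMor : MorphismProperty (Sp S)) :=
  compLocal_inf compLocal_separated
    (compLocal_inf (compLocal_inf compLocal_lft compLocal_quasiCompact) compLocal_univClosed)

theorem compLocal_monomorphisms : CompLocal (MorphismProperty.monomorphisms (Sp S)) :=
  compLocal_of_fpqc (fun _ _ _ _ _ _ a b (ha : Mono a) (hb : Mono b) => show Mono (a ≫ b) from inferInstance)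
    (Groth.Agent.S10546.result S)

theorem compLocal_closedImmersion : CompLocal (RepWith @IsClosedImmersion : MorphismProperty (Sp S)) :=
  compLocal_of_fpqc (fun _ _ _ _ _ _ _ _ => repWith_comp) (Groth.Agent.S10534.result S)

theorem compLocal_openImmersion : CompLocal (RepWith @IsOpenImmersion : MorphismProperty (Sp S)) :=
  compLocal_of_fpqc (fun _ _ _ _ _ _ _ _ => repWith_comp) (Groth.Agent.S10531.result S)

theorem compLocal_immersion : CompLocal (RepWith @IsImmersion : MorphismProperty (Sp S)) :=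
  compLocal_of_fppf (fun _ _ _ _ _ _ _ _ => repWith_comp) (Groth.Agent.S10547.result S)

theorem compLocal_affine : CompLocal (IsAffineMor : MorphismProperty (Sp S)) :=
  compLocal_of_fpqc (fun _ _ _ _ _ _ _ _ => isAffineMor_comp) (Groth.Agent.S10533.result S)

theorem compLocal_integral : CompLocal (IsIntegralMor : MorphismProperty (Sp S)) :=
  compLocal_of_fpqc (fun _ _ _ _ _ _ _ _ hf hg => affineType_comp (M := @IsIntegralHom) hf hg)
    (Groth.Agent.S10539.result S)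

theorem compLocal_finite : CompLocal (IsFiniteMor : MorphismProperty (Sp S)) :=
  compLocal_of_fpqc (fun _ _ _ _ _ _ _ _ hf hg => affineType_comp (M := @IsFinite) hf hg)
    (Groth.Agent.S10540.result S)

section Swap

variable {𝒳 𝒴 𝒵 : AlgSt.Cat S} [h𝒳 : FibCat.IsFibGrpd 𝒳.p] [h𝒴 : FibCat.IsFibGrpd 𝒴.p]
  [h𝒵 : FibCat.IsFibGrpd 𝒵.p]

theorem isEquivOver_swapF (F : 𝒳 ⥤ᵇ 𝒵) (G : 𝒴 ⥤ᵇ 𝒵) : FibCat.IsEquivOver (swapF F G) :=
  ⟨swapF G F,
    ⟨fpIsoMk (Iso.refl _) (Iso.refl _) fun x => by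
      change F.map (𝟙 x.obj.fst) ≫ x.obj.iso.hom = x.obj.iso.hom ≫ G.map (𝟙 x.obj.snd)
      simp⟩,
    ⟨fpIsoMk (Iso.refl _) (Iso.refl _) fun x => by
      change G.map (𝟙 x.obj.fst) ≫ x.obj.iso.hom = x.obj.iso.hom ≫ F.map (𝟙 x.obj.snd)
      simp⟩⟩

theorem repByAlgSpWith_fpSnd {P : MorphismProperty (Sp S)} {z : 𝒳 ⥤ᵇ 𝒵} (f : 𝒴 ⥤ᵇ 𝒵)
    (hz : AlgSt.RepByAlgSpWith P z) : AlgSt.RepByAlgSpWith P (FibCat.fpSnd z f) :=
  haveI : FibCat.IsFibGrpd (FibCat.fp z f).p := isFibGrpd_fp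
  haveI : FibCat.IsFibGrpd (FibCat.fp f z).p := isFibGrpd_fp
  (basedFunctor_ext rfl : BasedFunctor.comp (swapF z f) (FibCat.fpFst f z) = FibCat.fpSnd z f) ▸
    repByAlgSpWith_precomp (isEquivOver_swapF z f) (repByAlgSpWith_fpFst f hz)

end Swap

end Groth.Agent.ASt
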