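import Groth.Agent.ASt.Rep
import Mathlib.CategoryTheory.Limits.Types.Pullbacks
/-!
Comparison maps between fibre presheaves: change of the test morphism, base change, and composition.
-/

set_option backward.isDefEq.respectTransparency false
set_option backward.isDefEq.respectTransparency.types false
set_option linter.unusedSectionVars false

universe v₅ u₅ v₄ u₄ v₃ u₃ v₂ u₂ v u

open CategoryTheory CategoryTheory.Limits AlgebraicGeometry Opposite

namespace Groth.Agent.ASt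

open _root_.AlgSp

section General

variable {C : Type u} [Category.{v} C]
variable {𝒳 : BasedCategory.{v₂, u₂} C} {𝒴 : BasedCategory.{v₃, u₃} C} {𝒵 : BasedCategory.{v₄, u₄} C}

/-- Whiskering of a 2-isomorphism on the right. -/
noncomputable def wR {F G : 𝒳 ⥤ᵇ 𝒴} (α : F ≅ G) (H : 𝒴 ⥤ᵇ 𝒵) : BasedFunctor.comp F H ≅ BasedFunctor.comp G H :=
  BasedNatIso.mkNatIso (Functor.isoWhiskerRight ((BasedNatTrans.forgetful _ _).mapIso α) H.toFunctor)
    fun a => (BasedCategory.whiskerRight α.hom H).isHomLift (rfl : 𝒳.p.obj a = _)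

@[simp] theorem wR_app {F G : 𝒳 ⥤ᵇ 𝒴} (α : F ≅ G) (H : 𝒴 ⥤ᵇ 𝒵) (a : 𝒳.obj) :
    (wR α H).hom.toNatTrans.app a = H.map (α.hom.toNatTrans.app a) := rfl

/-- Whiskering of a 2-isomorphism on the left. -/
noncomputable def wL (F : 𝒳 ⥤ᵇ 𝒴) {G H : 𝒴 ⥤ᵇ 𝒵} (α : G ≅ H) : BasedFunctor.comp F G ≅ BasedFunctor.comp F H :=
  (Stk.restr F 𝒵).mapIso α

@[simp] theorem wL_app (F : 𝒳 ⥤ᵇ 𝒴) {G H : 𝒴 ⥤ᵇ 𝒵} (α : G ≅ H) (a : 𝒳.obj) :
    (wL F α).hom.toNatTrans.app a = α.hom.toNatTrans.app (F.obj a) := rfl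

variable {T : C} [h𝒳 : FibCat.IsFibGrpd 𝒳.p]

theorem funIso_app {y y' : FibCat.overCat T ⥤ᵇ 𝒳} (a : y.obj (ov (𝟙 T)) ⟶ y'.obj (ov (𝟙 T)))
    (ha : 𝒳.p.map a = eqToHom ((y.w_obj _).trans (y'.w_obj _).symm)) (g : (FibCat.overCat T).obj) :
    (funIso a ha).hom.toNatTrans.app g ≫ y'.map (toTop g) = y.map (toTop g) ≫ a := by
  simp [funIso, BasedNatIso.mkNatIso]

end General

variable {S : Scheme.{u}} {𝒳 𝒴 𝒵 : AlgSt.Cat S} [h𝒳 : FibCat.IsFibGrpd 𝒳.p] [h𝒴 : FibCat.IsFibGrpd 𝒴.p]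
  [h𝒵 : FibCat.IsFibGrpd 𝒵.p]

/-- A square of presheaves of sets which is pointwise cartesian is cartesian. -/
theorem isPullback_of_pointwise {A B D E : PSp S} {p : A ⟶ B} {q : A ⟶ D} {r : B ⟶ E} {s : D ⟶ E}
    (w : p ≫ r = q ≫ s)
    (inj : ∀ (T : Over S) (a a' : A.obj (op T)), p.app _ a = p.app _ a' → q.app _ a = q.app _ a' → a = a')
    (surj : ∀ (T : Over S) (b : B.obj (op T)) (d : D.obj (op T)), r.app _ b = s.app _ d →
      ∃ a, p.app _ a = b ∧ q.app _ a = d) : IsPullback p q r s :=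
  IsPullback.of_forall_isPullback_app fun T => (Types.isPullback_iff _ _ _ _).2
    ⟨congrArg (fun k => k.app T) w, fun a a' h => inj T.unop a a' h.1 h.2, fun b d h => surj T.unop b d h⟩

section ChangeTest

variable {U V : Over S} {f : 𝒳 ⥤ᵇ 𝒴}

/-- Change of the test morphism along a 2-isomorphism. -/
noncomputable def changeF {y y' : FibCat.overCat U ⥤ᵇ 𝒴} (α : y ≅ y') (f : 𝒳 ⥤ᵇ 𝒴) :
    FibCat.fp y f ⥤ᵇ FibCat.fp y' f :=
  FibCat.fpLift (FibCat.fpFst y f) (FibCat.fpSnd y f) (wL (FibCat.fpFst y f) α.symm ≪≫ FibCat.fpIso y f)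

theorem clF_changeF_comp {y y' y'' : FibCat.overCat U ⥤ᵇ 𝒴} (α : y ≅ y') (β : y' ≅ y'') (T : Over S)
    (c : ClType (FibCat.fp y f) T) :
    clF (changeF β f) T (clF (changeF α f) T c) = clF (changeF (α ≪≫ β) f) T c := by
  obtain ⟨m, hm, rfl⟩ := cl_exists c
  rw [clF_cl, clF_cl, clF_cl]
  refine cl_eq_iff.2 ⟨fpHomMk (𝟙 _) (𝟙 _) ?_, ?_⟩
  · simp [changeF, FibCat.fpLift, FibCat.fpIso, BasedNatIso.mkNatIso, wL, Stk.restr, FibCat.fpFst]
    rfl
  · exact ((FibCat.overCat U).p.map_id m.obj.fst).trans rfl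

theorem clF_changeF_refl {y : FibCat.overCat U ⥤ᵇ 𝒴} (T : Over S)
    (c : ClType (FibCat.fp y f) T) : clF (changeF (Iso.refl y) f) T c = c := by
  obtain ⟨m, hm, rfl⟩ := cl_exists c
  rw [clF_cl]
  refine cl_eq_iff.2 ⟨fpHomMk (𝟙 _) (𝟙 _) ?_, ?_⟩
  · simp [changeF, FibCat.fpLift, FibCat.fpIso, BasedNatIso.mkNatIso, wL, Stk.restr]
  · exact ((FibCat.overCat U).p.map_id m.obj.fst).trans rfl

/-- Isomorphic test morphisms have isomorphic fibre presheaves. -/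
noncomputable def changeIso {y y' : FibCat.overCat U ⥤ᵇ 𝒴} (α : y ≅ y') (f : 𝒳 ⥤ᵇ 𝒴) : fib y f ≅ fib y' f where
  hom := clFun (changeF α f)
  inv := clFun (changeF α.symm f)
  hom_inv_id := by
    ext T c
    exact (clF_changeF_comp α α.symm T.unop c).trans (by rw [Iso.self_symm_id, clF_changeF_refl]; rfl)
  inv_hom_id := by
    ext T c
    exact (clF_changeF_comp α.symm α T.unop c).trans (by rw [Iso.symm_self_id, clF_changeF_refl]; rfl)

theorem fpHom_clF_changeF {y y' : FibCat.overCat U ⥤ᵇ 𝒴} (α : y ≅ y') (T : Over S)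
    (c : ClType (FibCat.fp y f) T) : fpHom (clF (changeF α f) T c) = fpHom c := by
  obtain ⟨m, hm, rfl⟩ := cl_exists c
  rfl

theorem changeIso_hom_π {y y' : FibCat.overCat U ⥤ᵇ 𝒴} (α : y ≅ y') :
    (changeIso α f).hom ≫ fibπ y' f = fibπ y f := by
  ext T c
  exact congrArg ULift.up (fpHom_clF_changeF α T.unop c)

theorem fibHas_congr {P : MorphismProperty (Sp S)} [P.RespectsIso] {y y' : FibCat.overCat U ⥤ᵇ 𝒴}
    (α : y ≅ y') (h : FibHas P y f) : FibHas P y' f := by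
  obtain ⟨hs, hA, hP⟩ := h
  obtain ⟨hs', hA'⟩ := IsAlgSpaceP.of_iso ⟨hs, hA⟩ (changeIso α f)
  obtain ⟨i⟩ := arrowIso_of_hom (a := (ObjectProperty.homMk (fibπ y f) : (⟨fib y f, hs⟩ : Sp S) ⟶ (yon S).obj U))
    (b := (ObjectProperty.homMk (fibπ y' f) : (⟨fib y' f, hs'⟩ : Sp S) ⟶ (yon S).obj U))
    (changeIso α f) (changeIso_hom_π α).symm
  exact ⟨hs', hA', (P.arrow_mk_iso_iff i).1 hP⟩

/-- Restriction of the test morphism along a morphism of schemes. -/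
noncomputable def restrF (h : V ⟶ U) (y : FibCat.overCat U ⥤ᵇ 𝒴) (f : 𝒳 ⥤ᵇ 𝒴) :
    FibCat.fp (BasedFunctor.comp (AlgSt.overMap h) y) f ⥤ᵇ FibCat.fp y f :=
  FibCat.fpLift (BasedFunctor.comp (FibCat.fpFst (BasedFunctor.comp (AlgSt.overMap h) y) f) (AlgSt.overMap h))
    (FibCat.fpSnd _ f) (FibCat.fpIso (BasedFunctor.comp (AlgSt.overMap h) y) f)

theorem clF_restrF (h : V ⟶ U) (y : FibCat.overCat U ⥤ᵇ 𝒴) {T : Over S} (k : T ⟶ V) (x : 𝒳.obj)
    (hx : 𝒳.p.obj x = T) (φ : y.obj (ov (k ≫ h)) ⟶ f.obj x) (hφ) :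
    clF (restrF h y f) T (fpEl (y := BasedFunctor.comp (AlgSt.overMap h) y) k x hx φ hφ) =
      fpEl (k ≫ h) x hx φ hφ := rfl

theorem isPullback_restrF (h : V ⟶ U) (y : FibCat.overCat U ⥤ᵇ 𝒴) :
    IsPullback (clFun (restrF h y f)) (fibπ (BasedFunctor.comp (AlgSt.overMap h) y) f) (fibπ y f)
      ((pyon S).map h) := by
  refine isPullback_of_pointwise ?_ (fun T a a' e1 e2 => ?_) (fun T b d e => ?_)
  · ext T c
    obtain ⟨k, x, hx, φ, hφ, rfl⟩ := fpEl_exists (T := T.unop) c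
    refine congrArg ULift.up ?_
    change fpHom (fpEl (y := y) (f := f) (k ≫ h) x hx φ hφ) =
      fpHom (fpEl (y := BasedFunctor.comp (AlgSt.overMap h) y) (f := f) k x hx φ hφ) ≫ h
    rw [fpHom_fpEl, fpHom_fpEl]
  · obtain ⟨k, x, hx, φ, hφ, rfl⟩ := fpEl_exists (T := T) a
    obtain ⟨k', x', hx', φ', hφ', rfl⟩ := fpEl_exists (T := T) a'
    obtain rfl : k = k' := by
      have := congrArg ULift.down e2
      simpa [fibπ, fpHom_fpEl] using this
    have e3 := (clF_restrF h y k x hx φ hφ).symm.trans (e1.trans (clF_restrF h y k x' hx' φ' hφ'))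
    obtain ⟨v, hv1, hv2⟩ := fpEl_eq_iff.1 e3
    exact fpEl_eq_iff.2 ⟨v, hv1, hv2⟩
  · obtain ⟨k', x, hx, φ, hφ, rfl⟩ := fpEl_exists (T := T) b
    obtain ⟨k⟩ := d
    obtain rfl : k' = k ≫ h := (fpHom_fpEl k' x hx φ hφ).symm.trans (congrArg ULift.down e)
    exact ⟨fpEl (y := BasedFunctor.comp (AlgSt.overMap h) y) k x hx φ hφ,
      clF_restrF h y k x hx φ hφ,
      congrArg ULift.up (fpHom_fpEl (y := BasedFunctor.comp (AlgSt.overMap h) y) (f := f) k x hx φ hφ)⟩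

end ChangeTest

section BaseChange

variable {U : Over S} (g : 𝒵 ⥤ᵇ 𝒴) (f : 𝒳 ⥤ᵇ 𝒴) (y : FibCat.overCat U ⥤ᵇ 𝒵)

/-- The fibres of a base change compared with the fibres of the morphism. -/
noncomputable def bcF : FibCat.fp y (FibCat.fpFst g f) ⥤ᵇ FibCat.fp (BasedFunctor.comp y g) f :=
  FibCat.fpLift (FibCat.fpFst y (FibCat.fpFst g f))
    (BasedFunctor.comp (FibCat.fpSnd y (FibCat.fpFst g f)) (FibCat.fpSnd g f))
    (wR (FibCat.fpIso y (FibCat.fpFst g f)) g ≪≫ wL (FibCat.fpSnd y (FibCat.fpFst g f)) (FibCat.fpIso g f))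

theorem clF_bcF {T : Over S} (k : T ⟶ U) (w : (FibCat.fp g f).obj) (hw : (FibCat.fp g f).p.obj w = T)
    (ψ : y.obj (ov k) ⟶ w.obj.fst) (hψ) {hψ'} :
    clF (bcF g f y) T (fpEl (f := FibCat.fpFst g f) k w hw ψ hψ) =
      fpEl (y := BasedFunctor.comp y g) k w.obj.snd ((fp_snd_base w).trans hw)
        (g.map ψ ≫ w.obj.iso.hom) hψ' :=
  cl_eq_iff.2 ⟨fpHomMk (𝟙 _) (𝟙 _) (by
    simp [bcF, fpObj, fpMk, FibCat.fpLift, FibCat.fpIso, BasedNatIso.mkNatIso, wL, wR, Stk.restr]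
    rfl), ((FibCat.overCat U).p.map_id _).trans rfl⟩

theorem bijective_clF_bcF (T : Over S) : Function.Bijective (clF (bcF g f y) T) := by
  have hmap : ∀ {k : T ⟶ U} {w : (FibCat.fp g f).obj} (hw : (FibCat.fp g f).p.obj w = T)
      (ψ : y.obj (ov k) ⟶ w.obj.fst),
      𝒵.p.map ψ = eqToHom ((y.w_obj (ov k)).trans hw.symm) →
      𝒴.p.map (g.map ψ ≫ w.obj.iso.hom) = eqToHom (((BasedFunctor.comp y g).w_obj (ov k)).trans
        (((fp_snd_base w).trans hw).symm.trans (f.w_obj w.obj.snd).symm)) := fun hw ψ hψ => by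
    simp [map_w, hψ, fp_iso_map]
  constructor
  · intro c c' e
    obtain ⟨k, w, hw, ψ, hψ, rfl⟩ := fpEl_exists c
    obtain ⟨k', w', hw', ψ', hψ', rfl⟩ := fpEl_exists c'
    rw [clF_bcF g f y k w hw ψ hψ (hψ' := hmap hw ψ hψ), clF_bcF g f y k' w' hw' ψ' hψ' (hψ' := hmap hw' ψ' hψ')] at e
    obtain rfl : k = k' := (fpHom_fpEl _ _ _ _ _).symm.trans ((congrArg fpHom e).trans (fpHom_fpEl _ _ _ _ _))
    obtain ⟨a, ha, hae⟩ := fpEl_eq_iff.1 e
    have hi := isIso_of_vert ψ hψ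
    have hw0 : g.map (inv ψ ≫ ψ') ≫ w'.obj.iso.hom = w.obj.iso.hom ≫ f.map a := by
      rw [← cancel_epi (g.map ψ)]
      simp only [← Functor.map_comp_assoc, IsIso.hom_inv_id_assoc]
      simpa using hae.symm
    refine fpEl_eq_iff.2 ⟨fpHomMk (inv ψ ≫ ψ') a hw0, ?_, ?_⟩
    · change 𝒵.p.map (inv ψ ≫ ψ') = _
      simp [hψ, hψ']
    · exact IsIso.hom_inv_id_assoc ψ ψ'
  · intro c
    obtain ⟨k, x, hx, φ, hφ, rfl⟩ := fpEl_exists c
    have := isIso_of_vert φ hφ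
    let w : (FibCat.fp g f).obj := fpMk (y.obj (ov k)) x (hx.trans ((y.w_obj (ov k)).trans (ov_base k)).symm)
      (@asIso _ _ _ _ φ this) (hφ.trans rfl)
    refine ⟨fpEl (f := FibCat.fpFst g f) k w ((y.w_obj (ov k)).trans (ov_base k)) (𝟙 _)
      ((𝒵.p.map_id _).trans rfl), ?_⟩
    rw [clF_bcF g f y k w ((y.w_obj (ov k)).trans (ov_base k)) (𝟙 _) _
      (hψ' := hmap (k := k) (w := w) ((y.w_obj (ov k)).trans (ov_base k)) (𝟙 _) ((𝒵.p.map_id _).trans rfl))]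
    exact fpEl_eq_iff.2 ⟨𝟙 _, (𝒳.p.map_id _).trans rfl, by simp [w, fpMk]; exact Category.id_comp φ⟩

theorem fibHas_baseChange {P : MorphismProperty (Sp S)} [P.RespectsIso]
    (h : FibHas P (BasedFunctor.comp y g) f) : FibHas P y (FibCat.fpFst g f) := by
  obtain ⟨hs, hA, hP⟩ := h
  have i1 : FibCat.IsFibGrpd (FibCat.fp g f).p := isFibGrpd_fp
  have i2 : FibCat.IsFibGrpd (FibCat.fp y (FibCat.fpFst g f)).p := isFibGrpd_fp
  have : IsIso (clFun (bcF g f y)) := by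
    have : ∀ T, IsIso ((clFun (bcF g f y)).app T) := fun T =>
      (isIso_iff_bijective _).2 (bijective_clF_bcF g f y T.unop)
    exact NatIso.isIso_of_isIso_app _
  obtain ⟨hs', hA'⟩ := IsAlgSpaceP.of_iso ⟨hs, hA⟩ (asIso (clFun (bcF g f y))).symm
  have w : fibπ y (FibCat.fpFst g f) = clFun (bcF g f y) ≫ fibπ (BasedFunctor.comp y g) f := by
    ext T c
    obtain ⟨m, hm, rfl⟩ := cl_exists (𝒳 := FibCat.fp y (FibCat.fpFst g f)) (T := T.unop) c
    rfl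
  obtain ⟨i⟩ := arrowIso_of_hom
    (a := (ObjectProperty.homMk (fibπ y (FibCat.fpFst g f)) : (⟨fib y (FibCat.fpFst g f), hs'⟩ : Sp S) ⟶ (yon S).obj U))
    (b := (ObjectProperty.homMk (fibπ (BasedFunctor.comp y g) f) : (⟨_, hs⟩ : Sp S) ⟶ (yon S).obj U))
    (asIso (clFun (bcF g f y))) w
  exact ⟨hs', hA', (P.arrow_mk_iso_iff i).2 hP⟩

end BaseChange

section Comp

theorem secHomP_app {F : PSp S} {V : Over S} (ξ : F.obj (op V)) {T : Over S} (k : ULift.{u + 1} (T ⟶ V)) :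
    (uliftYonedaEquiv.{u + 1}.symm ξ : (pyon S).obj V ⟶ F).app (op T) k = F.map k.down.op ξ := rfl

variable {U : Over S} (f : 𝒳 ⥤ᵇ 𝒴) (g : 𝒴 ⥤ᵇ 𝒵) (z : FibCat.overCat U ⥤ᵇ 𝒵)

/-- The fibre of a composite mapping to the fibre of the second morphism. -/
noncomputable def compF : FibCat.fp z (BasedFunctor.comp f g) ⥤ᵇ FibCat.fp z g :=
  FibCat.fpLift (FibCat.fpFst z (BasedFunctor.comp f g))
    (BasedFunctor.comp (FibCat.fpSnd z (BasedFunctor.comp f g)) f) (FibCat.fpIso z (BasedFunctor.comp f g))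

theorem clFun_compF_π : clFun (compF f g z) ≫ fibπ z g = fibπ z (BasedFunctor.comp f g) := by
  ext T c
  obtain ⟨m, hm, rfl⟩ := cl_exists (𝒳 := FibCat.fp z (BasedFunctor.comp f g)) (T := T.unop) c
  rfl

theorem clF_compF {T : Over S} (k : T ⟶ U) (x : 𝒳.obj) (hx : 𝒳.p.obj x = T)
    (φ : z.obj (ov k) ⟶ g.obj (f.obj x)) (hφ) {hφ'} :
    clF (compF f g z) T (fpEl (f := BasedFunctor.comp f g) k x hx φ hφ) =
      fpEl k (f.obj x) ((f.w_obj x).trans hx) φ hφ' := rfl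

variable {V : Over S} (l : V ⟶ U) (yv : 𝒴.obj) (hyv : 𝒴.p.obj yv = V)
  (ψ : z.obj (ov l) ⟶ g.obj yv)
  (hψ : 𝒵.p.map ψ = eqToHom (((z.w_obj (ov l)).trans (ov_base l)).trans (hyv.symm.trans (g.w_obj yv).symm)))

/-- The identification of the restricted test morphism with the image of an object. -/
noncomputable def sectionIso : BasedFunctor.comp (AlgSt.overMap l) z ≅ BasedFunctor.comp (objFun yv hyv) g :=
  haveI : IsIso (pullHom yv hyv (𝟙 V)) := by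
    have : IsIso (𝒴.p.map (pullHom yv hyv (𝟙 V))) := by rw [map_pullHom]; infer_instance
    exact isIso_of_isIso_map _
  funIso (eqToHom (congrArg (fun k => z.obj (ov k)) (Category.id_comp l)) ≫ ψ ≫ g.map (inv (pullHom yv hyv (𝟙 V))))
    (by simp [map_w, hψ])

theorem map_sectionIso_app {T : Over S} (k : T ⟶ V) :
    𝒵.p.map ((sectionIso g z l yv hyv ψ hψ).hom.toNatTrans.app (ov k)) =
      eqToHom ((((z.w_obj (ov (k ≫ l))).trans (ov_base (k ≫ l)))).trans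
        ((pull_base yv hyv k).symm.trans (g.w_obj (pull yv hyv k)).symm)) :=
  map_app _ _ (sectionIso g z l yv hyv ψ hψ).hom (ov k)

theorem sectionIso_app {T : Over S} (k : T ⟶ V) :
    (sectionIso g z l yv hyv ψ hψ).hom.toNatTrans.app (ov k) ≫ g.map (pullHom yv hyv k) =
      z.map (ovHom k rfl : ov (k ≫ l) ⟶ ov l) ≫ ψ := by
  have : IsIso (pullHom yv hyv (𝟙 V)) := by
    have : IsIso (𝒴.p.map (pullHom yv hyv (𝟙 V))) := by rw [map_pullHom]; infer_instance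
    exact isIso_of_isIso_map _
  have h1 : (sectionIso g z l yv hyv ψ hψ).hom.toNatTrans.app (ov k) ≫ g.map (objMap yv hyv (toTop (ov k))) =
      z.map ((AlgSt.overMap l).map (toTop (ov k))) ≫
        eqToHom (congrArg (fun k => z.obj (ov k)) (Category.id_comp l)) ≫ ψ ≫ g.map (inv (pullHom yv hyv (𝟙 V))) :=
    funIso_app _ _ (ov k)
  have h4 : (AlgSt.overMap l).map (toTop (ov k)) ≫ eqToHom (congrArg ov (Category.id_comp l)) =
      (ovHom k rfl : ov (k ≫ l) ⟶ ov l) := by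
    apply Over.OverMorphism.ext
    simp [AlgSt.overMap, toTop]
  generalize (sectionIso g z l yv hyv ψ hψ).hom.toNatTrans.app (ov k) = β at h1 ⊢
  have h5 : objMap yv hyv (toTop (ov k)) ≫ pullHom yv hyv (𝟙 V) = pullHom yv hyv k := objMap_comp _ _ _
  refine Eq.trans (congrArg (fun q => β ≫ g.map q) h5.symm) ?_
  rw [g.map_comp, ← h4, z.map_comp, eqToHom_map]
  calc β ≫ g.map (objMap yv hyv (toTop (ov k))) ≫ g.map (pullHom yv hyv (𝟙 V))
      = (β ≫ g.map (objMap yv hyv (toTop (ov k)))) ≫ g.map (pullHom yv hyv (𝟙 V)) := (Category.assoc _ _ _).symm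
    _ = _ := by
      rw [h1]
      simp

theorem clMap_fpEl_section {T : Over S} (k : T ⟶ V) :
    clMap k (fpEl (y := z) (f := g) l yv hyv ψ hψ) =
      fpEl (k ≫ l) (pull yv hyv k) (pull_base yv hyv k)
        ((sectionIso g z l yv hyv ψ hψ).hom.toNatTrans.app (ov k)) (map_sectionIso_app g z l yv hyv ψ hψ k) :=
  clMap_fpEl k rfl (pullHom yv hyv k) (sectionIso_app g z l yv hyv ψ hψ k).symm

/-- The fibre of the first morphism over a section of the fibre of the second. -/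
noncomputable def sectionF : FibCat.fp (objFun yv hyv) f ⥤ᵇ FibCat.fp z (BasedFunctor.comp f g) :=
  FibCat.fpLift (BasedFunctor.comp (FibCat.fpFst (objFun yv hyv) f) (AlgSt.overMap l))
    (FibCat.fpSnd (objFun yv hyv) f)
    (wL (FibCat.fpFst (objFun yv hyv) f) (sectionIso g z l yv hyv ψ hψ) ≪≫
      wR (FibCat.fpIso (objFun yv hyv) f) g)

theorem map_sectionIso_comp {T : Over S} (k : T ⟶ V) (x : 𝒳.obj) (hx : 𝒳.p.obj x = T)
    (φ : pull yv hyv k ⟶ f.obj x)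
    (hφ : 𝒴.p.map φ = eqToHom ((pull_base yv hyv k).trans (hx.symm.trans (f.w_obj x).symm))) :
    𝒵.p.map ((sectionIso g z l yv hyv ψ hψ).hom.toNatTrans.app (ov k) ≫ g.map φ) =
      eqToHom ((((z.w_obj (ov (k ≫ l))).trans (ov_base (k ≫ l)))).trans
        (hx.symm.trans ((BasedFunctor.comp f g).w_obj x).symm)) := by
  rw [Functor.map_comp, map_sectionIso_app, map_w, hφ]
  simp

theorem clF_sectionF {T : Over S} (k : T ⟶ V) (x : 𝒳.obj) (hx : 𝒳.p.obj x = T)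
    (φ : pull yv hyv k ⟶ f.obj x) (hφ) :
    clF (sectionF f g z l yv hyv ψ hψ) T (fpEl (y := objFun yv hyv) k x hx φ hφ) =
      fpEl (f := BasedFunctor.comp f g) (k ≫ l) x hx
        ((sectionIso g z l yv hyv ψ hψ).hom.toNatTrans.app (ov k) ≫ g.map φ)
        (map_sectionIso_comp f g z l yv hyv ψ hψ k x hx φ hφ) :=
  cl_eq_iff.2 ⟨fpHomMk (𝟙 _) (𝟙 _) (by
    simp [sectionF, fpObj, fpMk, FibCat.fpLift, FibCat.fpIso, BasedNatIso.mkNatIso, wL, wR, Stk.restr]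
    rfl), ((FibCat.overCat U).p.map_id _).trans rfl⟩

theorem isPullback_sectionF [hg : g.toFunctor.Faithful] :
    IsPullback (clFun (sectionF f g z l yv hyv ψ hψ)) (fibπ (objFun yv hyv) f) (clFun (compF f g z))
      (uliftYonedaEquiv.{u + 1}.symm (fpEl (y := z) (f := g) l yv hyv ψ hψ) : (pyon S).obj V ⟶ fib z g) := by
  refine isPullback_of_pointwise ?_ (fun T a a' e1 e2 => ?_) (fun T b d e => ?_)
  · ext T c
    obtain ⟨k, x, hx, φ, hφ, rfl⟩ := fpEl_exists (y := objFun yv hyv) (f := f) (T := T.unop) c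
    have hi : IsIso φ := isIso_of_vert φ hφ
    simp only [NatTrans.comp_app, TypeCat.Fun.toFun_apply, ConcreteCategory.comp_apply]
    refine Eq.trans (congrArg _ (clF_sectionF f g z l yv hyv ψ hψ k x hx φ hφ)) ?_
    refine Eq.trans (clF_compF f g z (k ≫ l) x hx _ (map_sectionIso_comp f g z l yv hyv ψ hψ k x hx φ hφ)
        (hφ' := map_sectionIso_comp f g z l yv hyv ψ hψ k x hx φ hφ)) ?_
    refine Eq.trans ?_ (secHomP_app (F := fib z g) (fpEl (y := z) (f := g) l yv hyv ψ hψ) _).symm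
    change _ = clMap (fpHom (fpEl (y := objFun yv hyv) (f := f) k x hx φ hφ)) (fpEl (y := z) (f := g) l yv hyv ψ hψ)
    rw [fpHom_fpEl, clMap_fpEl_section]
    exact (fpEl_eq_iff.2 ⟨φ, hφ, rfl⟩).symm
  · obtain ⟨k, x, hx, φ, hφ, rfl⟩ := fpEl_exists (y := objFun yv hyv) (f := f) (T := T) a
    obtain ⟨k', x', hx', φ', hφ', rfl⟩ := fpEl_exists (y := objFun yv hyv) (f := f) (T := T) a'
    obtain rfl : k = k' := (fpHom_fpEl _ _ _ _ _).symm.trans ((congrArg ULift.down e2).trans (fpHom_fpEl _ _ _ _ _))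
    have e3 := (clF_sectionF f g z l yv hyv ψ hψ k x hx φ hφ).symm.trans
      (e1.trans (clF_sectionF f g z l yv hyv ψ hψ k x' hx' φ' hφ'))
    obtain ⟨v, hv1, hv2⟩ := fpEl_eq_iff.1 e3
    refine fpEl_eq_iff.2 ⟨v, hv1, g.toFunctor.map_injective ?_⟩
    rw [← cancel_epi ((sectionIso g z l yv hyv ψ hψ).hom.toNatTrans.app (ov k)), Functor.map_comp]
    exact (Category.assoc _ _ _).symm.trans hv2
  · obtain ⟨k', x, hx, φ, hφ, rfl⟩ := fpEl_exists (y := z) (f := BasedFunctor.comp f g) (T := T) b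
    obtain ⟨k⟩ := d
    replace e : clF (compF f g z) T (fpEl (y := z) (f := BasedFunctor.comp f g) k' x hx φ hφ) =
        clMap k (fpEl (y := z) (f := g) l yv hyv ψ hψ) := e.trans (secHomP_app (F := fib z g) _ ⟨k⟩)
    rw [clMap_fpEl_section, clF_compF f g z k' x hx φ hφ (hφ' := hφ)] at e
    obtain rfl : k' = k ≫ l := (fpHom_fpEl _ _ _ _ _).symm.trans ((congrArg fpHom e).trans (fpHom_fpEl _ _ _ _ _))
    obtain ⟨a, ha, hae⟩ := fpEl_eq_iff.1 e.symm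
    refine ⟨fpEl (y := objFun yv hyv) k x hx a ha, ?_, congrArg ULift.up (fpHom_fpEl _ _ _ _ _)⟩
    refine (clF_sectionF f g z l yv hyv ψ hψ k x hx a ha).trans ?_
    exact fpEl_eq_iff.2 ⟨𝟙 x, (𝒳.p.map_id x).trans rfl, by simp [hae]⟩

end Comp

end Groth.Agent.ASt
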