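import Groth.Agent.ASt.FibMaps
import Groth.Agent.ASp.PShf
import Groth.Agent.ASp.Univ
import Groth.Prelude.Def_AlgSpCov
/-!
Base change and composition of morphisms representable by algebraic spaces.
-/

set_option backward.isDefEq.respectTransparency false
set_option backward.isDefEq.respectTransparency.types false
set_option linter.unusedSectionVars false

universe v₄ u₄ v₃ u₃ v₂ u₂ v u

open CategoryTheory CategoryTheory.Limits AlgebraicGeometry Opposite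

namespace Groth.Agent.ASt

open _root_.AlgSp

section General

variable {C : Type u} [Category.{v} C]
variable {𝒳 : BasedCategory.{v₂, u₂} C} {𝒴 : BasedCategory.{v₃, u₃} C}
  [h𝒳 : FibCat.IsFibGrpd 𝒳.p] [h𝒴 : FibCat.IsFibGrpd 𝒴.p]

theorem isEquivOver_of_bijective [𝒳.p.Faithful] [𝒴.p.Faithful] (F : 𝒳 ⥤ᵇ 𝒴)
    (hF : ∀ T : C, Function.Bijective (clF F T)) : FibCat.IsEquivOver F := by
  have : F.toFunctor.Faithful := ⟨fun {a b} m n h => 𝒳.p.map_injective (map_inj_w F h)⟩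
  have : F.toFunctor.Full := ⟨fun {a b} m => by
    have e : 𝒳.p.obj a = 𝒳.p.obj a := rfl
    let k : 𝒳.p.obj a ⟶ 𝒳.p.obj b := eqToHom (F.w_obj a).symm ≫ 𝒴.p.map m ≫ eqToHom (F.w_obj b)
    have h1 : clF F (𝒳.p.obj a) (clMap k (cl b rfl)) = clF F (𝒳.p.obj a) (cl a rfl) := by
      rw [clMap_cl_pull, clF_cl, clF_cl]
      refine cl_eq_iff.2 ⟨facMap m (F.map (pullHom b rfl k)) (eqToHom ((F.w_obj _).trans
        ((pull_base b rfl k).trans (F.w_obj a).symm))) ?_, map_facMap _ _ _ _⟩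
      simp [map_w, k]
    have h2 := (hF _).1 h1
    rw [clMap_cl_pull, eq_comm, cl_eq_iff] at h2
    obtain ⟨i, hi⟩ := h2
    refine ⟨i ≫ pullHom b rfl k, 𝒴.p.map_injective ?_⟩
    simp [map_w, hi, k]⟩
  refine isEquivOver_of_vert F fun y => ?_
  obtain ⟨c, hc⟩ := (hF (𝒴.p.obj y)).2 (cl y rfl)
  obtain ⟨x, hx, rfl⟩ := cl_exists c
  obtain ⟨a, ha⟩ := cl_eq_iff.1 hc
  have := isIso_of_vert a ha
  exact ⟨x, hx, asIso a, ha⟩

theorem faithful_fpFst {𝒵 : BasedCategory.{v₄, u₄} C} {g : 𝒵 ⥤ᵇ 𝒴} {f : 𝒳 ⥤ᵇ 𝒴}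
    [f.toFunctor.Faithful] : (FibCat.fpFst g f).toFunctor.Faithful := by
  refine ⟨fun {m n a b} h => ?_⟩
  have h₁ : a.hom.fst = b.hom.fst := h
  refine fp_hom_ext h₁ (f.toFunctor.map_injective ?_)
  have e1 := a.hom.w
  rw [h₁] at e1
  exact (cancel_epi m.obj.iso.hom).1 (e1.symm.trans b.hom.w)

end General

variable {S : Scheme.{u}} {𝒳 𝒳' 𝒴 𝒴' 𝒵 : AlgSt.Cat S} [h𝒳 : FibCat.IsFibGrpd 𝒳.p]
  [h𝒳' : FibCat.IsFibGrpd 𝒳'.p] [h𝒴 : FibCat.IsFibGrpd 𝒴.p] [h𝒴' : FibCat.IsFibGrpd 𝒴'.p]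
  [h𝒵 : FibCat.IsFibGrpd 𝒵.p]

theorem isIso_clFun_of_bijective {𝒜 ℬ : AlgSt.Cat S} [FibCat.IsFibGrpd 𝒜.p] [FibCat.IsFibGrpd ℬ.p]
    (Φ : 𝒜 ⥤ᵇ ℬ) (hbij : ∀ T, Function.Bijective (clF Φ T)) : IsIso (clFun Φ) := by
  have : ∀ T, IsIso ((clFun Φ).app T) := fun T => (isIso_iff_bijective _).2 (hbij T.unop)
  exact NatIso.isIso_of_isIso_app _

section Transfer

variable {U : Over S} {y : FibCat.overCat U ⥤ᵇ 𝒴} {f : 𝒳 ⥤ᵇ 𝒴} {y' : FibCat.overCat U ⥤ᵇ 𝒴'} {f' : 𝒳' ⥤ᵇ 𝒴'}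
  (Φ : FibCat.fp y f ⥤ᵇ FibCat.fp y' f')
  (hw : ∀ T c, fpHom (clF Φ T c) = fpHom c) (hbij : ∀ T, Function.Bijective (clF Φ T))

include hw hbij

theorem fibHas_iff_of_bijective {P : MorphismProperty (Sp S)} [P.RespectsIso] :
    FibHas P y f ↔ FibHas P y' f' := by
  have := isIso_clFun_of_bijective Φ hbij
  have hπ : fibπ y f = clFun Φ ≫ fibπ y' f' := by
    ext T c
    exact congrArg ULift.up (hw T.unop c).symm
  constructor
  · rintro ⟨hs, hA, hP⟩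
    obtain ⟨hs', hA'⟩ := IsAlgSpaceP.of_iso ⟨hs, hA⟩ (asIso (clFun Φ))
    obtain ⟨i⟩ := arrowIso_of_hom
      (a := (ObjectProperty.homMk (fibπ y f) : (⟨fib y f, hs⟩ : Sp S) ⟶ (yon S).obj U))
      (b := (ObjectProperty.homMk (fibπ y' f') : (⟨_, hs'⟩ : Sp S) ⟶ (yon S).obj U)) (asIso (clFun Φ)) hπ
    exact ⟨hs', hA', (P.arrow_mk_iso_iff i).1 hP⟩
  · rintro ⟨hs', hA', hP⟩
    obtain ⟨hs, hA⟩ := IsAlgSpaceP.of_iso ⟨hs', hA'⟩ (asIso (clFun Φ)).symm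
    obtain ⟨i⟩ := arrowIso_of_hom
      (a := (ObjectProperty.homMk (fibπ y f) : (⟨fib y f, hs⟩ : Sp S) ⟶ (yon S).obj U))
      (b := (ObjectProperty.homMk (fibπ y' f') : (⟨_, hs'⟩ : Sp S) ⟶ (yon S).obj U)) (asIso (clFun Φ)) hπ
    exact ⟨hs, hA, (P.arrow_mk_iso_iff i).2 hP⟩

/-- Transfer of a representation along a comparison of fibres, for an arbitrary property. -/
theorem exists_rep_transfer {P : MorphismProperty (Sp S)} [f.toFunctor.Faithful] [f'.toFunctor.Faithful]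
    (h : ∃ (F : AlgSp.Space S) (e : AlgSt.ofSp F.obj ⥤ᵇ FibCat.fp y' f'),
      FibCat.IsEquivOver e ∧ P (AlgSt.spMapOfOver (BasedFunctor.comp e (FibCat.fpFst y' f')))) :
    ∃ (F : AlgSp.Space S) (e : AlgSt.ofSp F.obj ⥤ᵇ FibCat.fp y f),
      FibCat.IsEquivOver e ∧ P (AlgSt.spMapOfOver (BasedFunctor.comp e (FibCat.fpFst y f))) := by
  obtain ⟨F, e, he, hP⟩ := h
  obtain ⟨G, hG, -, ⟨β⟩⟩ := isEquivOver_symm (isEquivOver_of_bijective Φ hbij)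
  refine ⟨F, BasedFunctor.comp e G, isEquivOver_comp he hG, ?_⟩
  have : AlgSt.spMapOfOver (BasedFunctor.comp (BasedFunctor.comp e G) (FibCat.fpFst y f)) =
      AlgSt.spMapOfOver (BasedFunctor.comp e (FibCat.fpFst y' f')) := by
    refine ObjectProperty.hom_ext _ ((spMapOfOver_eq (BasedFunctor.comp e G)).trans
      (Eq.trans ?_ (spMapOfOver_eq e).symm))
    ext T s
    refine congrArg ULift.up ?_
    change fpHom (clF G T.unop (cl (e.obj ⟨T.unop, s⟩) (e.w_obj _))) = fpHom (cl (e.obj ⟨T.unop, s⟩) _)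
    rw [← hw, ← clF_comp, clF_congr β.hom]
    rfl
  rw [this]
  exact hP

end Transfer

section BaseChange

variable (g : 𝒵 ⥤ᵇ 𝒴) {f : 𝒳 ⥤ᵇ 𝒴}

theorem fpHom_bcF {U : Over S} (y : FibCat.overCat U ⥤ᵇ 𝒵) (T : Over S)
    (c : ClType (FibCat.fp y (FibCat.fpFst g f)) T) : fpHom (clF (bcF g f y) T c) = fpHom c := by
  obtain ⟨m, hm, rfl⟩ := cl_exists c
  rfl

theorem repByAlgSpWith_fpFst {P : MorphismProperty (Sp S)} (hf : AlgSt.RepByAlgSpWith P f) :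
    AlgSt.RepByAlgSpWith P (FibCat.fpFst g f) := fun U y => by
  have := faithful_of_repByAlgSp1 (repByAlgSp1_of_with hf)
  have : (FibCat.fpFst g f).toFunctor.Faithful := faithful_fpFst
  exact exists_rep_transfer (bcF g f y) (fpHom_bcF g y) (bijective_clF_bcF g f y) (hf U _)

theorem repByAlgSp1_iff_top {f : 𝒳 ⥤ᵇ 𝒴} : AlgSt.RepByAlgSp1 f ↔ AlgSt.RepByAlgSpWith ⊤ f :=
  ⟨fun h U y => let ⟨F, e, he⟩ := h U y; ⟨F, e, he, trivial⟩, repByAlgSp1_of_with⟩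

theorem repByAlgSp1_fpFst (hf : AlgSt.RepByAlgSp1 f) : AlgSt.RepByAlgSp1 (FibCat.fpFst g f) :=
  repByAlgSp1_of_with (repByAlgSpWith_fpFst g (repByAlgSp1_iff_top.1 hf))

end BaseChange

section Composition

/-- The properties of morphisms of spaces for which the calculus works: stable under composition and
detected on an etale chart of the target. -/
structure CompLocal (P : MorphismProperty (Sp S)) : Prop where
  comp : ∀ ⦃X Y Z : Sp S⦄, IsAlgSpace X → IsAlgSpace Y → IsAlgSpace Z →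
    ∀ (a : X ⟶ Y) (b : Y ⟶ Z), P a → P b → P (a ≫ b)
  loc : ∀ ⦃X Y : Sp S⦄, IsAlgSpace X → IsAlgSpace Y → ∀ (f : X ⟶ Y) ⦃V : Over S⦄ (b : (yon S).obj V ⟶ Y),
    RepWith @Etale b → RepWith @Surjective b → ∀ ⦃T : Sp S⦄ (fst : T ⟶ X) (snd : T ⟶ (yon S).obj V),
      IsAlgSpace T → IsPullback fst snd f b → P snd → P f

theorem compLocal_of_fpqc {P : MorphismProperty (Sp S)}
    (hc : ∀ ⦃X Y Z : Sp S⦄, IsAlgSpace X → IsAlgSpace Y → IsAlgSpace Z →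
      ∀ (a : X ⟶ Y) (b : Y ⟶ Z), P a → P b → P (a ≫ b))
    (h : IsLocalOnBase IsFpqcCover P) : CompLocal P :=
  ⟨hc, fun _ _ hX hY f _ b hb hbs _ fst snd hT sq hP =>
    (h _ _ hY (fun _ => IsAlgSpace.yon_obj _) (Groth.Agent.ASp.isFpqcCover_of_chart hY hb hbs) f hX
      (fun _ => _) (fun _ => snd) (fun _ => fst) (fun _ => hT) (fun _ => sq)).2 fun _ => hP⟩

theorem compLocal_of_fppf {P : MorphismProperty (Sp S)}
    (hc : ∀ ⦃X Y Z : Sp S⦄, IsAlgSpace X → IsAlgSpace Y → IsAlgSpace Z →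
      ∀ (a : X ⟶ Y) (b : Y ⟶ Z), P a → P b → P (a ≫ b))
    (h : IsLocalOnBase IsFppfCover P) : CompLocal P :=
  ⟨hc, fun _ _ hX hY f V b hb hbs _ fst snd hT sq hP =>
    (h (fun _ : PUnit.{u + 1} => (yon S).obj V) (fun _ => b) hY (fun _ => IsAlgSpace.yon_obj _)
      ⟨fun _ => ⟨Groth.Agent.ASp.locP_of_repWith (Groth.Agent.ASp.repWith_mono
          (fun _ _ g (hg : Etale g) => inferInstanceAs (Flat g)) hb),
        Groth.Agent.ASp.locP_of_repWith (Groth.Agent.ASp.repWith_mono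
          (fun _ _ g (hg : Etale g) => inferInstanceAs (LocallyOfFinitePresentation g)) hb)⟩,
        fun y => ⟨PUnit.unit, Groth.Agent.ASp.surjective_map_of_repWith hbs y⟩⟩ f hX
      (fun _ => _) (fun _ => snd) (fun _ => fst) (fun _ => hT) (fun _ => sq)).2 fun _ => hP⟩

theorem compLocal_top : CompLocal (⊤ : MorphismProperty (Sp S)) :=
  ⟨fun _ _ _ _ _ _ _ _ _ _ => trivial, fun _ _ _ _ _ _ _ _ _ _ _ _ _ _ _ => trivial⟩

variable {f : 𝒳 ⥤ᵇ 𝒴} {g : 𝒴 ⥤ᵇ 𝒵}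

theorem exists_isPullback_compF [g.toFunctor.Faithful] {U : Over S} (z : FibCat.overCat U ⥤ᵇ 𝒵) {V : Over S}
    (ξ : (pyon S).obj V ⟶ fib z g) :
    ∃ (y : FibCat.overCat V ⥤ᵇ 𝒴) (a : fib y f ⟶ fib z (BasedFunctor.comp f g)),
      IsPullback a (fibπ y f) (clFun (compF f g z)) ξ := by
  obtain ⟨l, yv, hyv, ψ, hψ, hel⟩ := fpEl_exists (𝒳 := 𝒴) (𝒴 := 𝒵) (y := z) (f := g) (T := V)
    (uliftYonedaEquiv.{u + 1} ξ : ClType (FibCat.fp z g) V)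
  refine ⟨objFun yv hyv, clFun (sectionF f g z l yv hyv ψ hψ), ?_⟩
  have : ξ = uliftYonedaEquiv.{u + 1}.symm (fpEl (y := z) (f := g) l yv hyv ψ hψ) :=
    uliftYonedaEquiv.eq_symm_apply.2 hel
  rw [this]
  exact isPullback_sectionF f g z l yv hyv ψ hψ

theorem repByAlgSpWith_comp {P : MorphismProperty (Sp S)} [P.RespectsIso] (hP : CompLocal P)
    (hf : AlgSt.RepByAlgSpWith P f) (hg : AlgSt.RepByAlgSpWith P g) :
    AlgSt.RepByAlgSpWith P (BasedFunctor.comp f g) := by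
  rw [repByAlgSpWith_iff] at hf hg ⊢
  obtain ⟨hf1, hf2⟩ := hf
  obtain ⟨hg1, hg2⟩ := hg
  refine ⟨inferInstanceAs (f.toFunctor ⋙ g.toFunctor).Faithful, fun U z => ?_⟩
  obtain ⟨hs, hA, hPg⟩ := hg2 U z
  have hq : RepBySp (clFun (compF f g z)) := fun V ξ F' fst snd sq => by
    obtain ⟨y, a, sq'⟩ := exists_isPullback_compF (f := f) z ξ
    obtain ⟨h1, h2, -⟩ := hf2 V y
    exact IsAlgSpaceP.of_iso ⟨h1, h2⟩ (sq'.isoIsPullback _ _ sq)
  obtain ⟨hs', hA'⟩ := Groth.Agent.ASp.isAlgSpaceP_of_repBySp hq ⟨hs, hA⟩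
  let F : Sp S := ⟨fib z g, hs⟩
  let X : Sp S := ⟨fib z (BasedFunctor.comp f g), hs'⟩
  let q : X ⟶ F := ObjectProperty.homMk (clFun (compF f g z))
  have hPq : P q := by
    obtain ⟨V, p, hpe, hps⟩ := hA.atlas
    obtain ⟨y, a, sq⟩ := exists_isPullback_compF (f := f) z p.hom
    obtain ⟨h1, h2, h3⟩ := hf2 V y
    exact hP.loc hA' hA q p hpe hps (ObjectProperty.homMk a : (⟨fib y f, h1⟩ : Sp S) ⟶ X)
      (ObjectProperty.homMk (fibπ y f)) h2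
      (IsPullback.of_map_of_faithful (sheafToPresheaf (J S) (Type (u + 1))) sq) h3
  refine ⟨hs', hA', ?_⟩
  have : (ObjectProperty.homMk (fibπ z (BasedFunctor.comp f g)) : X ⟶ (yon S).obj U) =
      q ≫ ObjectProperty.homMk (fibπ z g) := ObjectProperty.hom_ext _ (clFun_compF_π f g z).symm
  rw [this]
  exact hP.comp hA' hA (IsAlgSpace.yon_obj U) _ _ hPq hPg

theorem repByAlgSp1_comp (hf : AlgSt.RepByAlgSp1 f) (hg : AlgSt.RepByAlgSp1 g) :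
    AlgSt.RepByAlgSp1 (BasedFunctor.comp f g) :=
  repByAlgSp1_of_with (repByAlgSpWith_comp compLocal_top (repByAlgSp1_iff_top.1 hf) (repByAlgSp1_iff_top.1 hg))

end Composition

end Groth.Agent.ASt
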