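import Groth.Agent.ASt.Generic
/-!
Cancellation of properties inherited from composites.
-/

set_option backward.isDefEq.respectTransparency false
set_option backward.isDefEq.respectTransparency.types false
set_option linter.unusedSectionVars false

universe u

open CategoryTheory CategoryTheory.Limits AlgebraicGeometry Opposite

namespace Groth.Agent.ASt

open _root_.AlgSp

variable {S : Scheme.{u}} {𝒳 𝒴 𝒵 : AlgSt.Cat S} [h𝒳 : FibCat.IsFibGrpd 𝒳.p] [h𝒴 : FibCat.IsFibGrpd 𝒴.p]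
  [h𝒵 : FibCat.IsFibGrpd 𝒵.p] {f : 𝒳 ⥤ᵇ 𝒴} {g : 𝒴 ⥤ᵇ 𝒵}

/-- Cancellation of a property inherited from composites. -/
theorem repByAlgSpWith_cancel_of_comp {P : MorphismProperty (Sp S)} [P.RespectsIso]
    (hPb : ∀ ⦃X₁ Y₁ X₂ Y₂ : Sp S⦄, IsAlgSpace X₁ → IsAlgSpace Y₁ → IsAlgSpace X₂ →
      IsAlgSpace Y₂ → ∀ (a : X₁ ⟶ Y₁) (b : Y₂ ⟶ Y₁) (a' : X₂ ⟶ Y₂) (b' : X₂ ⟶ X₁),
      IsPullback b' a' a b → P a → P a')
    (hcancel : ∀ ⦃X Y Z : Sp S⦄, IsAlgSpace X → IsAlgSpace Y → IsAlgSpace Z →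
      ∀ (a : X ⟶ Y) (b : Y ⟶ Z), P (a ≫ b) → P a)
    (hf : AlgSt.RepByAlgSp1 f) (hg : AlgSt.RepByAlgSp1 g)
    (hfg : AlgSt.RepByAlgSpWith P (BasedFunctor.comp f g)) : AlgSt.RepByAlgSpWith P f := by
  rw [repByAlgSp1_iff] at hg
  rw [repByAlgSpWith_iff] at hfg
  obtain ⟨hg1, hg2⟩ := hg
  obtain ⟨hfa, hfs⟩ := repByAlgSp1_iff.1 hf
  refine repByAlgSpWith_iff.2 ⟨hfa, fun U y => ?_⟩
  let z : FibCat.overCat U ⥤ᵇ 𝒵 := BasedFunctor.comp y g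
  let yv := y.obj (ov (𝟙 U))
  let hyv : 𝒴.p.obj yv = U := y.w_obj (ov (𝟙 U))
  refine fibHas_congr (objFunIso y) ?_
  let ψ : z.obj (ov (𝟙 U)) ⟶ g.obj yv := 𝟙 _
  have hψ : 𝒵.p.map ψ = eqToHom (((z.w_obj (ov (𝟙 U))).trans (ov_base (𝟙 U))).trans
      (hyv.symm.trans (g.w_obj yv).symm)) := 𝒵.p.map_id _
  have sq := isPullback_sectionF f g z (𝟙 U) yv hyv ψ hψ
  obtain ⟨hs₁, hA₁⟩ := hg2 U z
  obtain ⟨hs₂, hA₂, hP₂⟩ := hfg.2 U z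
  obtain ⟨hs, hA⟩ := hfs U (objFun yv hyv)
  let F₁ : Sp S := ⟨fib z g, hs₁⟩
  let F₂ : Sp S := ⟨fib z (BasedFunctor.comp f g), hs₂⟩
  let q : F₂ ⟶ F₁ := ObjectProperty.homMk (clFun (compF f g z))
  have hq : P q := by
    refine hcancel hA₂ hA₁ (IsAlgSpace.yon_obj U) q (ObjectProperty.homMk (fibπ z g)) ?_
    have : (ObjectProperty.homMk (fibπ z (BasedFunctor.comp f g)) : F₂ ⟶ (yon S).obj U) =
        q ≫ ObjectProperty.homMk (fibπ z g) := ObjectProperty.hom_ext _ (clFun_compF_π f g z).symm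
    rwa [← this]
  exact ⟨hs, hA, hPb hA₂ hA₁ hA (IsAlgSpace.yon_obj U) q
    (ObjectProperty.homMk (uliftYonedaEquiv.{u + 1}.symm (fpEl (y := z) (f := g) (𝟙 U) yv hyv ψ hψ)) :
      (yon S).obj U ⟶ F₁)
    _ (ObjectProperty.homMk (clFun (sectionF f g z (𝟙 U) yv hyv ψ hψ)) : (⟨fib (objFun yv hyv) f, hs⟩ : Sp S) ⟶ F₂)
    (IsPullback.of_map_of_faithful (sheafToPresheaf (J S) (Type (u + 1))) sq) hq⟩

end Groth.Agent.ASt
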