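import Groth.Agent.ASt.Inv
/-!
Graphs of morphisms, cancellation along a morphism with representable diagonal.
-/

set_option backward.isDefEq.respectTransparency false
set_option backward.isDefEq.respectTransparency.types false
set_option linter.unusedSectionVars false

universe v₅ u₅ v₄ u₄ v₃ u₃ v₂ u₂ v u

open CategoryTheory CategoryTheory.Limits AlgebraicGeometry Opposite

namespace Groth.Agent.ASt

open _root_.AlgSp

section General

variable {C : Type u} [Category.{v} C]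
variable {𝒳 : BasedCategory.{v₂, u₂} C} {𝒴 : BasedCategory.{v₃, u₃} C} {𝒵 : BasedCategory.{v₄, u₄} C}
variable (f : 𝒳 ⥤ᵇ 𝒴) (g : 𝒴 ⥤ᵇ 𝒵)

/-- The graph of `f` over the target of `g`. -/
noncomputable def graph : 𝒳 ⥤ᵇ FibCat.fp g (BasedFunctor.comp f g) :=
  FibCat.fpLift f (BasedFunctor.id 𝒳) (Iso.refl _)

theorem graph_fst : BasedFunctor.comp (graph f g) (FibCat.fpFst g (BasedFunctor.comp f g)) = f :=
  basedFunctor_ext rfl

/-- `(a, x, e) ↦ (a, f x, e)`. -/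
noncomputable def graphTo : FibCat.fp g (BasedFunctor.comp f g) ⥤ᵇ FibCat.fp g g :=
  FibCat.fpLift (FibCat.fpFst g (BasedFunctor.comp f g))
    (BasedFunctor.comp (FibCat.fpSnd g (BasedFunctor.comp f g)) f) (FibCat.fpIso g (BasedFunctor.comp f g))

theorem graph_graphTo :
    BasedFunctor.comp (graph f g) (graphTo f g) = BasedFunctor.comp f (FibCat.diag g) :=
  basedFunctor_ext rfl

instance faithful_diag : (FibCat.diag g).toFunctor.Faithful :=
  ⟨fun h => congrArg (fun k => k.hom.fst) h⟩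

instance faithful_graph : (graph f g).toFunctor.Faithful :=
  ⟨fun h => congrArg (fun k => k.hom.snd) h⟩

end General

section Instance

variable {C : Type u} [Category.{v} C] {A B D E F : BasedCategory.{v₂, u₂} C} [FibCat.IsFibGrpd A.p]
  [FibCat.IsFibGrpd B.p] [FibCat.IsFibGrpd D.p] [FibCat.IsFibGrpd E.p] [FibCat.IsFibGrpd F.p]
  {D' : BasedCategory.{v₃, u₃} C} [FibCat.IsFibGrpd D'.p]

/-- A fibre product over a fibre product. -/
instance isFibGrpd_fp_fp {a : D ⥤ᵇ F} {b : E ⥤ᵇ F} {y : D' ⥤ᵇ FibCat.fp a b} {f : B ⥤ᵇ FibCat.fp a b} :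
    FibCat.IsFibGrpd (FibCat.fp y f).p := isFibGrpd_fp

end Instance

variable {S : Scheme.{u}} {𝒳 𝒴 𝒵 : AlgSt.Cat S} [h𝒳 : FibCat.IsFibGrpd 𝒳.p] [h𝒴 : FibCat.IsFibGrpd 𝒴.p]
  [h𝒵 : FibCat.IsFibGrpd 𝒵.p]

section Fst

variable {F : 𝒳 ⥤ᵇ 𝒵} {G : 𝒴 ⥤ᵇ 𝒵}

theorem isIso_fp_fst {m n : (FibCat.fp F G).obj} (φ : m ⟶ n) {e : (FibCat.fp F G).p.obj m = (FibCat.fp F G).p.obj n}
    (h : (FibCat.fp F G).p.map φ = eqToHom e) : IsIso φ.hom.fst :=
  isIso_of_vert φ.hom.fst (e := e) h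

theorem isIso_fp_snd {m n : (FibCat.fp F G).obj} (φ : m ⟶ n) {e : (FibCat.fp F G).p.obj m = (FibCat.fp F G).p.obj n}
    (h : (FibCat.fp F G).p.map φ = eqToHom e) : IsIso φ.hom.snd :=
  isIso_of_vert φ.hom.snd (e := (fp_snd_base m).trans (e.trans (fp_snd_base n).symm)) (by
    have h' : 𝒳.p.map φ.hom.fst = eqToHom e := h
    rw [fp_map_snd, h']; simp)

end Fst

section Graph

variable (f : 𝒳 ⥤ᵇ 𝒴) (g : 𝒴 ⥤ᵇ 𝒵) {U : Over S}
  (w : FibCat.overCat U ⥤ᵇ FibCat.fp g (BasedFunctor.comp f g))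

/-- Fibres of the graph compared with fibres of the diagonal. -/
noncomputable def graphF :
    FibCat.fp w (graph f g) ⥤ᵇ FibCat.fp (BasedFunctor.comp w (graphTo f g)) (FibCat.diag g) :=
  FibCat.fpLift (FibCat.fpFst w (graph f g)) (BasedFunctor.comp (FibCat.fpSnd w (graph f g)) f)
    (wR (FibCat.fpIso w (graph f g)) (graphTo f g))

theorem clF_graphF {T : Over S} (k : T ⟶ U) (x : 𝒳.obj) (hx : 𝒳.p.obj x = T)
    (φ : w.obj (ov k) ⟶ (graph f g).obj x) (hφ) {hφ'} :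
    clF (graphF f g w) T (fpEl k x hx φ hφ) =
      fpEl (y := BasedFunctor.comp w (graphTo f g)) (f := FibCat.diag g) k (f.obj x) ((f.w_obj x).trans hx)
        ((graphTo f g).map φ) hφ' :=
  cl_eq_iff.2 ⟨fpHomMk (𝟙 _) (𝟙 _) (by
    simp [graphF, fpObj, fpMk, FibCat.fpLift, FibCat.fpIso, BasedNatIso.mkNatIso, wR]), ((FibCat.overCat U).p.map_id _).trans rfl⟩

theorem fpHom_graphF (T : Over S) (c : ClType (FibCat.fp w (graph f g)) T) :
    fpHom (clF (graphF f g w) T c) = fpHom c := by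
  obtain ⟨m, hm, rfl⟩ := cl_exists c
  rfl

theorem map_graphTo_vert {T : Over S} {k : T ⟶ U} {x : 𝒳.obj} (hx : 𝒳.p.obj x = T)
    {φ : w.obj (ov k) ⟶ (graph f g).obj x} (hφ : (FibCat.fp g (BasedFunctor.comp f g)).p.map φ =
      eqToHom (((w.w_obj (ov k)).trans (ov_base k)).trans (hx.symm.trans ((graph f g).w_obj x).symm))) :
    (FibCat.fp g g).p.map ((graphTo f g).map φ) =
      eqToHom ((((BasedFunctor.comp w (graphTo f g)).w_obj (ov k)).trans (ov_base k)).trans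
        (((f.w_obj x).trans hx).symm.trans ((FibCat.diag g).w_obj (f.obj x)).symm)) :=
  hφ

theorem bijective_graphF (T : Over S) : Function.Bijective (clF (graphF f g w) T) := by
  constructor
  · intro c c' e
    obtain ⟨k, x, hx, φ, hφ, rfl⟩ := fpEl_exists c
    obtain ⟨k', x', hx', φ', hφ', rfl⟩ := fpEl_exists c'
    rw [clF_graphF f g w k x hx φ hφ (hφ' := map_graphTo_vert f g w hx hφ),
      clF_graphF f g w k' x' hx' φ' hφ' (hφ' := map_graphTo_vert f g w hx' hφ')] at e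
    obtain rfl : k = k' := (fpHom_fpEl _ _ _ _ _).symm.trans ((congrArg fpHom e).trans (fpHom_fpEl _ _ _ _ _))
    obtain ⟨b, -, hbe⟩ := fpEl_eq_iff.1 e
    have hb1 : φ.hom.fst ≫ b = φ'.hom.fst := congrArg (fun m => m.hom.fst) hbe
    have hb2 : f.map φ.hom.snd ≫ b = f.map φ'.hom.snd := congrArg (fun m => m.hom.snd) hbe
    have := isIso_fp_snd φ hφ
    have hv : f.map (inv φ.hom.snd ≫ φ'.hom.snd) = b := by
      rw [Functor.map_comp, ← hb2]
      simp
    refine fpEl_eq_iff.2 ⟨inv φ.hom.snd ≫ φ'.hom.snd, ?_, fp_hom_ext ?_ ?_⟩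
    · have e1 := fp_map_snd φ
      have e2 := fp_map_snd φ'
      have hf1 : 𝒴.p.map φ.hom.fst = eqToHom _ := hφ
      have hf2 : 𝒴.p.map φ'.hom.fst = eqToHom _ := hφ'
      rw [Functor.map_comp, Functor.map_inv]
      simp [e1, e2, hf1, hf2]
    · change φ.hom.fst ≫ f.map (inv φ.hom.snd ≫ φ'.hom.snd) = _
      rw [hv, hb1]
    · exact IsIso.hom_inv_id_assoc φ.hom.snd φ'.hom.snd
  · intro c
    obtain ⟨k, y, hy, ψ, hψ, rfl⟩ := fpEl_exists c
    have := isIso_fp_fst ψ hψ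
    have := isIso_fp_snd ψ hψ
    let m := w.obj (ov k)
    let x := m.obj.snd
    have hxT : 𝒳.p.obj x = T := (fp_snd_base m).trans ((w.w_obj (ov k)).trans (ov_base k))
    let φ : m ⟶ (graph f g).obj x := fpHomMk (ψ.hom.fst ≫ inv ψ.hom.snd) (𝟙 x) (by
      have w1 : g.map ψ.hom.fst ≫ 𝟙 (g.obj y) = m.obj.iso.hom ≫ g.map ψ.hom.snd := ψ.hom.w
      replace w1 : g.map ψ.hom.fst = m.obj.iso.hom ≫ g.map ψ.hom.snd := (Category.comp_id _).symm.trans w1
      have e : g.map (ψ.hom.fst ≫ inv ψ.hom.snd) = m.obj.iso.hom := by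
        rw [g.map_comp, w1, Category.assoc, ← g.map_comp, IsIso.hom_inv_id, g.map_id]
        exact Category.comp_id _
      exact (Category.comp_id _).trans (e.trans ((Category.comp_id _).symm.trans
        (congrArg (fun r => m.obj.iso.hom ≫ r) ((BasedFunctor.comp f g).toFunctor.map_id x).symm))))
    have hφ : (FibCat.fp g (BasedFunctor.comp f g)).p.map φ =
        eqToHom (((w.w_obj (ov k)).trans (ov_base k)).trans (hxT.symm.trans ((graph f g).w_obj x).symm)) := by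
      change 𝒴.p.map (ψ.hom.fst ≫ inv ψ.hom.snd) = _
      have hf1 : 𝒴.p.map ψ.hom.fst = eqToHom _ := hψ
      have e1 := fp_map_snd ψ
      rw [Functor.map_comp, Functor.map_inv]
      simp [e1, hf1]
    refine ⟨fpEl k x hxT φ hφ, ?_⟩
    rw [clF_graphF f g w k x hxT φ hφ (hφ' := map_graphTo_vert f g w hxT hφ)]
    refine fpEl_eq_iff.2 ⟨ψ.hom.snd, ?_, fp_hom_ext ?_ ?_⟩
    · have hf1 : 𝒴.p.map ψ.hom.fst = eqToHom _ := hψ
      have e1 := fp_map_snd ψ
      simp [e1, hf1]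
    · change (ψ.hom.fst ≫ inv ψ.hom.snd) ≫ ψ.hom.snd = ψ.hom.fst
      simp
    · change f.map (𝟙 x) ≫ ψ.hom.snd = ψ.hom.snd
      simp

end Graph

/-- The graph inherits the property of the diagonal. -/
theorem repByAlgSpWith_graph {P : MorphismProperty (Sp S)} (f : 𝒳 ⥤ᵇ 𝒴) {g : 𝒴 ⥤ᵇ 𝒵}
    (hΔ : AlgSt.RepByAlgSpWith P (FibCat.diag g)) : AlgSt.RepByAlgSpWith P (graph f g) :=
  fun _ w => exists_rep_transfer (graphF f g w) (fpHom_graphF f g w) (bijective_graphF f g w) (hΔ _ _)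

theorem repByAlgSpWith_of_comp {P : MorphismProperty (Sp S)} [P.RespectsIso] (hP : CompLocal P)
    {f : 𝒳 ⥤ᵇ 𝒴} {g : 𝒴 ⥤ᵇ 𝒵} (hfg : AlgSt.RepByAlgSpWith P (BasedFunctor.comp f g))
    (hΔ : AlgSt.RepByAlgSpWith P (FibCat.diag g)) : AlgSt.RepByAlgSpWith P f :=
  graph_fst f g ▸ repByAlgSpWith_comp hP (repByAlgSpWith_graph f hΔ) (repByAlgSpWith_fpFst g hfg)

theorem repByAlgSp1_of_comp {f : 𝒳 ⥤ᵇ 𝒴} {g : 𝒴 ⥤ᵇ 𝒵} (hfg : AlgSt.RepByAlgSp1 (BasedFunctor.comp f g))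
    (hΔ : AlgSt.RepByAlgSp1 (FibCat.diag g)) : AlgSt.RepByAlgSp1 f :=
  repByAlgSp1_of_with (repByAlgSpWith_of_comp compLocal_top (repByAlgSp1_iff_top.1 hfg)
    (repByAlgSp1_iff_top.1 hΔ))

/-! Slices and the base are spaces. -/

theorem repByAlgSp_overCat (U : Over S) : AlgSt.RepByAlgSp (FibCat.overCat U) := by
  refine repByAlgSp_iff.2 ⟨inferInstance, ?_⟩
  let α : Cl (FibCat.overCat U) ⟶ (pyon S).obj U :=
    { app := fun T => ↾(fun c => ⟨overHom c⟩)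
      naturality := fun A B h => by ext c; exact congrArg ULift.up (overHom_clMap h.unop c) }
  have : ∀ T, IsIso (α.app T) := fun T => (isIso_iff_bijective _).2
    ⟨fun a b e => (bijective_overHom T.unop).1 (congrArg ULift.down e),
      fun ⟨k⟩ => by
        obtain ⟨c, hc⟩ := (bijective_overHom T.unop).2 k
        exact ⟨c, congrArg ULift.up hc⟩⟩
  have : IsIso α := NatIso.isIso_of_isIso_app _
  exact ((isAlgSpaceP_obj_iff ((yon S).obj U)).2 (IsAlgSpace.yon_obj U)).of_iso (asIso α).symm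

theorem repByAlgSp_selfOver : AlgSt.RepByAlgSp (FibCat.selfOver (Over S)) := by
  obtain ⟨F, e, he⟩ := repByAlgSp_overCat (Over.mk (𝟙 S))
  refine ⟨F, BasedFunctor.comp e (FibCat.toSelf _), isEquivOver_comp he
    (isEquivOver_of_bijective _ fun T => ⟨fun a b _ => ?_, fun c => ?_⟩)⟩
  · exact (bijective_overHom T).1 (Over.OverMorphism.ext (by
      simpa using (Over.w (overHom a)).trans (Over.w (overHom b)).symm))
  · obtain ⟨t, ht, rfl⟩ := cl_exists c
    refine ⟨cl (ov (Over.homMk T.hom : T ⟶ Over.mk (𝟙 S))) rfl, cl_eq_iff.2 ⟨eqToHom ?_, ?_⟩⟩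
    · exact ht.symm
    · exact eqToHom_map _ _

theorem repByAlgSp1_comp_toSelf {U : Over S} (x : FibCat.overCat U ⥤ᵇ 𝒳) :
    AlgSt.RepByAlgSp1 (BasedFunctor.comp x (FibCat.toSelf 𝒳)) :=
  repByAlgSp1_of_repByAlgSp (repByAlgSp_overCat U) repByAlgSp_selfOver _

theorem repByAlgSp1_of_diag (hΔ : AlgSt.RepByAlgSp1 (FibCat.diag (FibCat.toSelf 𝒳))) {U : Over S}
    (x : FibCat.overCat U ⥤ᵇ 𝒳) : AlgSt.RepByAlgSp1 x :=
  repByAlgSp1_of_comp (repByAlgSp1_comp_toSelf x) hΔ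

end Groth.Agent.ASt
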