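import Groth.Agent.ASt.Local
import Groth.Agent.ASt.Diag
/-!
Smooth charts of representable morphisms of algebraic stacks.
-/

set_option backward.isDefEq.respectTransparency false
set_option backward.isDefEq.respectTransparency.types false
set_option linter.unusedSectionVars false

universe u

open CategoryTheory CategoryTheory.Limits AlgebraicGeometry Opposite

namespace Groth.Agent.ASt

open _root_.AlgSp Groth.Agent.ASp

variable {S : Scheme.{u}}

theorem repBySpWith_of_repWith {M : MorphismProperty Scheme.{u}} {P : MorphismProperty (Sp S)} [P.RespectsIso]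
    {F G : Sp S} {a : F ⟶ G} (ha : RepWith M a)
    (hP : ∀ {V T : Over S} (v : V ⟶ T), M v.left → P ((yon S).map v)) : RepBySpWith P a.hom := by
  intro T ξ F' fst snd sq
  obtain ⟨W, w1, w2, hW⟩ : ∃ (W : Over S) (w1 : (yon S).obj W ⟶ F) (w2 : W ⟶ T),
      IsPullback w1 ((yon S).map w2) a (ObjectProperty.homMk ξ : (yon S).obj T ⟶ G) :=
    ⟨_, _, _, ha.1.isPullback _⟩
  let i := (hW.map (sheafToPresheaf (J S) (Type (u + 1)))).isoIsPullback _ _ sq
  obtain ⟨hs, hA⟩ := ((isAlgSpaceP_obj_iff ((yon S).obj W)).2 (IsAlgSpace.yon_obj W)).of_iso i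
  obtain ⟨j⟩ := arrowIso_of_hom (a := (yon S).map w2)
    (b := (ObjectProperty.homMk snd : (⟨F', hs⟩ : Sp S) ⟶ (yon S).obj T)) i
    (IsPullback.isoIsPullback_hom_snd _ _ _ _).symm
  exact ⟨hs, hA, (P.arrow_mk_iso_iff j).1 (hP w2 (ha.2 _ _ _ hW))⟩

theorem compLocal_surjective : CompLocal (IsSurjectiveMor : MorphismProperty (Sp S)) :=
  ⟨fun _ _ _ _ _ _ _ _ => isSurjectiveMor_comp, fun X Y _ _ f V b hb hbs T fst snd _ sq hP => by
    intro z
    obtain ⟨w, rfl⟩ := surjective_map_of_repWith hbs z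
    obtain ⟨t, rfl⟩ := hP w
    exact ⟨Points.map fst t, by rw [← Points.map_comp, sq.w, Points.map_comp]⟩⟩

variable {𝒳 𝒴 : AlgSt.Cat S} [h𝒳 : FibCat.IsFibGrpd 𝒳.p] [h𝒴 : FibCat.IsFibGrpd 𝒴.p] {f : 𝒳 ⥤ᵇ 𝒴}

/-- An etale chart of a space presenting a category. -/
theorem exists_chart_of_fib (hf : AlgSt.RepByAlgSp1 f) {V : Over S} (y : FibCat.overCat V ⥤ᵇ 𝒴) :
    ∃ (hs : Presheaf.IsSheaf (J S) (fib y f)) (_ : IsAlgSpace (⟨fib y f, hs⟩ : Sp S)) (U : Over S)
      (p : (yon S).obj U ⟶ (⟨fib y f, hs⟩ : Sp S)) (E : FibCat.overCat U ⥤ᵇ FibCat.fp y f) (h : U ⟶ V),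
      RepWith @Etale p ∧ RepWith @Surjective p ∧
      p ≫ ObjectProperty.homMk (fibπ y f) = (yon S).map h ∧
      Nonempty (BasedFunctor.comp E (FibCat.fpFst y f) ≅ AlgSt.overMap h) ∧
      (∀ {T : Over S} (k : T ⟶ U),
        p.hom.app (op T) ⟨k⟩ = cl (E.obj (ov k)) ((E.w_obj (ov k)).trans (ov_base k))) ∧
      ∀ {P : MorphismProperty (Sp S)} [P.RespectsIso] {M : MorphismProperty Scheme.{u}}, RepWith M p →
        (∀ {A B : Over S} (v : A ⟶ B), M v.left → P ((yon S).map v)) → AlgSt.RepByAlgSpWith P E := by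
  obtain ⟨hfa, hfs⟩ := repByAlgSp1_iff.1 hf
  obtain ⟨hs, hA⟩ := hfs V y
  obtain ⟨U, p, hpe, hps⟩ := hA.atlas
  obtain ⟨h, hh⟩ := (yon S).map_surjective
    (p ≫ (ObjectProperty.homMk (fibπ y f) : (⟨fib y f, hs⟩ : Sp S) ⟶ (yon S).obj V))
  obtain ⟨m, hm, hc⟩ := cl_exists (𝒳 := FibCat.fp y f) (T := U) (uliftYonedaEquiv.{u + 1} p.hom)
  haveI : FibCat.IsFibGrpd (FibCat.fp y f).p := isFibGrpd_fp
  haveI : (FibCat.fp y f).p.Faithful := faithful_fp
  let E : FibCat.overCat U ⥤ᵇ FibCat.fp y f := objFun m hm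
  have he : fpHom (cl m hm : ClType (FibCat.fp y f) U) = h := by
    rw [← hc]
    have e := congrArg (fun k : (yon S).obj U ⟶ (yon S).obj V => (uliftYonedaEquiv.{u + 1} k.hom).down) hh
    exact e.symm.trans (by simp [uliftYonedaEquiv]; exact Category.id_comp h)
  have hcomp : p ≫ ObjectProperty.homMk (fibπ y f) = (yon S).map h := hh.symm
  have hsec : ∀ {T : Over S} (k : T ⟶ U),
      p.hom.app (op T) ⟨k⟩ = cl (E.obj (ov k)) ((E.w_obj (ov k)).trans (ov_base k)) := by
    intro T k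
    change p.hom.app (op T) ⟨k⟩ = cl (pull m hm k) (pull_base m hm k)
    rw [← clMap_cl_pull, ← hc]
    exact ((secHomP_app _ ⟨k⟩).symm.trans (by rw [Equiv.symm_apply_apply]; rfl)).symm.trans rfl
  refine ⟨hs, hA, U, p, E, h, hpe, hps, hcomp, ?_, hsec, fun {P} _ {M} hM hP => ?_⟩
  · obtain ⟨g, hg⟩ : ∃ g : U ⟶ V, eqToHom hm.symm ≫ m.obj.fst.hom = g := ⟨_, rfl⟩
    have hgh : g = h := by
      rw [← he, ← hg]
      obtain rfl : m.obj.fst.left = U := hm
      exact (Category.id_comp _).trans (overHom_mk _).symm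
    subst hgh
    let a : (pull m hm (𝟙 U)).obj.fst ⟶ m.obj.fst := (pullHom m hm (𝟙 U)).hom.fst
    let b : m.obj.fst ⟶ Over.mk (𝟙 U ≫ g) :=
      Over.homMk (eqToHom hm) (by change eqToHom hm ≫ 𝟙 U ≫ g = _; rw [← hg]; simp)
    refine ⟨funIso (y := BasedFunctor.comp E (FibCat.fpFst y f)) (y' := AlgSt.overMap g) (a ≫ b) ?_⟩
    rw [Functor.map_comp]
    have ha : (FibCat.overCat V).p.map a = eqToHom (pull_base m hm (𝟙 U)) ≫ 𝟙 U ≫ eqToHom hm.symm :=
      map_pullHom m hm (𝟙 U)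
    rw [ha]
    change (_ ≫ _ ≫ eqToHom hm.symm) ≫ eqToHom hm = _
    simp
  · haveI : E.toFunctor.Faithful := faithful_of_faithful_source E
    refine (repBySpWith_clFun_iff P E).1 ?_
    intro T ξ F' fst snd sq
    let α : Cl (FibCat.overCat U) ⟶ (pyon S).obj U :=
      { app := fun T => ↾(fun c => ⟨overHom c⟩)
        naturality := fun A B k => by ext c; exact congrArg ULift.up (overHom_clMap k.unop c) }
    have : ∀ T, IsIso (α.app T) := fun T => (isIso_iff_bijective _).2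
      ⟨fun a b e => (bijective_overHom T.unop).1 (congrArg ULift.down e),
        fun ⟨k⟩ => by
          obtain ⟨c, hc⟩ := (bijective_overHom T.unop).2 k
          exact ⟨c, congrArg ULift.up hc⟩⟩
    haveI : IsIso α := NatIso.isIso_of_isIso_app _
    have hp : α ≫ p.hom = clFun E := by
      ext T' c
      induction T' using Opposite.rec with | op T' => ?_
      obtain ⟨k, hk, rfl⟩ := cl_exists (𝒳 := FibCat.overCat U) (T := T') c
      obtain rfl : k.left = T' := hk
      change p.hom.app (op k.left) ⟨overHom (cl k _)⟩ = cl (pull m hm k.hom) (pull_base m hm k.hom)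
      rw [show overHom (cl k (rfl : k.left = k.left) : ClType (FibCat.overCat U) k.left) = k.hom from overHom_mk k.hom,
        ← clMap_cl_pull, ← hc]
      exact ((secHomP_app _ ⟨k.hom⟩).symm.trans
        (by rw [Equiv.symm_apply_apply]; rfl)).symm.trans rfl
    have sq' : IsPullback (fst ≫ α) snd p.hom ξ :=
      IsPullback.of_iso sq (Iso.refl _) (asIso α) (Iso.refl _) (Iso.refl _)
        (by simp) (by simp) (by simp [hp]) (by simp)
    exact repBySpWith_of_repWith hM hP ξ _ snd sq'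

/-- A representable morphism into a category with a smooth atlas has a smooth chart square on which
its properties can be read. -/
theorem locQ_of_rep {P Q : MorphismProperty (Sp S)} [P.RespectsIso] {V : Over S}
    {y : FibCat.overCat V ⥤ᵇ 𝒴} (hy : AlgSt.RepByAlgSpWith (LocP @Smooth) y)
    (hys : AlgSt.RepByAlgSpWith IsSurjectiveMor y) (hf : AlgSt.RepByAlgSpWith P f)
    (hPQ : ∀ {U : Over S} {F : Sp S} (p : (yon S).obj U ⟶ F) (π : F ⟶ (yon S).obj V), IsAlgSpace F →
      RepWith @Etale p → P π → Q (p ≫ π)) :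
    AlgSt.LocQ Q f := by
  obtain ⟨hs, hA, U, p, E, h, hpe, hps, hcomp, ⟨α⟩, -, hE⟩ := exists_chart_of_fib (repByAlgSp1_of_with hf) y
  haveI : FibCat.IsFibGrpd (FibCat.fp y f).p := isFibGrpd_fp
  refine ⟨U, V, BasedFunctor.comp E (FibCat.fpSnd y f), y, h,
    (wL E (FibCat.fpIso y f)).symm ≪≫ wR α y, ?_, ?_, hy, ?_⟩
  · exact repByAlgSpWith_comp compLocal_smooth
      (hE (P := LocP @Smooth) hpe fun v hv => locP_of_repWith (repWith_yon_map
        (haveI : Etale v.left := hv; inferInstance)))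
      (repByAlgSpWith_fpSnd f hy)
  · exact repByAlgSpWith_comp compLocal_surjective
      (hE (P := IsSurjectiveMor) hps fun v hv => surjective_map_of_repWith (repWith_yon_map hv))
      (repByAlgSpWith_fpSnd f hys)
  · rw [← hcomp]
    obtain ⟨_, _, hP⟩ := (repByAlgSpWith_iff.1 hf).2 V y
    exact hPQ p _ hA hpe hP

end Groth.Agent.ASt
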