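import Groth.Agent.ASt.Fib
import Groth.Prelude.Def_AlgSt
import Mathlib.CategoryTheory.IsomorphismClasses
import Mathlib.CategoryTheory.FiberedCategory.Fiber
/-!
The presheaf of isomorphism classes of a category fibred in groupoids, and the comparison with the
category of elements of that presheaf when the fibres are setoids.
-/

set_option backward.isDefEq.respectTransparency false
set_option backward.isDefEq.respectTransparency.types false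
set_option linter.unusedSectionVars false

universe w v₄ u₄ v₃ u₃ v₂ u₂ v u

open CategoryTheory Opposite

namespace Groth.Agent.ASt

variable {C : Type u} [Category.{v} C]
variable {𝒳 : BasedCategory.{v₂, u₂} C} {𝒴 : BasedCategory.{v₃, u₃} C} {𝒵 : BasedCategory.{v₄, u₄} C}

section EquivCalculus

theorem basedFunctor_ext {F G : 𝒳 ⥤ᵇ 𝒴} (h : F.toFunctor = G.toFunctor) : F = G := by
  cases F; cases G; congr

theorem isEquivOver_symm {F : 𝒳 ⥤ᵇ 𝒴} (hF : FibCat.IsEquivOver F) :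
    ∃ G : 𝒴 ⥤ᵇ 𝒳, FibCat.IsEquivOver G ∧ Nonempty (BasedFunctor.comp F G ≅ BasedFunctor.id 𝒳) ∧
      Nonempty (BasedFunctor.comp G F ≅ BasedFunctor.id 𝒴) := by
  obtain ⟨G, α, β⟩ := hF
  exact ⟨G, ⟨F, β, α⟩, α, β⟩

theorem isEquivOver_comp {F : 𝒳 ⥤ᵇ 𝒴} {G : 𝒴 ⥤ᵇ 𝒵} (hF : FibCat.IsEquivOver F)
    (hG : FibCat.IsEquivOver G) : FibCat.IsEquivOver (BasedFunctor.comp F G) := by
  obtain ⟨h1, h2, h3⟩ := vert_of_isEquivOver hF
  obtain ⟨k1, k2, k3⟩ := vert_of_isEquivOver hG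
  have : (BasedFunctor.comp F G).toFunctor.Full := inferInstanceAs (F.toFunctor ⋙ G.toFunctor).Full
  have : (BasedFunctor.comp F G).toFunctor.Faithful := inferInstanceAs (F.toFunctor ⋙ G.toFunctor).Faithful
  refine isEquivOver_of_vert _ fun z => ?_
  obtain ⟨y, hy, e, he⟩ := k3 z
  obtain ⟨x, hx, d, hd⟩ := h3 y
  refine ⟨x, hx.trans hy, G.toFunctor.mapIso d ≪≫ e, ?_⟩
  change 𝒵.p.map (G.map d.hom ≫ e.hom) = _
  rw [Functor.map_comp, map_w, hd, he]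
  simp

theorem isEquivOver_id : FibCat.IsEquivOver (BasedFunctor.id 𝒳) :=
  ⟨BasedFunctor.id 𝒳, ⟨Iso.refl _⟩, ⟨Iso.refl _⟩⟩

end EquivCalculus

/-- Isomorphism classes of objects over `T`. -/
abbrev ClType (𝒳 : BasedCategory.{v₂, u₂} C) (T : C) : Type u₂ :=
  Quotient (isIsomorphicSetoid (𝒳.p.Fiber T))

/-- The class of an object lying over `T`. -/
def cl (x : 𝒳.obj) {T : C} (hx : 𝒳.p.obj x = T) : ClType 𝒳 T :=
  Quotient.mk (isIsomorphicSetoid (𝒳.p.Fiber T)) ⟨x, hx⟩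

theorem cl_exists {T : C} (c : ClType 𝒳 T) :
    ∃ (x : 𝒳.obj) (hx : 𝒳.p.obj x = T), c = cl x hx := by
  induction c using Quotient.ind with
  | _ a => exact ⟨a.1, a.2, rfl⟩

section Grpd

variable [h𝒳 : FibCat.IsFibGrpd 𝒳.p]

theorem cl_eq_iff {T : C} {x y : 𝒳.obj} {hx : 𝒳.p.obj x = T} {hy : 𝒳.p.obj y = T} :
    cl x hx = cl y hy ↔ ∃ a : x ⟶ y, 𝒳.p.map a = eqToHom (hx.trans hy.symm) := by
  constructor
  · intro h
    obtain ⟨i⟩ := Quotient.exact h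
    have := i.hom.2
    exact ⟨i.hom.1, map_of_isHomLift_id (R := T) i.hom.1⟩
  · rintro ⟨a, ha⟩
    have := isIso_of_vert a ha
    have hl : 𝒳.p.IsHomLift (𝟙 T) a := isHomLift_id_of_map a hx ha
    have hl' : 𝒳.p.IsHomLift (𝟙 T) (inv a) := inferInstance
    exact Quotient.sound ⟨⟨⟨a, hl⟩, ⟨inv a, hl'⟩, Subtype.ext (IsIso.hom_inv_id a),
      Subtype.ext (IsIso.inv_hom_id a)⟩⟩

/-- Restriction of classes. -/
noncomputable def clMap {T' T : C} (f : T' ⟶ T) : ClType 𝒳 T → ClType 𝒳 T' :=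
  Quotient.lift (fun a => cl (pull a.1 a.2 f) (pull_base _ _ _)) fun a b ⟨i⟩ => by
    have := i.hom.2
    refine cl_eq_iff.2 ⟨facMap (pullHom b.1 b.2 f) (pullHom a.1 a.2 f ≫ i.hom.1)
      (eqToHom ((pull_base _ _ _).trans (pull_base _ _ _).symm)) ?_, map_facMap _ _ _ _⟩
    simp [map_of_isHomLift_id (R := T) i.hom.1]

theorem clMap_cl {T' T : C} (f : T' ⟶ T) {x y : 𝒳.obj} (a : y ⟶ x) (hy : 𝒳.p.obj y = T')
    (hx : 𝒳.p.obj x = T) (h : 𝒳.p.map a = eqToHom hy ≫ f ≫ eqToHom hx.symm) :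
    clMap f (cl x hx) = cl y hy := by
  change cl (pull x hx f) _ = _
  refine (cl_eq_iff.2 ⟨facMap (pullHom x hx f) a (eqToHom (hy.trans (pull_base _ _ _).symm)) ?_,
    map_facMap _ _ _ _⟩).symm
  simp [h]

theorem clMap_cl_pull {T' T : C} (f : T' ⟶ T) (x : 𝒳.obj) (hx : 𝒳.p.obj x = T) :
    clMap f (cl x hx) = cl (pull x hx f) (pull_base _ _ _) := rfl

variable (𝒳) in
/-- The presheaf of isomorphism classes. -/
noncomputable def Cl : Cᵒᵖ ⥤ Type u₂ where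
  obj T := ClType 𝒳 T.unop
  map f := ↾(clMap f.unop)
  map_id T := by
    ext c
    obtain ⟨x, hx, rfl⟩ := cl_exists c
    exact clMap_cl _ (𝟙 x) hx hx (by simp)
  map_comp {A B D} f g := by
    ext c
    obtain ⟨x, hx, rfl⟩ := cl_exists c
    exact clMap_cl _ (pullHom (pull x hx f.unop) (pull_base _ _ _) g.unop ≫ pullHom x hx f.unop)
      (pull_base _ _ _) hx (by simp)

theorem Cl_map {T' T : C} (f : T' ⟶ T) (c : ClType 𝒳 T) : (Cl 𝒳).map f.op c = clMap f c := rfl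

theorem clMap_comp {T'' T' T : C} (g : T'' ⟶ T') (f : T' ⟶ T) (c : ClType 𝒳 T) :
    clMap g (clMap f c) = clMap (g ≫ f) c :=
  ((Cl 𝒳).map_comp_apply f.op g.op c).symm

theorem clMap_id {T : C} (c : ClType 𝒳 T) : clMap (𝟙 T) c = c :=
  (Cl 𝒳).map_id_apply (op T) c

/-- The comparison with the category of elements of the presheaf of classes. -/
noncomputable def toPsh (𝒳 : BasedCategory.{v₂, u₂} C) [FibCat.IsFibGrpd 𝒳.p] :
    𝒳 ⥤ᵇ Stk.ofPsh (Cl 𝒳) where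
  toFunctor :=
    { obj := fun x => ⟨𝒳.p.obj x, cl x rfl⟩
      map := fun {a b} m => ⟨𝒳.p.map m, clMap_cl _ m rfl rfl (by simp)⟩
      map_id := fun a => Stk.EltObj.hom_ext (𝒳.p.map_id a)
      map_comp := fun m n => Stk.EltObj.hom_ext (𝒳.p.map_comp m n) }
  w := rfl

theorem isEquivOver_toPsh [𝒳.p.Faithful] : FibCat.IsEquivOver (toPsh 𝒳) := by
  have : (toPsh 𝒳).toFunctor.Faithful :=
    ⟨fun {a b} m n h => 𝒳.p.map_injective (congrArg (fun k => k.hom) h)⟩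
  have : (toPsh 𝒳).toFunctor.Full := ⟨fun {a b} m => by
    have hm := m.map_sec
    change clMap m.hom (cl b rfl) = cl a rfl at hm
    rw [clMap_cl_pull, eq_comm, cl_eq_iff] at hm
    obtain ⟨i, hi⟩ := hm
    refine ⟨i ≫ pullHom b rfl m.hom, Stk.EltObj.hom_ext ?_⟩
    change 𝒳.p.map (i ≫ _) = m.hom
    simp [hi]⟩
  refine isEquivOver_of_vert _ fun c => ?_
  obtain ⟨T, s⟩ := c
  obtain ⟨x, hx, rfl⟩ := cl_exists s
  refine ⟨x, hx, ⟨⟨eqToHom hx, ?_⟩, ⟨eqToHom hx.symm, ?_⟩, ?_, ?_⟩, rfl⟩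
  · exact clMap_cl _ (𝟙 x) rfl hx (by simp)
  · exact clMap_cl _ (𝟙 x) hx rfl (by simp)
  · exact Stk.EltObj.hom_ext (by simp [toPsh])
  · exact Stk.EltObj.hom_ext (by simp [toPsh])

end Grpd

section Functoriality

variable [h𝒳 : FibCat.IsFibGrpd 𝒳.p] [h𝒴 : FibCat.IsFibGrpd 𝒴.p] [h𝒵 : FibCat.IsFibGrpd 𝒵.p]

/-- The map of classes induced by a functor over the base. -/
def clF (F : 𝒳 ⥤ᵇ 𝒴) (T : C) : ClType 𝒳 T → ClType 𝒴 T :=
  Quotient.lift (fun a => cl (F.obj a.1) ((F.w_obj a.1).trans a.2)) fun a b ⟨i⟩ => by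
    have := i.hom.2
    exact cl_eq_iff.2 ⟨F.map i.hom.1, by simp [map_w, map_of_isHomLift_id (R := T) i.hom.1]⟩

theorem clF_cl (F : 𝒳 ⥤ᵇ 𝒴) {T : C} (x : 𝒳.obj) (hx : 𝒳.p.obj x = T) :
    clF F T (cl x hx) = cl (F.obj x) ((F.w_obj x).trans hx) := rfl

/-- The map of presheaves of classes induced by a functor over the base. -/
noncomputable def clFun {𝒳 : BasedCategory.{v₂, u₂} C} {𝒴 : BasedCategory.{v₃, u₂} C}
    [FibCat.IsFibGrpd 𝒳.p] [FibCat.IsFibGrpd 𝒴.p] (F : 𝒳 ⥤ᵇ 𝒴) : Cl 𝒳 ⟶ Cl 𝒴 where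
  app T := ↾(clF F T.unop)
  naturality {A B} f := by
    ext c
    obtain ⟨x, hx, rfl⟩ := cl_exists c
    exact (clMap_cl f.unop (F.map (pullHom x hx f.unop)) ((F.w_obj _).trans (pull_base _ _ _))
      ((F.w_obj x).trans hx) (by simp [map_w])).symm

theorem clFun_app {𝒳 : BasedCategory.{v₂, u₂} C} {𝒴 : BasedCategory.{v₃, u₂} C}
    [FibCat.IsFibGrpd 𝒳.p] [FibCat.IsFibGrpd 𝒴.p] (F : 𝒳 ⥤ᵇ 𝒴) (T : C) (c : ClType 𝒳 T) :
    (clFun F).app (op T) c = clF F T c := rfl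

theorem clF_comp (F : 𝒳 ⥤ᵇ 𝒴) (G : 𝒴 ⥤ᵇ 𝒵) (T : C) (c : ClType 𝒳 T) :
    clF (BasedFunctor.comp F G) T c = clF G T (clF F T c) := by
  obtain ⟨x, hx, rfl⟩ := cl_exists c
  rfl

theorem clF_congr {F G : 𝒳 ⥤ᵇ 𝒴} (α : F ⟶ G) (T : C) (c : ClType 𝒳 T) : clF F T c = clF G T c := by
  obtain ⟨x, hx, rfl⟩ := cl_exists c
  exact cl_eq_iff.2 ⟨α.toNatTrans.app x, map_app F G α x⟩

theorem bijective_clF_of_isEquivOver {F : 𝒳 ⥤ᵇ 𝒴} (hF : FibCat.IsEquivOver F) (T : C) :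
    Function.Bijective (clF F T) := by
  obtain ⟨G, ⟨α⟩, ⟨β⟩⟩ := hF
  refine Function.bijective_iff_has_inverse.2 ⟨clF G T, fun c => ?_, fun c => ?_⟩
  · rw [← clF_comp, clF_congr α.hom]
    obtain ⟨x, hx, rfl⟩ := cl_exists c
    rfl
  · rw [← clF_comp, clF_congr β.hom]
    obtain ⟨x, hx, rfl⟩ := cl_exists c
    rfl

theorem isIso_clFun {𝒳 : BasedCategory.{v₂, u₂} C} {𝒴 : BasedCategory.{v₃, u₂} C}
    [FibCat.IsFibGrpd 𝒳.p] [FibCat.IsFibGrpd 𝒴.p] {F : 𝒳 ⥤ᵇ 𝒴} (hF : FibCat.IsEquivOver F) :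
    IsIso (clFun F) := by
  have : ∀ T, IsIso ((clFun F).app T) := fun T =>
    (isIso_iff_bijective _).2 (bijective_clF_of_isEquivOver hF T.unop)
  exact NatIso.isIso_of_isIso_app _

end Functoriality

section OfPsh

variable {P : Cᵒᵖ ⥤ Type u₂}

instance faithful_forget (P : Cᵒᵖ ⥤ Type w) : (Stk.EltObj.forget P).Faithful :=
  ⟨fun h => Stk.EltObj.hom_ext h⟩

variable [h𝒳 : FibCat.IsFibGrpd 𝒳.p]

/-- A functor from the category of elements of `P` gives a map from `P` to the presheaf of classes. -/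
noncomputable def ofPshCl (e : Stk.ofPsh P ⥤ᵇ 𝒳) : P ⟶ Cl 𝒳 where
  app T := ↾(fun s => cl (e.obj ⟨T.unop, s⟩) (e.w_obj _))
  naturality {A B} f := by
    ext s
    exact (clMap_cl f.unop (e.map (X := ⟨B.unop, P.map f s⟩) (Y := ⟨A.unop, s⟩) ⟨f.unop, rfl⟩)
      (e.w_obj _) (e.w_obj _) (map_w e _)).symm

theorem faithful_of_isEquivOver {F : 𝒳 ⥤ᵇ 𝒴} (hF : FibCat.IsEquivOver F) [𝒴.p.Faithful] :
    𝒳.p.Faithful := by
  obtain ⟨-, hf, -⟩ := vert_of_isEquivOver hF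
  refine ⟨fun {a b m n} h => F.toFunctor.map_injective (𝒴.p.map_injective ?_)⟩
  rw [map_w, map_w, h]

theorem bijective_ofPshCl {e : Stk.ofPsh P ⥤ᵇ 𝒳} (he : FibCat.IsEquivOver e) (T : C) :
    Function.Bijective ((ofPshCl e).app (op T)) := by
  obtain ⟨hfull, hfaith, hv⟩ := vert_of_isEquivOver he
  constructor
  · intro s t h
    obtain ⟨a, ha⟩ := cl_eq_iff.1 h
    have h1 := map_preimage e a
    rw [ha] at h1
    have h3 : (e.toFunctor.preimage (X := (⟨T, s⟩ : Stk.EltObj P)) (Y := ⟨T, t⟩) a).hom = 𝟙 T := by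
      refine h1.trans ?_
      simp
    have h2 := (e.toFunctor.preimage (X := (⟨T, s⟩ : Stk.EltObj P)) (Y := ⟨T, t⟩) a).map_sec
    rw [h3] at h2
    simpa using h2.symm
  · intro c
    obtain ⟨x, hx, rfl⟩ := cl_exists c
    obtain ⟨⟨T', s⟩, hz, i, hi⟩ := hv x
    have hT : T' = T := hz.trans hx
    subst hT
    exact ⟨s, cl_eq_iff.2 ⟨i.hom, hi.trans rfl⟩⟩

theorem isIso_ofPshCl {e : Stk.ofPsh P ⥤ᵇ 𝒳} (he : FibCat.IsEquivOver e) : IsIso (ofPshCl e) := by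
  have : ∀ T, IsIso ((ofPshCl e).app T) := fun T =>
    (isIso_iff_bijective _).2 (bijective_ofPshCl he T.unop)
  exact NatIso.isIso_of_isIso_app _

theorem isEquivOver_ofPshMap {Q : Cᵒᵖ ⥤ Type u₂} (φ : P ⟶ Q) [IsIso φ] :
    FibCat.IsEquivOver (Stk.ofPshMap φ) := by
  have key : ∀ {A B : Cᵒᵖ ⥤ Type u₂} (a : A ⟶ B) (b : B ⟶ A), a ≫ b = 𝟙 A →
      BasedFunctor.comp (Stk.ofPshMap a) (Stk.ofPshMap b) = BasedFunctor.id (Stk.ofPsh A) := by
    intro A B a b hab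
    have e0 : ∀ (c : Stk.EltObj A), (⟨c.base, b.app _ (a.app _ c.sec)⟩ : Stk.EltObj A) = c := fun c => by
      obtain ⟨T, s⟩ := c
      rw [← NatTrans.comp_app_apply, hab]; rfl
    refine basedFunctor_ext ?_
    refine CategoryTheory.Functor.ext e0 ?_
    intro c d m
    apply Stk.EltObj.hom_ext
    have h1 : ∀ {x y : Stk.EltObj A} (h : x = y), (eqToHom h : x ⟶ y).hom = eqToHom (congrArg Stk.EltObj.base h) :=
      fun h => by subst h; rfl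
    simp [h1]
    rfl
  exact ⟨Stk.ofPshMap (inv φ), ⟨eqToIso (key φ (inv φ) (by simp))⟩,
    ⟨eqToIso (key (inv φ) φ (by simp))⟩⟩

end OfPsh

end Groth.Agent.ASt
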