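import Groth.Agent.ASt.DiagRep
/-!
The absolute diagonal is representable as soon as all maps from schemes are.
-/

set_option backward.isDefEq.respectTransparency false
set_option backward.isDefEq.respectTransparency.types false
set_option linter.unusedSectionVars false

universe u

open CategoryTheory CategoryTheory.Limits AlgebraicGeometry Opposite

namespace Groth.Agent.ASt

open _root_.AlgSp

variable {S : Scheme.{u}} {𝒳 : AlgSt.Cat S} [h𝒳 : FibCat.IsFibGrpd 𝒳.p] {U : Over S}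
  (w : FibCat.overCat U ⥤ᵇ FibCat.fp (FibCat.toSelf 𝒳) (FibCat.toSelf 𝒳))

/-- First component. -/
noncomputable abbrev testFst : FibCat.overCat U ⥤ᵇ 𝒳 := BasedFunctor.comp w (FibCat.fpFst _ _)

/-- Second component. -/
noncomputable abbrev testSnd : FibCat.overCat U ⥤ᵇ 𝒳 := BasedFunctor.comp w (FibCat.fpSnd _ _)

/-- Fibres of the diagonal inside the fibre product of the components. -/
noncomputable def absF : FibCat.fp w (FibCat.diag (FibCat.toSelf 𝒳)) ⥤ᵇ FibCat.fp (testFst w) (testSnd w) :=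
  FibCat.fpLift (FibCat.fpFst w (FibCat.diag (FibCat.toSelf 𝒳))) (FibCat.fpFst w (FibCat.diag (FibCat.toSelf 𝒳)))
    (wR (FibCat.fpIso w (FibCat.diag (FibCat.toSelf 𝒳))) (FibCat.fpFst _ _) ≪≫
      (wR (FibCat.fpIso w (FibCat.diag (FibCat.toSelf 𝒳))) (FibCat.fpSnd _ _)).symm)

theorem clF_absF {T : Over S} (k : T ⟶ U) (x : 𝒳.obj) (hx : 𝒳.p.obj x = T)
    (φ : w.obj (ov k) ⟶ (FibCat.diag (FibCat.toSelf 𝒳)).obj x) (hφ) {hi : IsIso φ.hom.snd} {hφ'} :
    clF (absF w) T (fpEl k x hx φ hφ) =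
      fpEl (y := testFst w) (f := testSnd w) k (ov k) (ov_base k) (φ.hom.fst ≫ inv φ.hom.snd) hφ' := by
  refine cl_eq_iff.2 ⟨fpHomMk (𝟙 _) (𝟙 _) ?_, ((FibCat.overCat U).p.map_id _).trans rfl⟩
  have hb : ((wR (FibCat.fpIso w (FibCat.diag (FibCat.toSelf 𝒳))) (FibCat.fpSnd _ _)).symm).hom.toNatTrans.app
      (fpObj k x hx φ hφ) = inv φ.hom.snd := by
    apply IsIso.eq_inv_of_hom_inv_id
    exact congrArg (fun α => α.toNatTrans.app (fpObj k x hx φ hφ))
      (wR (FibCat.fpIso w (FibCat.diag (FibCat.toSelf 𝒳))) (FibCat.fpSnd _ _)).hom_inv_id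
  change (testFst w).map (𝟙 (ov k)) ≫ (φ.hom.fst ≫ inv φ.hom.snd) =
    (((wR (FibCat.fpIso w (FibCat.diag (FibCat.toSelf 𝒳))) (FibCat.fpFst _ _)).hom.toNatTrans.app
      (fpObj k x hx φ hφ)) ≫ ((wR (FibCat.fpIso w (FibCat.diag (FibCat.toSelf 𝒳))) (FibCat.fpSnd _ _)).symm).hom.toNatTrans.app
      (fpObj k x hx φ hφ)) ≫ (testSnd w).map (𝟙 (ov k))
  rw [hb]
  refine ((congrArg (fun r => r ≫ _) ((testFst w).toFunctor.map_id (ov k))).trans (Category.id_comp _)).trans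
    (Eq.trans ?_ ((congrArg (fun r => _ ≫ r) ((testSnd w).toFunctor.map_id (ov k))).trans (Category.comp_id _)).symm)
  rfl

/-- The second point of a class. -/
noncomputable def sndHom {T : Over S} (c : ClType (FibCat.fp (testFst w) (testSnd w)) T) : T ⟶ U :=
  overHom (clF (FibCat.fpSnd (testFst w) (testSnd w)) T c)

theorem sndHom_fpEl {T : Over S} (k : T ⟶ U) (g : (FibCat.overCat U).obj) (hg : g.left = T) (φ) (hφ) :
    sndHom w (fpEl (y := testFst w) (f := testSnd w) k g hg φ hφ) = eqToHom hg.symm ≫ g.hom := rfl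

theorem sndHom_clMap {T' T : Over S} (h : T' ⟶ T) (c : ClType (FibCat.fp (testFst w) (testSnd w)) T) :
    sndHom w (clMap h c) = h ≫ sndHom w c := by
  unfold sndHom
  rw [← overHom_clMap]
  exact congrArg overHom ((clFun (FibCat.fpSnd (testFst w) (testSnd w))).naturality_apply h.op c)

/-- The second projection of the presheaf of classes. -/
noncomputable def sndπ : fib (testFst w) (testSnd w) ⟶ (pyon S).obj U where
  app T := ↾(fun c => ⟨sndHom w c⟩)
  naturality {A B} h := by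
    ext c
    exact congrArg ULift.up (sndHom_clMap w h.unop c)

theorem map_absF_vert {T : Over S} {k : T ⟶ U} {x : 𝒳.obj} (hx : 𝒳.p.obj x = T)
    {φ : w.obj (ov k) ⟶ (FibCat.diag (FibCat.toSelf 𝒳)).obj x}
    (hφ : (FibCat.fp (FibCat.toSelf 𝒳) (FibCat.toSelf 𝒳)).p.map φ =
      eqToHom (((w.w_obj (ov k)).trans (ov_base k)).trans
        (hx.symm.trans ((FibCat.diag (FibCat.toSelf 𝒳)).w_obj x).symm)))
    [IsIso φ.hom.snd] :
    𝒳.p.map (φ.hom.fst ≫ inv φ.hom.snd) = eqToHom ((((testFst w).w_obj (ov k)).trans (ov_base k)).trans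
      ((ov_base k).symm.trans ((testSnd w).w_obj (ov k)).symm)) := by
  have e2 := fp_map_snd φ
  have hf1 : 𝒳.p.map φ.hom.fst = eqToHom _ := hφ
  rw [Functor.map_comp, Functor.map_inv]
  simp [e2, hf1]

theorem fpHom_absF (T : Over S) (c : ClType (FibCat.fp w (FibCat.diag (FibCat.toSelf 𝒳))) T) :
    fpHom (clF (absF w) T c) = fpHom c ∧ sndHom w (clF (absF w) T c) = fpHom c := by
  obtain ⟨k, x, hx, φ, hφ, rfl⟩ := fpEl_exists c
  have hi := isIso_fp_snd φ hφ
  rw [clF_absF w k x hx φ hφ (hi := hi) (hφ' := map_absF_vert w hx hφ), fpHom_fpEl, fpHom_fpEl, sndHom_fpEl]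
  exact ⟨rfl, Category.id_comp k⟩

theorem existsUnique_absF (T : Over S) (d : ClType (FibCat.fp (testFst w) (testSnd w)) T)
    (hd : fpHom d = sndHom w d) : ∃! c, clF (absF w) T c = d := by
  obtain ⟨k, g, hg, ψ, hψ, rfl⟩ := fpEl_exists d
  rw [fpHom_fpEl, sndHom_fpEl w k g hg] at hd
  obtain ⟨a, ha⟩ : ∃ a : g ⟶ ov k, (FibCat.overCat U).p.map a = eqToHom (hg.trans (ov_base k).symm) :=
    cl_eq_iff.1 ((bijective_overHom T).1 ((overHom_cl g hg).trans (hd.symm.trans (overHom_mk k).symm)))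
  have hψ' : 𝒳.p.map (ψ ≫ (testSnd w).map a) = eqToHom ((((testFst w).w_obj (ov k)).trans (ov_base k)).trans
      ((ov_base k).symm.trans ((testSnd w).w_obj (ov k)).symm)) := by
    rw [Functor.map_comp, hψ, map_w, ha]
    simp
  have hd' : fpEl (y := testFst w) (f := testSnd w) k g hg ψ hψ =
      fpEl (y := testFst w) (f := testSnd w) k (ov k) (ov_base k) (ψ ≫ (testSnd w).map a) hψ' :=
    fpEl_eq_iff.2 ⟨a, ha, rfl⟩
  rw [hd']
  let x : 𝒳.obj := (testSnd w).obj (ov k)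
  have hx : 𝒳.p.obj x = T := ((testSnd w).w_obj (ov k)).trans (ov_base k)
  let φ : w.obj (ov k) ⟶ (FibCat.diag (FibCat.toSelf 𝒳)).obj x := fpHomMk (ψ ≫ (testSnd w).map a) (𝟙 x) (by
    have h1 : (w.obj (ov k)).obj.iso.hom = eqToHom _ := fp_iso_map (w.obj (ov k))
    refine ((congrArg (fun r => r ≫ _) hψ').trans ((Category.comp_id _).trans ?_)).trans
      ((congrArg (fun r => _ ≫ r) (𝒳.p.map_id x)).trans (Category.comp_id _)).symm
    exact h1.symm)
  have hφ : (FibCat.fp (FibCat.toSelf 𝒳) (FibCat.toSelf 𝒳)).p.map φ =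
      eqToHom (((w.w_obj (ov k)).trans (ov_base k)).trans
        (hx.symm.trans ((FibCat.diag (FibCat.toSelf 𝒳)).w_obj x).symm)) := hψ'
  have hi := isIso_fp_snd φ hφ
  refine ⟨fpEl k x hx φ hφ, ?_, fun c hc => ?_⟩
  · change clF (absF w) T (fpEl k x hx φ hφ) = _
    rw [clF_absF w k x hx φ hφ (hi := hi) (hφ' := map_absF_vert w hx hφ)]
    refine fpEl_eq_iff.2 ⟨𝟙 _, ((FibCat.overCat U).p.map_id _).trans rfl, ?_⟩
    rw [(testSnd w).toFunctor.map_id, Category.comp_id]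
    simp [φ, fpHomMk, x]
    exact congrArg (fun r => ψ ≫ r) (Category.comp_id _)
  · obtain ⟨k', x', hx', φ', hφ', rfl⟩ := fpEl_exists c
    have hi' := isIso_fp_snd φ' hφ'
    rw [clF_absF w k' x' hx' φ' hφ' (hi := hi') (hφ' := map_absF_vert w hx' hφ')] at hc
    obtain rfl : k' = k := (fpHom_fpEl _ _ _ _ _).symm.trans ((congrArg fpHom hc).trans (fpHom_fpEl _ _ _ _ _))
    obtain ⟨v, hv, hv'⟩ := fpEl_eq_iff.1 hc
    obtain rfl : v = 𝟙 (ov k') := (FibCat.overCat U).p.map_injective (hv.trans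
      (((FibCat.overCat U).p.map_id (ov k')).trans rfl).symm)
    rw [(testSnd w).toFunctor.map_id, Category.comp_id] at hv'
    refine fpEl_eq_iff.2 ⟨inv φ'.hom.snd, ?_, fp_hom_ext ?_ ?_⟩
    · have e1 := fp_map_snd φ'
      have hf1 : 𝒳.p.map φ'.hom.fst = eqToHom _ := hφ'
      rw [Functor.map_inv]
      simp [e1, hf1]
    · exact hv'
    · exact IsIso.hom_inv_id φ'.hom.snd

theorem isAlgSpaceP_fib_diag (h : ∀ (V : Over S) (x : FibCat.overCat V ⥤ᵇ 𝒳), AlgSt.RepByAlgSp1 x) :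
    IsAlgSpaceP (fib w (FibCat.diag (FibCat.toSelf 𝒳))) := by
  obtain ⟨hs, hA⟩ := (repByAlgSp_iff.1 (h U (testSnd w) U (testFst w))).2
  let F : Sp S := ⟨fib (testFst w) (testSnd w), hs⟩
  let p₁ : F ⟶ (yon S).obj U := ObjectProperty.homMk (fibπ _ _)
  let p₂ : F ⟶ (yon S).obj U := ObjectProperty.homMk (sndπ w)
  have hE : IsAlgSpace (equalizer p₁ p₂) := Groth.Agent.ASp.isAlgSpace_of_isPullback
    (Groth.Agent.ASp.isAlgSpace_prod (IsAlgSpace.yon_obj U) (IsAlgSpace.yon_obj U)).diag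
    (IsAlgSpace.yon_obj U) hA
    (isPullback_diag_of_isLimit_fork (equalizer.condition p₁ p₂) (equalizerIsEqualizer p₁ p₂))
  have hl := isLimitForkMapOfIsLimit (sheafToPresheaf (J S) (Type (u + 1))) (equalizer.condition p₁ p₂)
    (equalizerIsEqualizer p₁ p₂)
  let G : PSp S := fib w (FibCat.diag (FibCat.toSelf 𝒳))
  have hw : clFun (absF w) ≫ p₁.hom = clFun (absF w) ≫ p₂.hom := by
    ext T c
    exact congrArg ULift.up ((fpHom_absF w T.unop c).1.trans (fpHom_absF w T.unop c).2.symm)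
  let l : G ⟶ (equalizer p₁ p₂).obj := Fork.IsLimit.lift hl (clFun (absF w)) hw
  have hli : l ≫ (equalizer.ι p₁ p₂).hom = clFun (absF w) := Fork.IsLimit.lift_ι' hl _ _
  have hmono : Mono (equalizer.ι p₁ p₂).hom := mono_of_isLimit_fork hl
  have : ∀ T, IsIso (l.app T) := fun T => (isIso_iff_bijective _).2 <| by
    have hinj : Function.Injective ((equalizer.ι p₁ p₂).hom.app T) := (mono_iff_injective _).1 inferInstance
    have happ : ∀ c, (equalizer.ι p₁ p₂).hom.app T (l.app T c) = clF (absF w) T.unop c := fun c =>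
      congrArg (fun φ => φ.app T c) hli
    refine ⟨fun c c' e => ?_, fun d => ?_⟩
    · have hc : clF (absF w) T.unop c = clF (absF w) T.unop c' := by rw [← happ, ← happ, e]
      refine (existsUnique_absF w T.unop _ ?_).unique rfl hc.symm
      exact (fpHom_absF w T.unop c).1.trans (fpHom_absF w T.unop c).2.symm
    · obtain ⟨c, hc, -⟩ := existsUnique_absF w T.unop ((equalizer.ι p₁ p₂).hom.app T d)
        (congrArg ULift.down (congrArg (fun φ => φ.hom.app T d) (equalizer.condition p₁ p₂)))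
      exact ⟨c, hinj ((happ c).trans hc)⟩
  have : IsIso l := NatIso.isIso_of_isIso_app _
  exact ((isAlgSpaceP_obj_iff (equalizer p₁ p₂)).2 hE).of_iso (asIso l).symm

theorem repByAlgSp1_diag_iff : AlgSt.RepByAlgSp1 (FibCat.diag (FibCat.toSelf 𝒳)) ↔
    ∀ (U : Over S) (x : FibCat.overCat U ⥤ᵇ 𝒳), AlgSt.RepByAlgSp1 x :=
  ⟨fun h _ x => repByAlgSp1_of_diag h x,
    fun h => repByAlgSp1_iff.2 ⟨inferInstance, fun _ w => isAlgSpaceP_fib_diag w h⟩⟩

end Groth.Agent.ASt
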