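import Groth.Agent.ASt.Local
import Mathlib.RingTheory.Unramified.LocalStructure
/-!
Diagonals of arbitrary morphisms, cancellation for diagonals.
-/

set_option backward.isDefEq.respectTransparency false
set_option backward.isDefEq.respectTransparency.types false
set_option linter.unusedSectionVars false

universe u

open CategoryTheory CategoryTheory.Limits AlgebraicGeometry Opposite

namespace Groth.Agent.ASt

open _root_.AlgSp Groth.Agent.ASp

theorem locallyQuasiFinite_of_unramified {X Y : Scheme.{u}} (f : X ⟶ Y) [LocallyOfFiniteType f]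
    [FormallyUnramified f] : LocallyQuasiFinite f := by
  refine ⟨fun {U} hU {V} hV e => ?_⟩
  have h1 := f.formallyUnramified_appLE hU hV e
  have h2 := LocallyOfFiniteType.finiteType_appLE f hU hV e
  algebraize [(f.appLE U V e).hom]
  rw [← RingHom.algebraMap_toAlgebra (f.appLE U V e).hom, RingHom.quasiFinite_algebraMap]
  infer_instance

theorem unramified_of_mono {X Y : Scheme.{u}} (f : X ⟶ Y) (hm : Mono f) (hl : LocallyOfFiniteType f) :
    (@LocallyOfFiniteType ⊓ @FormallyUnramified : MorphismProperty Scheme.{u}) f :=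
  ⟨hl, inferInstance⟩

theorem lqf_of_mono {X Y : Scheme.{u}} (f : X ⟶ Y) (hm : Mono f) (hl : LocallyOfFiniteType f) :
    (@LocallyQuasiFinite ⊓ @LocallyOfFiniteType : MorphismProperty Scheme.{u}) f :=
  ⟨locallyQuasiFinite_of_unramified f, hl⟩

variable {S : Scheme.{u}} {𝒳 𝒴 𝒵 : AlgSt.Cat S} [h𝒳 : FibCat.IsFibGrpd 𝒳.p] [h𝒴 : FibCat.IsFibGrpd 𝒴.p]
  [h𝒵 : FibCat.IsFibGrpd 𝒵.p]

theorem comp_toSelf (f : 𝒳 ⥤ᵇ 𝒴) : BasedFunctor.comp f (FibCat.toSelf 𝒴) = FibCat.toSelf 𝒳 :=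
  basedFunctor_ext f.w

/-- The diagonal of any morphism between categories with representable diagonals is representable. -/
theorem repByAlgSp1_diag (f : 𝒳 ⥤ᵇ 𝒴) (hX : AlgSt.RepByAlgSp1 (FibCat.diag (FibCat.toSelf 𝒳)))
    (hY : AlgSt.RepByAlgSp1 (FibCat.diag (FibCat.toSelf 𝒴))) : AlgSt.RepByAlgSp1 (FibCat.diag f) := by
  rw [← comp_toSelf f] at hX
  have hJ : AlgSt.RepByAlgSp1 (compJ f (FibCat.toSelf 𝒴)) :=
    repByAlgSp1_of_with (repByAlgSpWith_compJ f _ (repByAlgSp1_iff_top.1 hY))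
  have : FibCat.IsFibGrpd (FibCat.fp (compJ f (FibCat.toSelf 𝒴)) (compJ f (FibCat.toSelf 𝒴))).p := isFibGrpd_fp
  exact repByAlgSp1_of_comp
    (repByAlgSp1_of_with (repByAlgSpWith_congr (diagCompJ f _).symm (repByAlgSp1_iff_top.1 hX)))
    (repByAlgSp1_of_with (repByAlgSpWith_diag_of_repByAlgSp1 (P := ⊤) hJ fun _ _ _ => trivial))

theorem repByAlgSp1_diag_of_isAlgStack {K : Precoverage Scheme.{u}} (f : 𝒳 ⥤ᵇ 𝒴)
    (hX : AlgSt.IsAlgStack K 𝒳) (hY : AlgSt.IsAlgStack K 𝒴) : AlgSt.RepByAlgSp1 (FibCat.diag f) :=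
  repByAlgSp1_diag f hX.diag hY.diag

/-- Cancellation for properties shared by monomorphisms locally of finite type. -/
theorem repByAlgSpWith_diag_of_comp {P : MorphismProperty (Sp S)} [P.RespectsIso] (hP : CompLocal P)
    (hmono : ∀ {E U : Over S} (e : E ⟶ U), Mono e → LocallyOfFiniteType e.left → P ((yon S).map e))
    {f : 𝒳 ⥤ᵇ 𝒴} {g : 𝒴 ⥤ᵇ 𝒵} (hg : AlgSt.RepByAlgSp1 (FibCat.diag g))
    (h : AlgSt.RepByAlgSpWith P (FibCat.diag (BasedFunctor.comp f g))) :
    AlgSt.RepByAlgSpWith P (FibCat.diag f) :=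
  have hJ : AlgSt.RepByAlgSp1 (compJ f g) :=
    repByAlgSp1_of_with (repByAlgSpWith_compJ f g (repByAlgSp1_iff_top.1 hg))
  haveI : FibCat.IsFibGrpd (FibCat.fp (compJ f g) (compJ f g)).p := isFibGrpd_fp
  repByAlgSpWith_of_comp hP (repByAlgSpWith_congr (diagCompJ f g).symm h)
    (repByAlgSpWith_diag_of_repByAlgSp1 hJ hmono)

theorem repByAlgSpWith_diag_locP_of_comp {Q : MorphismProperty Scheme.{u}} [IsEtLocal Q]
    (hP : CompLocal (LocP Q : MorphismProperty (Sp S)))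
    (hQ : ∀ {X Y : Scheme.{u}} (f : X ⟶ Y), Mono f → LocallyOfFiniteType f → Q f)
    {f : 𝒳 ⥤ᵇ 𝒴} {g : 𝒴 ⥤ᵇ 𝒵} (hg : AlgSt.RepByAlgSp1 (FibCat.diag g))
    (h : AlgSt.RepByAlgSpWith (LocP Q) (FibCat.diag (BasedFunctor.comp f g))) :
    AlgSt.RepByAlgSpWith (LocP Q) (FibCat.diag f) :=
  repByAlgSpWith_diag_of_comp hP
    (fun e _ hl => locP_of_repWith (repWith_yon_map (hQ e.left inferInstance hl))) hg h

variable {f : 𝒳 ⥤ᵇ 𝒴}

/-- Separatedness of a representable morphism gives closed immersions as fibres of the diagonal. -/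
theorem repByAlgSpWith_diag_of_isSeparatedMor {P : MorphismProperty (Sp S)} [P.RespectsIso]
    (hP : ∀ {E U : Over S} (e : E ⟶ U), IsClosedImmersion e.left → P ((yon S).map e))
    (hf : AlgSt.RepByAlgSpWith IsSeparatedMor f) : AlgSt.RepByAlgSpWith P (FibCat.diag f) :=
  repByAlgSpWith_diag_of_fibres (repByAlgSp1_of_with hf) fun {U} y hs E e _ _ hQ => by
    obtain ⟨_, -, h⟩ := (repByAlgSpWith_iff.1 hf).2 U y
    exact hP e (hQ h)

theorem repByAlgSpWith_diag_of_isQuasiSeparatedMor {P : MorphismProperty (Sp S)} [P.RespectsIso]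
    (hP : ∀ {E U : Over S} (e : E ⟶ U), Mono e → LocallyOfFiniteType e.left → QuasiCompact e.left →
      P ((yon S).map e))
    (hf : AlgSt.RepByAlgSpWith IsQuasiSeparatedMor f) : AlgSt.RepByAlgSpWith P (FibCat.diag f) :=
  repByAlgSpWith_diag_of_fibres (repByAlgSp1_of_with hf) fun {U} y hs E e hm hl hQ => by
    obtain ⟨_, -, h⟩ := (repByAlgSpWith_iff.1 hf).2 U y
    exact hP e hm hl (hQ h)

theorem isProperMor_yon_map {E U : Over S} (e : E ⟶ U) (h : IsClosedImmersion e.left) :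
    IsProperMor ((yon S).map e) :=
  isProperMor_of_repWith (repWith_yon_map (inferInstanceAs (IsProper e.left)))

theorem isSeparatedMor_of_mono (hf : AlgSt.IsMono f) : AlgSt.RepByAlgSpWith IsSeparatedMor f :=
  repByAlgSpWith_mono (fun _ _ a _ _ (ha : Mono a) => repWith_diagonal_of_mono a) hf

theorem isSeparatedMor_diag_of_isMono (hf : AlgSt.IsMono f) : AlgSt.IsSeparatedMor f :=
  repByAlgSpWith_diag_of_isSeparatedMor isProperMor_yon_map (isSeparatedMor_of_mono hf)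

theorem isDMMor_of_repByAlgSp1 (hf : AlgSt.RepByAlgSp1 f) : AlgSt.IsDMMor f :=
  locP_diag unramified_of_mono hf

theorem isQuasiDMMor_of_isDMMor (hf : AlgSt.IsDMMor f) : AlgSt.IsQuasiDMMor f :=
  repByAlgSpWith_mono (fun _ _ a _ _ ha U V p q h hp hq e =>
    ⟨haveI : LocallyOfFiniteType h.left := (ha p q h hp hq e).1; haveI : FormallyUnramified h.left := (ha p q h hp hq e).2;
      locallyQuasiFinite_of_unramified h.left, (ha p q h hp hq e).1⟩) hf

end Groth.Agent.ASt
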