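import Groth.Agent.ASt.Local
import Groth.Agent.ASp.Diag
import Groth.Agent.ASp.TopFpqc
import Mathlib.AlgebraicGeometry.ZariskisMainTheorem
/-!
From properties of the diagonal of a representable morphism to properties of its fibres.
-/

set_option backward.isDefEq.respectTransparency false
set_option backward.isDefEq.respectTransparency.types false
set_option linter.unusedSectionVars false

universe v₄ u₄ v₃ u₃ v₂ u₂ u

open CategoryTheory CategoryTheory.Limits AlgebraicGeometry Opposite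

namespace Groth.Agent.ASt

open _root_.AlgSp Groth.Agent.ASp

variable {S : Scheme.{u}}

theorem quasiCompact_left_of_isQuasiCompactMor {V T : Over S} {v : V ⟶ T}
    (h : IsQuasiCompactMor ((yon S).map v)) : QuasiCompact v.left := by
  refine quasiCompact_iff_forall_isAffineOpen.2 fun U hU => ?_
  let Z : Over S := Over.mk (U.ι ≫ T.hom)
  let ι : Z ⟶ T := Over.homMk U.ι rfl
  haveI : IsAffine Z.left := hU
  have hq := h (IsAlgSpace.yon_obj Z) isQuasiCompactSp_yon ((yon S).map ι) _ _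
    (isPullback_yon_map (IsPullback.of_hasPullback v ι))
  haveI := compactSpace_of_isQuasiCompactSp hq
  haveI : CompactSpace ↥(pullback v ι).left := (Points.schemeHomeo (pullback v ι)).symm.compactSpace
  have e : Set.range (pullback.fst v ι).left = v.left ⁻¹' (U : Set T.left) := by
    have h1 := isPullback_left (IsPullback.of_hasPullback v ι)
    rw [← h1.isoPullback_hom_fst, Scheme.Hom.comp_base, TopCat.coe_comp, Set.range_comp,
      Set.range_eq_univ.2 h1.isoPullback.hom.surjective, Set.image_univ, Scheme.Pullback.range_fst]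
    exact congrArg _ U.range_ι
  change IsCompact (v.left ⁻¹' (U : Set T.left))
  rw [← e]
  exact isCompact_range (pullback.fst v ι).left.continuous

theorem universallyClosed_left_of_isUnivClosedMor {V T : Over S} {v : V ⟶ T}
    (h : IsUnivClosedMor ((yon S).map v)) : UniversallyClosed v.left := by
  refine ⟨fun X Y g f' snd sq => ?_⟩
  let Z : Over S := Over.mk (f' ≫ T.hom)
  let ι : Z ⟶ T := Over.homMk f' rfl
  have h1 := h (IsAlgSpace.yon_obj Z) ((yon S).map ι) _ _
    (isPullback_yon_map (IsPullback.of_hasPullback v ι))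
  have h2 : IsClosedMap (pullback.snd v ι).left := by
    intro C hC
    have e : (Points.schemeHomeo Z) '' ((pullback.snd v ι).left '' C) =
        Points.map ((yon S).map (pullback.snd v ι)) '' (Points.schemeHomeo (pullback v ι) '' C) := by
      rw [← Set.image_comp, ← Set.image_comp]
      exact Set.image_congr' fun c => (Points.map_yon_map_apply _ c).symm
    rw [← (Points.schemeHomeo Z).isClosed_image, e]
    exact h1 _ ((Points.schemeHomeo (pullback v ι)).isClosedMap C hC)
  have h3 := isPullback_left (IsPullback.of_hasPullback v ι)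
  change IsClosedMap snd
  have e : snd = (IsPullback.isoIsPullback _ _ sq.flip h3).hom ≫ (pullback.snd v ι).left :=
    (IsPullback.isoIsPullback_hom_snd _ _ sq.flip h3).symm
  rw [e, Scheme.Hom.comp_base, TopCat.coe_comp]
  exact h2.comp (IsPullback.isoIsPullback _ _ sq.flip h3).hom.homeomorph.isClosedMap

theorem isClosedImmersion_of_univClosed_mono {X Y : Scheme.{u}} (f : X ⟶ Y) [Mono f] [LocallyOfFiniteType f]
    [UniversallyClosed f] : IsClosedImmersion f := by
  refine (IsClosedImmersion.iff_isProper_and_mono f).2 ⟨?_, inferInstance⟩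
  haveI : IsSeparated f := inferInstance
  exact { }

theorem locallyOfFiniteType_left_of_locP {V T : Over S} {v : V ⟶ T}
    (h : LocP @LocallyOfFiniteType ((yon S).map v)) : LocallyOfFiniteType v.left :=
  h (𝟙 _) (𝟙 _) v (AlgSp.repWith_id _ V) (AlgSp.repWith_id _ T) (by simp)

variable {𝒳 𝒴 : AlgSt.Cat S} [h𝒳 : FibCat.IsFibGrpd 𝒳.p] [h𝒴 : FibCat.IsFibGrpd 𝒴.p]

section Square

variable {𝒜 ℬ 𝒮 : AlgSt.Cat S} [FibCat.IsFibGrpd 𝒜.p] [FibCat.IsFibGrpd ℬ.p] [FibCat.IsFibGrpd 𝒮.p]

theorem clFun_comp_app (F : 𝒜 ⥤ᵇ ℬ) (G : ℬ ⥤ᵇ 𝒮) : clFun F ≫ clFun G = clFun (BasedFunctor.comp F G) := by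
  ext T c
  obtain ⟨m, hm, rfl⟩ := cl_exists (𝒳 := 𝒜) (T := T.unop) c
  rfl

theorem clFun_id_app : clFun (BasedFunctor.id 𝒜) = 𝟙 (Cl 𝒜) := by
  ext T c
  obtain ⟨m, hm, rfl⟩ := cl_exists (𝒳 := 𝒜) (T := T.unop) c
  rfl

theorem isPullback_clFun_fp [𝒜.p.Faithful] [ℬ.p.Faithful] [𝒮.p.Faithful] (F : 𝒜 ⥤ᵇ 𝒮) (G : ℬ ⥤ᵇ 𝒮) :
    IsPullback (clFun (FibCat.fpFst F G)) (clFun (FibCat.fpSnd F G)) (clFun F) (clFun G) := by
  refine isPullback_of_pointwise ?_ (fun T a a' e1 e2 => ?_) (fun T b d e => ?_)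
  · ext T c
    obtain ⟨m, hm, rfl⟩ := cl_exists (𝒳 := FibCat.fp F G) (T := T.unop) c
    exact cl_eq_iff.2 ⟨m.obj.iso.hom, fp_iso_map m⟩
  · obtain ⟨m, hm, rfl⟩ := cl_exists (𝒳 := FibCat.fp F G) (T := T) a
    obtain ⟨m', hm', rfl⟩ := cl_exists (𝒳 := FibCat.fp F G) (T := T) a'
    obtain ⟨a, ha⟩ := cl_eq_iff.1 (show cl m.obj.fst _ = cl m'.obj.fst _ from e1)
    obtain ⟨b, hb⟩ := cl_eq_iff.1 (show cl m.obj.snd _ = cl m'.obj.snd _ from e2)
    refine cl_eq_iff.2 ⟨fpHomMk a b (𝒮.p.map_injective ?_), ha⟩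
    simp [map_w, fp_iso_map, ha, hb]
  · obtain ⟨x, hx, rfl⟩ := cl_exists (𝒳 := 𝒜) (T := T) b
    obtain ⟨y, hy, rfl⟩ := cl_exists (𝒳 := ℬ) (T := T) d
    obtain ⟨φ, hφ⟩ := cl_eq_iff.1 (show cl (F.obj x) ((F.w_obj x).trans hx) = cl (G.obj y) ((G.w_obj y).trans hy) from e)
    haveI := isIso_of_vert φ hφ
    exact ⟨cl (fpMk x y (hy.trans hx.symm) (asIso φ) hφ) hx, rfl, rfl⟩

end Square

variable {f : 𝒳 ⥤ᵇ 𝒴}

/-- A property of the diagonal of a representable morphism holds on the scheme fibres of the diagonals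
of its base changes. -/
theorem prop_fibre_diagonal {P : MorphismProperty (Sp S)} [P.RespectsIso] (hf : AlgSt.RepByAlgSp1 f)
    (hΔ : AlgSt.RepByAlgSpWith P (FibCat.diag f)) {U : Over S} (y : FibCat.overCat U ⥤ᵇ 𝒴)
    {hs : Presheaf.IsSheaf (J S) (fib y f)} {T V : Over S}
    {t : (yon S).obj T ⟶ pullback.diagonalObj
      (ObjectProperty.homMk (fibπ y f) : (⟨fib y f, hs⟩ : Sp S) ⟶ (yon S).obj U)}
    {fst : (yon S).obj V ⟶ (⟨fib y f, hs⟩ : Sp S)} {v : V ⟶ T}
    (sq : IsPullback fst ((yon S).map v)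
      (pullback.diagonal (ObjectProperty.homMk (fibπ y f) : (⟨fib y f, hs⟩ : Sp S) ⟶ (yon S).obj U)) t) :
    P ((yon S).map v) := by
  haveI := faithful_of_repByAlgSp1 hf
  haveI : (FibCat.fpFst y f).toFunctor.Faithful := faithful_fpFst
  let g := FibCat.fpFst y f
  haveI : FibCat.IsFibGrpd (FibCat.fp g g).p := isFibGrpd_fp
  haveI : (FibCat.fp g g).p.Faithful := faithful_fp
  haveI : (FibCat.diag g).toFunctor.Faithful := faithful_diag _
  have hD : RepBySpWith P (clFun (FibCat.diag g)) :=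
    (repBySpWith_clFun_iff P _).2 (repByAlgSpWith_diag_fpFst y f hΔ)
  let π : (⟨fib y f, hs⟩ : Sp S) ⟶ (yon S).obj U := ObjectProperty.homMk (fibπ y f)
  let F := sheafToPresheaf (J S) (Type (u + 1))
  have hov : ∀ T, IsIso ((clFun (BasedFunctor.id (FibCat.overCat U))).app T) := fun T => by
    rw [clFun_id_app]; infer_instance
  let α : Cl (FibCat.overCat U) ⟶ (pyon S).obj U :=
    { app := fun T => ↾(fun c => ⟨overHom c⟩)
      naturality := fun A B h => by ext c; exact congrArg ULift.up (overHom_clMap h.unop c) }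
  have : ∀ T, IsIso (α.app T) := fun T => (isIso_iff_bijective _).2
    ⟨fun a b e => (bijective_overHom T.unop).1 (congrArg ULift.down e),
      fun ⟨k⟩ => by
        obtain ⟨c, hc⟩ := (bijective_overHom T.unop).2 k
        exact ⟨c, congrArg ULift.up hc⟩⟩
  haveI : IsIso α := NatIso.isIso_of_isIso_app _
  have hπ : clFun g ≫ α = fibπ y f := rfl
  have hK : IsPullback (clFun (FibCat.fpFst g g)) (clFun (FibCat.fpSnd g g)) π.hom π.hom :=
    IsPullback.of_iso (isPullback_clFun_fp g g) (Iso.refl _) (Iso.refl _) (Iso.refl _) (asIso α)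
      (by simp) (by simp) (by simp [π, hπ]) (by simp [π, hπ])
  have hP : IsPullback (pullback.fst π π).hom (pullback.snd π π).hom π.hom π.hom :=
    (IsPullback.of_hasPullback π π).map F
  let i := hK.isoIsPullback _ _ hP
  have hd : clFun (FibCat.diag g) ≫ i.hom = (pullback.diagonal π).hom := by
    apply hP.hom_ext
    · rw [Category.assoc, IsPullback.isoIsPullback_hom_fst, clFun_comp_app]
      refine Eq.trans (clFun_id_app (𝒜 := FibCat.fp y f)) ?_
      change 𝟙 _ = F.map (pullback.diagonal π) ≫ F.map (pullback.fst π π)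
      rw [← F.map_comp, pullback.diagonal_fst, F.map_id]
    · rw [Category.assoc, IsPullback.isoIsPullback_hom_snd, clFun_comp_app]
      refine Eq.trans (clFun_id_app (𝒜 := FibCat.fp y f)) ?_
      change 𝟙 _ = F.map (pullback.diagonal π) ≫ F.map (pullback.snd π π)
      rw [← F.map_comp, pullback.diagonal_snd, F.map_id]
  have sq' : IsPullback fst.hom ((yon S).map v).hom (clFun (FibCat.diag g)) (t.hom ≫ i.inv) :=
    IsPullback.of_iso (sq.map F) (Iso.refl _) (Iso.refl _) (Iso.refl _) i.symm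
      (by simp [F]) (by simp [F]) (by simpa [F] using (Iso.comp_inv_eq i).2 hd.symm) (by simp [F])
  obtain ⟨h, -, hP'⟩ := hD (t.hom ≫ i.inv) fst.hom ((yon S).map v).hom sq'
  exact hP'

/-- If the diagonal is quasi-compact, so are the diagonals of the base changes. -/
theorem isQuasiSeparatedMor_of_diag (hf : AlgSt.RepByAlgSp1 f)
    (hΔ : AlgSt.RepByAlgSpWith IsQuasiCompactMor (FibCat.diag f)) :
    AlgSt.RepByAlgSpWith IsQuasiSeparatedMor f := by
  refine repByAlgSpWith_iff.2 ⟨faithful_of_repByAlgSp1 hf, fun U y => ?_⟩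
  obtain ⟨hs, hA⟩ := (repByAlgSp1_iff.1 hf).2 U y
  exact ⟨hs, hA, representable_diagonal hA.diag _, fun T V t fst v sq =>
    quasiCompact_left_of_isQuasiCompactMor (prop_fibre_diagonal hf hΔ y sq)⟩

/-- If the diagonal is universally closed, the base changes are separated. -/
theorem isSeparatedMor_of_diag (hf : AlgSt.RepByAlgSp1 f)
    (hΔ : AlgSt.RepByAlgSpWith IsUnivClosedMor (FibCat.diag f)) :
    AlgSt.RepByAlgSpWith IsSeparatedMor f := by
  refine repByAlgSpWith_iff.2 ⟨faithful_of_repByAlgSp1 hf, fun U y => ?_⟩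
  obtain ⟨hs, hA⟩ := (repByAlgSp1_iff.1 hf).2 U y
  refine ⟨hs, hA, representable_diagonal hA.diag _, fun T V t fst v sq => ?_⟩
  haveI := universallyClosed_left_of_isUnivClosedMor (prop_fibre_diagonal hf hΔ y sq)
  haveI : Mono ((yon S).map v) := prop_fibre_diagonal hf (isMono_diag hf) y sq
  haveI : Mono v := (yon S).mono_of_mono_map inferInstance
  haveI : LocallyOfFiniteType v.left := locallyOfFiniteType_left_of_locP
    (prop_fibre_diagonal hf (locP_diag (fun _ _ h => h) hf) y sq)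
  exact isClosedImmersion_of_univClosed_mono v.left

end Groth.Agent.ASt
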