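import Groth.Agent.ASt.DiagAbs
/-!
Diagonals of base changes and of composites.
-/

set_option backward.isDefEq.respectTransparency false
set_option backward.isDefEq.respectTransparency.types false
set_option linter.unusedSectionVars false

universe v₅ u₅ v₄ u₄ v₃ u₃ v₂ u₂ v u

open CategoryTheory CategoryTheory.Limits AlgebraicGeometry Opposite

namespace Groth.Agent.ASt

open _root_.AlgSp

section IsoMk

variable {C : Type u} [Category.{v} C]
variable {𝒲 : BasedCategory.{v₅, u₅} C} {𝒳 : BasedCategory.{v₂, u₂} C} {𝒴 : BasedCategory.{v₃, u₃} C}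
  {𝒮 : BasedCategory.{v₄, u₄} C} [FibCat.IsFibGrpd 𝒳.p] [FibCat.IsFibGrpd 𝒴.p] [FibCat.IsFibGrpd 𝒮.p]
  {F : 𝒳 ⥤ᵇ 𝒮} {G : 𝒴 ⥤ᵇ 𝒮} {A B : 𝒲 ⥤ᵇ FibCat.fp F G}

/-- Isomorphisms of functors into a fibre product, componentwise. -/
noncomputable def fpIsoMk (α : BasedFunctor.comp A (FibCat.fpFst F G) ≅ BasedFunctor.comp B (FibCat.fpFst F G))
    (β : BasedFunctor.comp A (FibCat.fpSnd F G) ≅ BasedFunctor.comp B (FibCat.fpSnd F G))
    (h : ∀ x, F.map (α.hom.toNatTrans.app x) ≫ (B.obj x).obj.iso.hom =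
      (A.obj x).obj.iso.hom ≫ G.map (β.hom.toNatTrans.app x)) : A ≅ B :=
  let f : ∀ x, A.obj x ⟶ B.obj x := fun x => fpHomMk (α.hom.toNatTrans.app x) (β.hom.toNatTrans.app x) (h x)
  have hf : ∀ x, IsIso (f x) := fun x =>
    haveI : FibCat.IsFibGrpd (FibCat.fp F G).p := isFibGrpd_fp
    isIso_of_vert (f x) (map_app _ _ α.hom x)
  BasedNatIso.mkNatIso
    (NatIso.ofComponents (fun x => @asIso _ _ _ _ (f x) (hf x)) fun {x x'} m =>
      fp_hom_ext (α.hom.toNatTrans.naturality m) (β.hom.toNatTrans.naturality m))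
    fun x => isHomLift_id_of_map (f x) (A.w_obj x) (map_app _ _ α.hom x)

theorem fpIsoMk_app (α β h) (x : 𝒲.obj) :
    (fpIsoMk (A := A) (B := B) α β h).hom.toNatTrans.app x =
      fpHomMk (α.hom.toNatTrans.app x) (β.hom.toNatTrans.app x) (h x) := rfl

end IsoMk

variable {S : Scheme.{u}} {𝒳 𝒴 𝒵 𝒵' : AlgSt.Cat S} [h𝒳 : FibCat.IsFibGrpd 𝒳.p] [h𝒴 : FibCat.IsFibGrpd 𝒴.p]
  [h𝒵 : FibCat.IsFibGrpd 𝒵.p] [h𝒵' : FibCat.IsFibGrpd 𝒵'.p]

section DiagClass

variable {g : 𝒴 ⥤ᵇ 𝒵} {U : Over S} (w : FibCat.overCat U ⥤ᵇ FibCat.fp g g)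

/-- A vertical identification of the two components over the given one. -/
structure DVert {T : Over S} (k : T ⟶ U)
    (v : (w.obj (ov k)).obj.fst ⟶ (w.obj (ov k)).obj.snd) : Prop where
  map : 𝒴.p.map v = eqToHom (fp_snd_base (w.obj (ov k))).symm
  comp : g.map v = (w.obj (ov k)).obj.iso.hom

/-- The morphism to the diagonal given by such an identification. -/
noncomputable def dHom {T : Over S} {k : T ⟶ U} {v} (h : DVert w k v) :
    w.obj (ov k) ⟶ (FibCat.diag g).obj (w.obj (ov k)).obj.snd :=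
  fpHomMk v (𝟙 _) ((Category.comp_id _).trans (h.comp.trans
    ((Category.comp_id _).symm.trans (congrArg (fun r => (w.obj (ov k)).obj.iso.hom ≫ r) (g.map_id _).symm))))

theorem map_dHom {T : Over S} {k : T ⟶ U} {v} (h : DVert w k v) :
    (FibCat.fp g g).p.map (dHom w h) = eqToHom (((w.w_obj (ov k)).trans (ov_base k)).trans
      ((wbase' w k).symm.trans ((FibCat.diag g).w_obj _).symm)) :=
  h.map

/-- The class of the diagonal given by an identification. -/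
noncomputable def diagEl {T : Over S} {k : T ⟶ U} {v} (h : DVert w k v) :
    ClType (FibCat.fp w (FibCat.diag g)) T :=
  fpEl k (w.obj (ov k)).obj.snd (wbase' w k) (dHom w h) (map_dHom w h)

theorem fpHom_diagEl {T : Over S} {k : T ⟶ U} {v} (h : DVert w k v) : fpHom (diagEl w h) = k :=
  fpHom_fpEl _ _ _ _ _

theorem diagEl_exists {T : Over S} (c : ClType (FibCat.fp w (FibCat.diag g)) T) :
    ∃ (k : T ⟶ U) (v : _) (h : DVert w k v), c = diagEl w h := by
  obtain ⟨k, y, hy, φ, hφ, rfl⟩ := fpEl_exists c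
  have hi := isIso_fp_snd φ hφ
  have e2 := fp_map_snd φ
  have hf1 : 𝒴.p.map φ.hom.fst = eqToHom _ := hφ
  have w1 : g.map φ.hom.fst = (w.obj (ov k)).obj.iso.hom ≫ g.map φ.hom.snd :=
    (Category.comp_id _).symm.trans φ.hom.w
  have h : DVert w k (φ.hom.fst ≫ inv φ.hom.snd) := by
    constructor
    · rw [Functor.map_comp, Functor.map_inv]
      simp [e2, hf1]
    · rw [g.map_comp, w1, Category.assoc, ← g.map_comp, IsIso.hom_inv_id, g.map_id]
      exact Category.comp_id _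
  refine ⟨k, _, h, fpEl_eq_iff.2 ⟨inv φ.hom.snd, ?_, fp_hom_ext rfl ?_⟩⟩
  · rw [Functor.map_inv]
    simp [e2, hf1]
  · exact IsIso.hom_inv_id φ.hom.snd

theorem diagEl_eq_iff {T : Over S} {k : T ⟶ U} {v v'} (h : DVert w k v) (h' : DVert w k v') :
    diagEl w h = diagEl w h' ↔ v = v' := by
  refine ⟨fun e => ?_, fun e => by subst e; rfl⟩
  obtain ⟨a, -, he⟩ := fpEl_eq_iff.1 e
  have h1 : v ≫ a = v' := congrArg (fun m => m.hom.fst) he
  have h2 : 𝟙 _ ≫ a = 𝟙 _ := congrArg (fun m => m.hom.snd) he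
  rw [Category.id_comp] at h2
  subst h2
  exact (Category.comp_id v).symm.trans h1

end DiagClass

section BaseChange

variable (n : 𝒵' ⥤ᵇ 𝒵) (g : 𝒴 ⥤ᵇ 𝒵)

/-- The second components of a pair in a base change. -/
noncomputable def bcN : FibCat.fp (FibCat.fpFst n g) (FibCat.fpFst n g) ⥤ᵇ FibCat.fp g g :=
  FibCat.fpLift (BasedFunctor.comp (FibCat.fpFst (FibCat.fpFst n g) (FibCat.fpFst n g)) (FibCat.fpSnd n g))
    (BasedFunctor.comp (FibCat.fpSnd (FibCat.fpFst n g) (FibCat.fpFst n g)) (FibCat.fpSnd n g))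
    (wL (FibCat.fpFst (FibCat.fpFst n g) (FibCat.fpFst n g)) (FibCat.fpIso n g).symm ≪≫
      wR (FibCat.fpIso (FibCat.fpFst n g) (FibCat.fpFst n g)) n ≪≫
      wL (FibCat.fpSnd (FibCat.fpFst n g) (FibCat.fpFst n g)) (FibCat.fpIso n g))

theorem bcN_iso (x : (FibCat.fp (FibCat.fpFst n g) (FibCat.fpFst n g)).obj) :
    ((bcN n g).obj x).obj.iso.hom = x.obj.fst.obj.iso.inv ≫ n.map x.obj.iso.hom ≫ x.obj.snd.obj.iso.hom := rfl

/-- The diagonals commute. -/
noncomputable def bcTau :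
    BasedFunctor.comp (FibCat.diag (FibCat.fpFst n g)) (bcN n g) ≅
      BasedFunctor.comp (FibCat.fpSnd n g) (FibCat.diag g) :=
  fpIsoMk (Iso.refl _) (Iso.refl _) fun x => by
    change g.map (𝟙 x.obj.snd) ≫ 𝟙 (g.obj x.obj.snd) =
      (x.obj.iso.inv ≫ n.map (𝟙 x.obj.fst) ≫ x.obj.iso.hom) ≫ g.map (𝟙 x.obj.snd)
    simp

variable {U : Over S} (w : FibCat.overCat U ⥤ᵇ FibCat.fp (FibCat.fpFst n g) (FibCat.fpFst n g))

/-- Fibres of the diagonal of a base change. -/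
noncomputable def bcDiagF : FibCat.fp w (FibCat.diag (FibCat.fpFst n g)) ⥤ᵇ
    FibCat.fp (BasedFunctor.comp w (bcN n g)) (FibCat.diag g) :=
  FibCat.fpLift (FibCat.fpFst w _) (BasedFunctor.comp (FibCat.fpSnd w _) (FibCat.fpSnd n g))
    (wR (FibCat.fpIso w (FibCat.diag (FibCat.fpFst n g))) (bcN n g) ≪≫
      wL (FibCat.fpSnd w (FibCat.diag (FibCat.fpFst n g))) (bcTau n g))

theorem dVert_bc {T : Over S} {k : T ⟶ U} {v} (h : DVert w k v) :
    DVert (g := g) (BasedFunctor.comp w (bcN n g)) k v.hom.snd := by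
  constructor
  · have h1 : 𝒵'.p.map v.hom.fst = eqToHom _ := h.map
    change 𝒴.p.map v.hom.snd = _
    rw [fp_map_snd, h1]
    simp
  · have h1 : v.hom.fst = (w.obj (ov k)).obj.iso.hom := h.comp
    change g.map v.hom.snd = ((bcN n g).obj (w.obj (ov k))).obj.iso.hom
    rw [bcN_iso, ← h1, Iso.eq_inv_comp]
    exact v.hom.w.symm

theorem clF_bcDiagF {T : Over S} {k : T ⟶ U} {v} (h : DVert w k v) :
    clF (bcDiagF n g w) T (diagEl w h) = diagEl (BasedFunctor.comp w (bcN n g)) (dVert_bc n g w h) :=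
  cl_eq_iff.2 ⟨fpHomMk (𝟙 _) (𝟙 _) (by
    have e1 : (BasedFunctor.comp w (bcN n g)).map (𝟙 (ov k)) = 𝟙 ((bcN n g).obj (w.obj (ov k))) :=
      (BasedFunctor.comp w (bcN n g)).toFunctor.map_id _
    have e2 : (FibCat.diag g).map (𝟙 (w.obj (ov k)).obj.snd.obj.snd) = 𝟙 _ := (FibCat.diag g).toFunctor.map_id _
    change (BasedFunctor.comp w (bcN n g)).map (𝟙 (ov k)) ≫ dHom (BasedFunctor.comp w (bcN n g)) (dVert_bc n g w h) =
      ((bcN n g).map (dHom w h) ≫ (bcTau n g).hom.toNatTrans.app (w.obj (ov k)).obj.snd) ≫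
        (FibCat.diag g).map (𝟙 (w.obj (ov k)).obj.snd.obj.snd)
    refine Eq.trans ?_ ((congrArg (fun r => _ ≫ r) e2).trans (Category.comp_id _)).symm
    refine ((congrArg (fun r => r ≫ _) e1).trans (Category.id_comp _)).trans ?_
    exact fp_hom_ext (Category.comp_id v.hom.snd).symm (Category.comp_id (𝟙 (w.obj (ov k)).obj.snd.obj.snd)).symm),
    ((FibCat.overCat U).p.map_id _).trans rfl⟩

theorem fpHom_bcDiagF (T : Over S) (c : ClType (FibCat.fp w (FibCat.diag (FibCat.fpFst n g))) T) :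
    fpHom (clF (bcDiagF n g w) T c) = fpHom c := by
  obtain ⟨m, hm, rfl⟩ := cl_exists c
  rfl

theorem bijective_bcDiagF (T : Over S) : Function.Bijective (clF (bcDiagF n g w) T) := by
  constructor
  · intro c c' e
    obtain ⟨k, v, h, rfl⟩ := diagEl_exists w c
    obtain ⟨k', v', h', rfl⟩ := diagEl_exists w c'
    rw [clF_bcDiagF n g w h, clF_bcDiagF n g w h'] at e
    obtain rfl : k = k' := (fpHom_diagEl _ _).symm.trans ((congrArg fpHom e).trans (fpHom_diagEl _ _))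
    have h1 := (diagEl_eq_iff _ _ _).1 e
    exact (diagEl_eq_iff _ _ _).2 (fp_hom_ext (h.comp.trans h'.comp.symm) h1)
  · intro c
    obtain ⟨k, v, h, rfl⟩ := diagEl_exists (g := g) (BasedFunctor.comp w (bcN n g)) c
    let v₀ : (w.obj (ov k)).obj.fst ⟶ (w.obj (ov k)).obj.snd :=
      fpHomMk (w.obj (ov k)).obj.iso.hom v (by
        have e := h.comp
        change g.map v = ((bcN n g).obj (w.obj (ov k))).obj.iso.hom at e
        rw [e, bcN_iso]
        exact (Iso.hom_inv_id_assoc _ _).symm)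
    have h₀ : DVert w k v₀ := ⟨fp_iso_map (w.obj (ov k)), rfl⟩
    exact ⟨diagEl w h₀, (clF_bcDiagF n g w h₀).trans ((diagEl_eq_iff _ _ _).2 rfl)⟩

/-- The diagonal of a base change is a base change of the diagonal. -/
theorem repByAlgSpWith_diag_fpFst {P : MorphismProperty (Sp S)}
    (hΔ : AlgSt.RepByAlgSpWith P (FibCat.diag g)) : AlgSt.RepByAlgSpWith P (FibCat.diag (FibCat.fpFst n g)) :=
  fun _ w =>
    haveI : FibCat.IsFibGrpd (FibCat.fp (FibCat.fpFst n g) (FibCat.fpFst n g)).p := isFibGrpd_fp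
    haveI : (FibCat.diag (FibCat.fpFst n g)).toFunctor.Faithful := faithful_diag _
    exists_rep_transfer (bcDiagF n g w) (fpHom_bcDiagF n g w) (bijective_bcDiagF n g w) (hΔ _ _)

end BaseChange

section Composite

variable (f : 𝒳 ⥤ᵇ 𝒴) (g : 𝒴 ⥤ᵇ 𝒵)

/-- `𝒳 ×_𝒴 𝒳 ⟶ 𝒳 ×_𝒵 𝒳`. -/
noncomputable def compJ : FibCat.fp f f ⥤ᵇ FibCat.fp (BasedFunctor.comp f g) (BasedFunctor.comp f g) :=
  FibCat.fpLift (FibCat.fpFst f f) (FibCat.fpSnd f f) (wR (FibCat.fpIso f f) g)

noncomputable def diagCompJ :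
    BasedFunctor.comp (FibCat.diag f) (compJ f g) ≅ FibCat.diag (BasedFunctor.comp f g) :=
  fpIsoMk (Iso.refl _) (Iso.refl _) fun x => by
    change g.map (f.map (𝟙 x)) ≫ 𝟙 (g.obj (f.obj x)) = g.map (𝟙 (f.obj x)) ≫ g.map (f.map (𝟙 x))
    simp

/-- `(x₁, x₂, e) ↦ (f x₁, f x₂, e)`. -/
noncomputable def compN : FibCat.fp (BasedFunctor.comp f g) (BasedFunctor.comp f g) ⥤ᵇ FibCat.fp g g :=
  FibCat.fpLift (BasedFunctor.comp (FibCat.fpFst (BasedFunctor.comp f g) (BasedFunctor.comp f g)) f)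
    (BasedFunctor.comp (FibCat.fpSnd (BasedFunctor.comp f g) (BasedFunctor.comp f g)) f)
    (FibCat.fpIso (BasedFunctor.comp f g) (BasedFunctor.comp f g))

/-- The square of `compJ` and the diagonal commutes. -/
noncomputable def compTau : BasedFunctor.comp (compJ f g) (compN f g) ≅
    BasedFunctor.comp (BasedFunctor.comp (FibCat.fpSnd f f) f) (FibCat.diag g) :=
  fpIsoMk (FibCat.fpIso f f) (Iso.refl _) fun x => by
    change g.map x.obj.iso.hom ≫ 𝟙 (g.obj (f.obj x.obj.snd)) =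
      g.map x.obj.iso.hom ≫ g.map (𝟙 (f.obj x.obj.snd))
    simp

variable {U : Over S} (w : FibCat.overCat U ⥤ᵇ FibCat.fp (BasedFunctor.comp f g) (BasedFunctor.comp f g))

/-- Fibres of `compJ`. -/
noncomputable def compJF : FibCat.fp w (compJ f g) ⥤ᵇ FibCat.fp (BasedFunctor.comp w (compN f g)) (FibCat.diag g) :=
  FibCat.fpLift (FibCat.fpFst w (compJ f g))
    (BasedFunctor.comp (FibCat.fpSnd w (compJ f g)) (BasedFunctor.comp (FibCat.fpSnd f f) f))
    (wR (FibCat.fpIso w (compJ f g)) (compN f g) ≪≫ wL (FibCat.fpSnd w (compJ f g)) (compTau f g))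

theorem dVert_compJ {T : Over S} {k : T ⟶ U} {m : (FibCat.fp f f).obj} {hm : (FibCat.fp f f).p.obj m = T}
    {φ : w.obj (ov k) ⟶ (compJ f g).obj m}
    (hφ : (FibCat.fp (BasedFunctor.comp f g) (BasedFunctor.comp f g)).p.map φ = eqToHom (((w.w_obj (ov k)).trans (ov_base k)).trans
      (hm.symm.trans ((compJ f g).w_obj m).symm))) [IsIso φ.hom.snd] :
    DVert (g := g) (BasedFunctor.comp w (compN f g)) k (f.map φ.hom.fst ≫ m.obj.iso.hom ≫ f.map (inv φ.hom.snd)) := by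
  constructor
  · have h1 : 𝒳.p.map φ.hom.fst = eqToHom _ := hφ
    have h2 := fp_map_snd φ
    change 𝒴.p.map (f.map φ.hom.fst ≫ m.obj.iso.hom ≫ f.map (inv φ.hom.snd)) = _
    simp only [Functor.map_comp, map_w, fp_iso_map, Functor.map_inv, h1, h2]
    simp
  · change g.map (f.map φ.hom.fst ≫ m.obj.iso.hom ≫ f.map (inv φ.hom.snd)) = (w.obj (ov k)).obj.iso.hom
    have e : g.map (f.map φ.hom.fst) ≫ g.map m.obj.iso.hom =
        (w.obj (ov k)).obj.iso.hom ≫ g.map (f.map φ.hom.snd) := φ.hom.w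
    rw [g.map_comp, g.map_comp, ← Category.assoc, e, Category.assoc, ← g.map_comp, ← f.map_comp,
      IsIso.hom_inv_id, f.map_id, g.map_id]
    exact Category.comp_id _

theorem clF_compJF {T : Over S} {k : T ⟶ U} {m : (FibCat.fp f f).obj} (hm : (FibCat.fp f f).p.obj m = T)
    (φ : w.obj (ov k) ⟶ (compJ f g).obj m) (hφ) [IsIso φ.hom.snd] :
    clF (compJF f g w) T (fpEl k m hm φ hφ) =
      diagEl (BasedFunctor.comp w (compN f g)) (dVert_compJ f g w (hm := hm) hφ) := by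
  have hv : 𝒳.p.map (inv φ.hom.snd) = eqToHom ((fp_snd_base m).trans (hm.trans
      (((fp_snd_base (w.obj (ov k))).trans ((w.w_obj (ov k)).trans (ov_base k))).symm))) := by
    have h1 : 𝒳.p.map φ.hom.fst = eqToHom _ := hφ
    have h2 := fp_map_snd φ
    rw [Functor.map_inv]
    simp [h2, h1]
  refine cl_eq_iff.2 ⟨fpHomMk (𝟙 _) (f.map (inv φ.hom.snd)) ?_,
    ((FibCat.overCat U).p.map_id _).trans rfl⟩
  have e1 : (BasedFunctor.comp w (compN f g)).map (𝟙 (ov k)) = 𝟙 ((compN f g).obj (w.obj (ov k))) :=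
    (BasedFunctor.comp w (compN f g)).toFunctor.map_id _
  change (BasedFunctor.comp w (compN f g)).map (𝟙 (ov k)) ≫
      dHom (BasedFunctor.comp w (compN f g)) (dVert_compJ f g w (hm := hm) hφ) =
    ((compN f g).map φ ≫ (compTau f g).hom.toNatTrans.app m) ≫ (FibCat.diag g).map (f.map (inv φ.hom.snd))
  refine ((congrArg (fun r => r ≫ _) e1).trans (Category.id_comp _)).trans (fp_hom_ext ?_ ?_)
  · change f.map φ.hom.fst ≫ m.obj.iso.hom ≫ f.map (inv φ.hom.snd) =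
      (f.map φ.hom.fst ≫ m.obj.iso.hom) ≫ f.map (inv φ.hom.snd)
    exact (Category.assoc _ _ _).symm
  · change 𝟙 (f.obj (w.obj (ov k)).obj.snd) = (f.map φ.hom.snd ≫ 𝟙 (f.obj m.obj.snd)) ≫ f.map (inv φ.hom.snd)
    refine Eq.trans ?_ (congrArg (fun r => r ≫ f.map (inv φ.hom.snd)) (Category.comp_id (f.map φ.hom.snd))).symm
    rw [← f.map_comp, IsIso.hom_inv_id, f.map_id]

theorem fpHom_compJF (T : Over S) (c : ClType (FibCat.fp w (compJ f g)) T) :
    fpHom (clF (compJF f g w) T c) = fpHom c := by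
  obtain ⟨m, hm, rfl⟩ := cl_exists c
  rfl

theorem bijective_compJF (T : Over S) : Function.Bijective (clF (compJF f g w) T) := by
  constructor
  · intro c c' e
    obtain ⟨k, m, hm, φ, hφ, rfl⟩ := fpEl_exists c
    obtain ⟨k', m', hm', φ', hφ', rfl⟩ := fpEl_exists c'
    have := isIso_fp_snd φ hφ
    have := isIso_fp_snd φ' hφ'
    rw [clF_compJF f g w hm φ hφ, clF_compJF f g w hm' φ' hφ'] at e
    obtain rfl : k = k' := (fpHom_diagEl _ _).symm.trans ((congrArg fpHom e).trans (fpHom_diagEl _ _))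
    have he := (diagEl_eq_iff _ _ _).1 e
    have := isIso_fp_fst φ hφ
    have hh : f.map (inv φ.hom.fst ≫ φ'.hom.fst) ≫ m'.obj.iso.hom =
        m.obj.iso.hom ≫ f.map (inv φ.hom.snd ≫ φ'.hom.snd) := by
      rw [← cancel_epi (f.map φ.hom.fst), ← cancel_mono (f.map (inv φ'.hom.snd))]
      simp only [Category.assoc, ← f.map_comp, ← f.map_comp_assoc, IsIso.hom_inv_id_assoc, IsIso.hom_inv_id,
        Category.comp_id]
      exact he.symm
    refine fpEl_eq_iff.2 ⟨fpHomMk (inv φ.hom.fst ≫ φ'.hom.fst) (inv φ.hom.snd ≫ φ'.hom.snd) hh, ?_,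
      fp_hom_ext (IsIso.hom_inv_id_assoc _ _) (IsIso.hom_inv_id_assoc _ _)⟩
    have h1 : 𝒳.p.map φ.hom.fst = eqToHom _ := hφ
    have h2 : 𝒳.p.map φ'.hom.fst = eqToHom _ := hφ'
    change 𝒳.p.map (inv φ.hom.fst ≫ φ'.hom.fst) = _
    simp [h1, h2]
  · intro c
    obtain ⟨k, v, h, rfl⟩ := diagEl_exists (g := g) (BasedFunctor.comp w (compN f g)) c
    let x₁ := (w.obj (ov k)).obj.fst
    let x₂ := (w.obj (ov k)).obj.snd
    have hiv : IsIso v := isIso_of_vert v h.map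
    let m : (FibCat.fp f f).obj := fpMk (F := f) (G := f) x₁ x₂ (fp_snd_base _) (@asIso _ _ _ _ v hiv)
      (h.map.trans rfl)
    let φ : w.obj (ov k) ⟶ (compJ f g).obj m := fpHomMk (𝟙 x₁) (𝟙 x₂) (by
      change g.map (f.map (𝟙 x₁)) ≫ g.map v = (w.obj (ov k)).obj.iso.hom ≫ g.map (f.map (𝟙 x₂))
      have e : g.map v = (w.obj (ov k)).obj.iso.hom := h.comp
      rw [e, f.map_id, g.map_id, f.map_id, g.map_id]
      exact (Category.id_comp _).trans (Category.comp_id _).symm)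
    have hm : (FibCat.fp f f).p.obj m = T := (w.w_obj (ov k)).trans (ov_base k)
    have hφ : (FibCat.fp (BasedFunctor.comp f g) (BasedFunctor.comp f g)).p.map φ =
        eqToHom (((w.w_obj (ov k)).trans (ov_base k)).trans (hm.symm.trans ((compJ f g).w_obj m).symm)) :=
      (𝒳.p.map_id x₁).trans rfl
    have := isIso_fp_snd φ hφ
    refine ⟨fpEl k m hm φ hφ, (clF_compJF f g w hm φ hφ).trans ((diagEl_eq_iff _ _ _).2 ?_)⟩
    change f.map (𝟙 x₁) ≫ v ≫ f.map (inv (𝟙 x₂)) = v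
    rw [f.map_id, Category.id_comp]
    simp only [IsIso.inv_id]
    exact (congrArg (fun r => v ≫ r) (f.map_id x₂)).trans (Category.comp_id v)

/-- `𝒳 ×_𝒴 𝒳 ⟶ 𝒳 ×_𝒵 𝒳` inherits the property of the diagonal of `g`. -/
theorem repByAlgSpWith_compJ {P : MorphismProperty (Sp S)} (hΔ : AlgSt.RepByAlgSpWith P (FibCat.diag g)) :
    AlgSt.RepByAlgSpWith P (compJ f g) := fun _ w => by
  have : (compJ f g).toFunctor.Faithful :=
    ⟨fun h => fp_hom_ext (congrArg (fun k => k.hom.fst) h) (congrArg (fun k => k.hom.snd) h)⟩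
  exact exists_rep_transfer (compJF f g w) (fpHom_compJF f g w) (bijective_compJF f g w) (hΔ _ _)

end Composite

theorem repByAlgSpWith_diag_comp {P : MorphismProperty (Sp S)} [P.RespectsIso] (hP : CompLocal P)
    {f : 𝒳 ⥤ᵇ 𝒴} {g : 𝒴 ⥤ᵇ 𝒵} (hf : AlgSt.RepByAlgSpWith P (FibCat.diag f))
    (hg : AlgSt.RepByAlgSpWith P (FibCat.diag g)) :
    AlgSt.RepByAlgSpWith P (FibCat.diag (BasedFunctor.comp f g)) :=
  repByAlgSpWith_congr (diagCompJ f g) (repByAlgSpWith_comp hP hf (repByAlgSpWith_compJ f g hg))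

end Groth.Agent.ASt
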