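import Groth.Agent.ASt.FpSp
import Groth.Agent.ASt.DiagSq
/-!
Descent for diagonals.
-/

set_option backward.isDefEq.respectTransparency false
set_option backward.isDefEq.respectTransparency.types false
set_option linter.unusedSectionVars false

universe u

open CategoryTheory CategoryTheory.Limits AlgebraicGeometry Opposite

namespace Groth.Agent.ASt

open _root_.AlgSp Groth.Agent.ASp

variable {S : Scheme.{u}} {𝒳 𝒴 𝒵 : AlgSt.Cat S} [h𝒳 : FibCat.IsFibGrpd 𝒳.p] [h𝒴 : FibCat.IsFibGrpd 𝒴.p]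
  [h𝒵 : FibCat.IsFibGrpd 𝒵.p]

/-- Lifting through an fppf morphism after an fppf change of the test scheme. -/
theorem exists_fppf_lift {z : 𝒵 ⥤ᵇ 𝒴} {W : Over S} (c : FibCat.overCat W ⥤ᵇ 𝒵)
    (hfl : AlgSt.RepByAlgSpWith (LocP @Flat) (BasedFunctor.comp c z))
    (hfp : AlgSt.RepByAlgSpWith (LocP @LocallyOfFinitePresentation) (BasedFunctor.comp c z))
    (hsu : AlgSt.IsSurjective (BasedFunctor.comp c z)) {U : Over S} (y : FibCat.overCat U ⥤ᵇ 𝒴) :
    ∃ (T : Over S) (l : T ⟶ U) (g' : FibCat.overCat T ⥤ᵇ 𝒵), Flat l.left ∧ LocallyOfFinitePresentation l.left ∧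
      Surjective l.left ∧ Nonempty (BasedFunctor.comp g' z ≅ BasedFunctor.comp (AlgSt.overMap l) y) := by
  obtain ⟨hs, hA, T, p, E, l, hpe, hps, hcomp, ⟨α⟩, -, -⟩ := exists_chart_of_fib (repByAlgSp1_of_with hfl) y
  obtain ⟨_, _, q1⟩ := (repByAlgSpWith_iff.1 hfl).2 U y
  obtain ⟨_, _, q2⟩ := (repByAlgSpWith_iff.1 hfp).2 U y
  obtain ⟨_, _, q3⟩ :=
    (repByAlgSpWith_iff.1 (repByAlgSpWith_surjective_of_isSurjective (repByAlgSp1_of_with hfl) hsu)).2 U y
  haveI : FibCat.IsFibGrpd (FibCat.fp y (BasedFunctor.comp c z)).p := isFibGrpd_fp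
  exact ⟨T, l, BasedFunctor.comp (BasedFunctor.comp E (FibCat.fpSnd y (BasedFunctor.comp c z))) c,
    prop_chart hpe hcomp q1, prop_chart hpe hcomp q2, surjective_left_of_map (by
      rw [← hcomp, show AlgSp.Points.map (p ≫ _) = AlgSp.Points.map _ ∘ AlgSp.Points.map p from
        funext (AlgSp.Points.map_comp p _)]
      exact q3.comp (surjective_map_of_repWith hps)),
    ⟨(wL E (FibCat.fpIso y (BasedFunctor.comp c z))).symm.trans (wR α y)⟩⟩

/-- The diagonal of a morphism inherits properties from the diagonal of an fppf base change. -/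
theorem repByAlgSpWith_diag_of_fppf {P : MorphismProperty (Sp S)} [P.RespectsIso]
    (hP₂ : IsLocalOnBase IsFppfCover P) {f : 𝒳 ⥤ᵇ 𝒴} (hΔ : AlgSt.RepByAlgSp1 (FibCat.diag f))
    {z : 𝒵 ⥤ᵇ 𝒴} {W : Over S} (c : FibCat.overCat W ⥤ᵇ 𝒵)
    (hfl : AlgSt.RepByAlgSpWith (LocP @Flat) (BasedFunctor.comp c z))
    (hfp : AlgSt.RepByAlgSpWith (LocP @LocallyOfFinitePresentation) (BasedFunctor.comp c z))
    (hsu : AlgSt.IsSurjective (BasedFunctor.comp c z))
    (h : AlgSt.RepByAlgSpWith P (FibCat.diag (FibCat.fpFst z f))) : AlgSt.RepByAlgSpWith P (FibCat.diag f) := by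
  haveI : FibCat.IsFibGrpd (FibCat.fp z f).p := isFibGrpd_fp
  haveI : FibCat.IsFibGrpd (FibCat.fp f f).p := isFibGrpd_fp
  haveI : FibCat.IsFibGrpd (FibCat.fp (FibCat.fpFst z f) (FibCat.fpFst z f)).p := isFibGrpd_fp
  refine repByAlgSpWith_iff.2 ⟨faithful_of_repByAlgSp1 hΔ, fun U w => ?_⟩
  obtain ⟨T, l, g', hl1, hl2, hl3, ⟨β⟩⟩ :=
    exists_fppf_lift c hfl hfp hsu (BasedFunctor.comp (BasedFunctor.comp w (FibCat.fpFst f f)) f)
  let wT := BasedFunctor.comp (AlgSt.overMap l) w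
  let a := BasedFunctor.comp wT (FibCat.fpFst f f)
  let b := BasedFunctor.comp wT (FibCat.fpSnd f f)
  let e : BasedFunctor.comp a f ≅ BasedFunctor.comp b f := wL wT (FibCat.fpIso f f)
  let β' : BasedFunctor.comp g' z ≅ BasedFunctor.comp a f := β
  let w' : FibCat.overCat T ⥤ᵇ FibCat.fp (FibCat.fpFst z f) (FibCat.fpFst z f) :=
    FibCat.fpLift (FibCat.fpLift g' a β') (FibCat.fpLift g' b (β' ≪≫ e)) (Iso.refl g')
  have η : BasedFunctor.comp w' (bcN z f) ≅ wT := fpIsoMk (Iso.refl _) (Iso.refl _) fun x => by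
    rw [show ((BasedFunctor.comp w' (bcN z f)).obj x).obj.iso.hom = _ from bcN_iso z f (w'.obj x)]
    change f.map (𝟙 _) ≫ (wT.obj x).obj.iso.hom = (β'.inv.toNatTrans.app x ≫ z.map (𝟙 _) ≫
      β'.hom.toNatTrans.app x ≫ (wT.obj x).obj.iso.hom) ≫ f.map (𝟙 _)
    simp
    erw [Category.id_comp]
    exact ((((BasedNatTrans.forgetful _ _).mapIso β').app x).inv_hom_id_assoc _).symm
  haveI : (FibCat.diag (FibCat.fpFst z f)).toFunctor.Faithful := faithful_diag _
  haveI : (FibCat.diag f).toFunctor.Faithful := faithful_diag _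
  have h1 : FibHas P w' (FibCat.diag (FibCat.fpFst z f)) := (repByAlgSpWith_iff.1 h).2 T w'
  have h2 : FibHas P (BasedFunctor.comp w' (bcN z f)) (FibCat.diag f) :=
    (fibHas_iff_of_bijective (bcDiagF z f w') (fpHom_bcDiagF z f w') (bijective_bcDiagF z f w')).1 h1
  exact fibHas_of_cover hP₂ hΔ l w (fibHas_congr η h2)

end Groth.Agent.ASt
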