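import Groth.Agent.ASt.Cancel
import Groth.Agent.ASt.Local
/-!
The diagonal of an algebraic stack is locally of finite type.
-/

set_option backward.isDefEq.respectTransparency false
set_option backward.isDefEq.respectTransparency.types false
set_option linter.unusedSectionVars false

universe u

open CategoryTheory CategoryTheory.Limits AlgebraicGeometry Opposite

namespace Groth.Agent.ASt

open _root_.AlgSp Groth.Agent.ASp

variable {S : Scheme.{u}} {𝒳 𝒴 𝒵 : AlgSt.Cat S} [h𝒳 : FibCat.IsFibGrpd 𝒳.p] [h𝒴 : FibCat.IsFibGrpd 𝒴.p]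
  [h𝒵 : FibCat.IsFibGrpd 𝒵.p]

/-- Being locally of finite type descends along smooth surjective maps of schemes on the base. -/
theorem locP_lft_of_smooth_cover {X T : Sp S} {U V : Over S} {l : V ⟶ U} (hl : Smooth l.left)
    (hls : Surjective l.left) (hX : IsAlgSpace X) (hT : IsAlgSpace T) {f : X ⟶ (yon S).obj U}
    {fst : T ⟶ X} {snd : T ⟶ (yon S).obj V} (sq : IsPullback fst snd f ((yon S).map l))
    (h : LocP @LocallyOfFiniteType snd) : LocP @LocallyOfFiniteType f :=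
  (Groth.Agent.S10526.result S (fun _ : PUnit.{u + 1} => (yon S).obj V) (fun _ => (yon S).map l)
    (IsAlgSpace.yon_obj U) (fun _ => IsAlgSpace.yon_obj V)
    (isFpqcCover_of_fppf (IsAlgSpace.yon_obj U) (fun _ => IsAlgSpace.yon_obj V)
      (fun _ => locP_of_repWith (repWith_yon_map (inferInstanceAs (Flat l.left))))
      (fun _ => locP_of_repWith (repWith_yon_map (inferInstanceAs (LocallyOfFinitePresentation l.left))))
      (fun y => ⟨PUnit.unit, surjective_map_of_repWith (repWith_yon_map hls) y⟩))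
    f hX (fun _ => T) (fun _ => snd) (fun _ => fst) (fun _ => hT) (fun _ => sq)).2 fun _ => h

/-- A representable morphism is locally of finite type as soon as it is so after smooth surjective
changes of the test schemes. -/
theorem repByAlgSpWith_lft_of_smooth_covers {f : 𝒳 ⥤ᵇ 𝒴} (hf : AlgSt.RepByAlgSp1 f)
    (h : ∀ (U : Over S) (y : FibCat.overCat U ⥤ᵇ 𝒴), ∃ (V : Over S) (l : V ⟶ U), Smooth l.left ∧
      Surjective l.left ∧ FibHas (LocP @LocallyOfFiniteType) (BasedFunctor.comp (AlgSt.overMap l) y) f) :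
    AlgSt.RepByAlgSpWith (LocP @LocallyOfFiniteType) f := by
  obtain ⟨hfa, hfs⟩ := repByAlgSp1_iff.1 hf
  refine repByAlgSpWith_iff.2 ⟨hfa, fun U y => ?_⟩
  obtain ⟨hs, hA⟩ := hfs U y
  obtain ⟨V, l, hl, hls, hs', hA', hP⟩ := h U y
  exact ⟨hs, hA, locP_lft_of_smooth_cover hl hls hA hA'
    (fst := (ObjectProperty.homMk (clFun (restrF l y f)) :
      (⟨fib (BasedFunctor.comp (AlgSt.overMap l) y) f, hs'⟩ : Sp S) ⟶ (⟨fib y f, hs⟩ : Sp S)))
    (IsPullback.of_map_of_faithful (sheafToPresheaf (J S) (Type (u + 1))) (isPullback_restrF l y)) hP⟩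

/-- A map of schemes surjective on points of the associated spaces is surjective. -/
theorem surjective_left_of_map {U V : Over S} {l : V ⟶ U} (h : Function.Surjective (Points.map ((yon S).map l))) :
    Surjective l.left :=
  surjective_snd_of_surjective_map h (fst := 𝟙 _) (g := 𝟙 _) (IsPullback.of_horiz_isIso ⟨by simp⟩)

/-- Objects lift to a smooth surjective chart after a smooth surjective change of scheme. -/
theorem exists_lift_atlas {W U : Over S} {a : FibCat.overCat W ⥤ᵇ 𝒳}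
    (ha : AlgSt.RepByAlgSpWith (LocP @Smooth) a) (has : AlgSt.RepByAlgSpWith IsSurjectiveMor a)
    (x : FibCat.overCat U ⥤ᵇ 𝒳) :
    ∃ (V : Over S) (l : V ⟶ U), Smooth l.left ∧ Surjective l.left ∧
      ∃ (u : V ⟶ W) (φ : x.obj (ov l) ⟶ a.obj (ov u)), 𝒳.p.map φ = eqToHom
        (((x.w_obj (ov l)).trans (ov_base l)).trans ((a.w_obj (ov u)).trans (ov_base u)).symm) := by
  obtain ⟨hs, hA, hsm⟩ := (repByAlgSpWith_iff.1 ha).2 U x
  obtain ⟨_, _, hsu⟩ := (repByAlgSpWith_iff.1 has).2 U x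
  obtain ⟨V, p, hpe, hps⟩ := hA.atlas
  obtain ⟨l, hl⟩ := (yon S).map_surjective
    (p ≫ (ObjectProperty.homMk (fibπ x a) : (⟨fib x a, hs⟩ : Sp S) ⟶ (yon S).obj U))
  have h1 : Smooth l.left := hsm p (𝟙 _) l hpe (repWith_id _ U) (by rw [Category.comp_id, hl])
  have h2 : Surjective l.left := by
    have : Function.Surjective (Points.map ((yon S).map l)) := by
      rw [hl, show Points.map (p ≫ _) = Points.map _ ∘ Points.map p from funext (Points.map_comp p _)]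
      exact hsu.comp (surjective_map_of_repWith hps)
    exact surjective_left_of_map this
  refine ⟨V, l, h1, h2, ?_⟩
  obtain ⟨k, g, hg, φ, hφ, hc⟩ := fpEl_exists (y := x) (f := a) (T := V)
    (uliftYonedaEquiv.{u + 1} p.hom : ClType (FibCat.fp x a) V)
  obtain rfl : g.left = V := hg
  obtain rfl : k = l := by
    have e : ULift.up (fpHom (fpEl (y := x) (f := a) k g rfl φ hφ)) = ULift.up l := by
      rw [← hc]
      have := congrArg (fun m : (yon S).obj g.left ⟶ (yon S).obj U =>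
        uliftYonedaEquiv.{u + 1} m.hom) hl
      exact this.symm.trans (by simp [uliftYonedaEquiv]; exact congrArg ULift.up (Category.id_comp l))
    exact (fpHom_fpEl k g rfl φ hφ).symm.trans (congrArg ULift.down e)
  exact ⟨g.hom, φ, hφ⟩

section DiagToSelf

variable [FibCat.IsFibGrpd (FibCat.fp (FibCat.toSelf 𝒳) (FibCat.toSelf 𝒳)).p]

/-- The diagonal over the base of an algebraic stack is locally of finite type. -/
theorem repByAlgSpWith_lft_diag_toSelf {W : Over S} {a : FibCat.overCat W ⥤ᵇ 𝒳}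
    (hΔ : AlgSt.RepByAlgSp1 (FibCat.diag (FibCat.toSelf 𝒳)))
    (ha : AlgSt.RepByAlgSpWith (LocP @Smooth) a) (has : AlgSt.RepByAlgSpWith IsSurjectiveMor a) :
    AlgSt.RepByAlgSpWith (LocP @LocallyOfFiniteType) (FibCat.diag (FibCat.toSelf 𝒳)) := by
  haveI hW : FibCat.IsFibGrpd (FibCat.fp (BasedFunctor.comp a (FibCat.toSelf 𝒳))
    (BasedFunctor.comp a (FibCat.toSelf 𝒳))).p := isFibGrpd_fp
  have hJ : AlgSt.RepByAlgSpWith (LocP @LocallyOfFiniteType) (compJ a (FibCat.toSelf 𝒳)) :=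
    repByAlgSpWith_cancel_of_comp
      (fun _ _ _ _ hX₁ hY₁ _ hY₂ _ _ _ _ sq h => locP_of_isPullback sq.flip hX₁ hY₁ hY₂ h)
      (fun _ _ _ _ _ hZ a b h => locP_of_comp (Q := ⊤)
        (fun f g h _ => @locallyOfFiniteType_of_comp _ _ _ f g h) hZ h fun _ _ _ _ _ _ _ _ => trivial)
      (repByAlgSp1_of_with (repByAlgSpWith_compJ a _ (repByAlgSp1_iff_top.1 hΔ)))
      (g := FibCat.fpFst (BasedFunctor.comp a (FibCat.toSelf 𝒳)) (BasedFunctor.comp a (FibCat.toSelf 𝒳)))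
      (repByAlgSp1_fpFst _ (repByAlgSp1_comp_toSelf a))
      (repByAlgSpWith_mono (fun _ _ _ _ _ h U V p q k hp hq e =>
        (haveI : Smooth k.left := h p q k hp hq e; inferInstance)) (repByAlgSpWith_fpFst a ha))
  refine repByAlgSpWith_lft_of_smooth_covers hΔ fun U w => ?_
  obtain ⟨V₁, l₁, h1, h1s, u₁, φ₁, hφ₁⟩ := exists_lift_atlas ha has
    (BasedFunctor.comp w (FibCat.fpFst (FibCat.toSelf 𝒳) (FibCat.toSelf 𝒳)))
  obtain ⟨V, l₂, h2, h2s, u₂, φ₂, hφ₂⟩ := exists_lift_atlas ha has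
    (BasedFunctor.comp (AlgSt.overMap l₁)
      (BasedFunctor.comp w (FibCat.fpSnd (FibCat.toSelf 𝒳) (FibCat.toSelf 𝒳))))
  refine ⟨V, l₂ ≫ l₁, ?_, ?_, ?_⟩
  · rw [Over.comp_left]; infer_instance
  · rw [Over.comp_left]; infer_instance
  let u : V ⟶ W := l₂ ≫ u₁
  have em : (BasedFunctor.comp a (FibCat.toSelf 𝒳)).obj (ov u) = (BasedFunctor.comp a (FibCat.toSelf 𝒳)).obj (ov u₂) :=
    ((a.w_obj (ov u)).trans (ov_base u)).trans ((a.w_obj (ov u₂)).trans (ov_base u₂)).symm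
  let m : (FibCat.fp (BasedFunctor.comp a (FibCat.toSelf 𝒳)) (BasedFunctor.comp a (FibCat.toSelf 𝒳))).obj :=
    fpMk (ov u) (ov u₂) rfl (eqToIso em) (eqToHom_map (FibCat.selfOver (Over S)).p em)
  let w' : FibCat.overCat V ⥤ᵇ _ := objFun (𝒳 := FibCat.fp (BasedFunctor.comp a (FibCat.toSelf 𝒳))
    (BasedFunctor.comp a (FibCat.toSelf 𝒳))) (T := V) m rfl
  haveI : (FibCat.diag (FibCat.toSelf 𝒳)).toFunctor.Faithful := faithful_diag _
  refine fibHas_congr ?_ ((fibHas_iff_of_bijective (compJF a (FibCat.toSelf 𝒳) w') (fpHom_compJF _ _ _)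
    (bijective_compJF _ _ _)).1 ((repByAlgSpWith_iff.1 hJ).2 V w'))
  let x₁ := BasedFunctor.comp w (FibCat.fpFst (FibCat.toSelf 𝒳) (FibCat.toSelf 𝒳))
  let ρ : x₁.obj (ov (l₂ ≫ l₁)) ⟶ a.obj (ov u) :=
    facMap (a.map (ovHom l₂ rfl : ov u ⟶ ov u₁)) (x₁.map (ovHom l₂ rfl : ov (l₂ ≫ l₁) ⟶ ov l₁) ≫ φ₁)
      (eqToHom (((x₁.w_obj _).trans (ov_base _)).trans ((a.w_obj _).trans (ov_base _)).symm))
      (by rw [Functor.map_comp, map_w, map_w, hφ₁]; simp [x₁, ov_p_map])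
  let ψ : w.obj (ov (l₂ ≫ l₁)) ⟶ (compN a (FibCat.toSelf 𝒳)).obj m :=
    fpHomMk ρ φ₂ (by
      have h₁ : 𝒳.p.map ρ = eqToHom (((x₁.w_obj _).trans (ov_base (l₂ ≫ l₁))).trans
          ((a.w_obj _).trans (ov_base u)).symm) := map_facMap _ _ _ _
      have hw := fp_iso_map (w.obj (ov (l₂ ≫ l₁)))
      change (w.obj (ov (l₂ ≫ l₁))).obj.iso.hom = _ at hw
      change 𝒳.p.map ρ ≫ (eqToIso em).hom = (w.obj (ov (l₂ ≫ l₁))).obj.iso.hom ≫ 𝒳.p.map φ₂
      rw [h₁, hw, hφ₂, eqToIso.hom]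
      exact (eqToHom_trans _ _).trans (eqToHom_trans _ _).symm)
  have hp : (FibCat.overCat W).p.map (pullHom m rfl (𝟙 V)).hom.fst =
      eqToHom (pull_base m rfl (𝟙 V)) := by
    change (FibCat.fp (BasedFunctor.comp a (FibCat.toSelf 𝒳)) (BasedFunctor.comp a (FibCat.toSelf 𝒳))).p.map _ = _
    rw [map_pullHom]; simp
  haveI : IsIso (pullHom m rfl (𝟙 V)) := isIso_of_vert _ hp
  refine (funIso (y := BasedFunctor.comp (AlgSt.overMap (l₂ ≫ l₁)) w)
    (y' := BasedFunctor.comp w' (compN a (FibCat.toSelf 𝒳))) (w.map (ovHom (𝟙 V) (k := l₂ ≫ l₁) rfl) ≫ ψ ≫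
    (compN a (FibCat.toSelf 𝒳)).map (inv (pullHom m rfl (𝟙 V)))) ?_).symm
  have hρ : 𝒳.p.map ρ = eqToHom (((x₁.w_obj _).trans (ov_base (l₂ ≫ l₁))).trans
      ((a.w_obj _).trans (ov_base u)).symm) := map_facMap (φ := a.map (ovHom l₂ rfl : ov u ⟶ ov u₁))
      (ψ := x₁.map (ovHom l₂ rfl : ov (l₂ ≫ l₁) ⟶ ov l₁) ≫ φ₁) (g := eqToHom _)
      (by rw [Functor.map_comp, map_w, map_w, hφ₁]; simp [x₁, ov_p_map])
  have hψ : (FibCat.fp (FibCat.toSelf 𝒳) (FibCat.toSelf 𝒳)).p.map ψ = eqToHom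
      (show (FibCat.fp (FibCat.toSelf 𝒳) (FibCat.toSelf 𝒳)).p.obj (w.obj (ov (l₂ ≫ l₁))) =
        (FibCat.fp (FibCat.toSelf 𝒳) (FibCat.toSelf 𝒳)).p.obj ((compN a (FibCat.toSelf 𝒳)).obj m) from
        ((x₁.w_obj _).trans (ov_base (l₂ ≫ l₁))).trans ((a.w_obj _).trans (ov_base u)).symm) := hρ
  rw [Functor.map_comp, Functor.map_comp, map_w, map_w, hψ, Functor.map_inv]
  simp [hp, ov_p_map]
  exact (congrArg (fun r => _ ≫ r) (Category.id_comp _)).trans (eqToHom_trans _ _)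

end DiagToSelf

variable {K : Precoverage Scheme.{u}}

omit h𝒳 in
/-- The diagonal over the base of an algebraic stack is locally of finite type. -/
theorem lft_diag_toSelf (hX : AlgSt.IsAlgStack K 𝒳) :
    AlgSt.RepByAlgSpWith (LocP @LocallyOfFiniteType) (FibCat.diag (FibCat.toSelf 𝒳)) := by
  haveI := hX.isStack.1
  haveI : FibCat.IsFibGrpd (FibCat.fp (FibCat.toSelf 𝒳) (FibCat.toSelf 𝒳)).p := isFibGrpd_fp
  obtain ⟨W, a, ha, has⟩ := hX.atlas
  exact repByAlgSpWith_lft_diag_toSelf hX.diag ha has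

/-- The diagonal of a morphism of algebraic stacks is locally of finite type. -/
theorem lft_diag (hX : AlgSt.IsAlgStack K 𝒳) (hY : AlgSt.IsAlgStack K 𝒴) (f : 𝒳 ⥤ᵇ 𝒴) :
    AlgSt.RepByAlgSpWith (LocP @LocallyOfFiniteType) (FibCat.diag f) :=
  repByAlgSpWith_diag_locP_of_comp compLocal_lft (fun _ _ h => h) (g := FibCat.toSelf 𝒴) hY.diag
    (by rw [comp_toSelf]; exact lft_diag_toSelf hX)

/-- The identity is representable and has every property of isomorphisms. -/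
theorem repByAlgSpWith_id {P : MorphismProperty (Sp S)} [P.RespectsIso]
    (hP : ∀ U : Over S, P (𝟙 ((yon S).obj U))) : AlgSt.RepByAlgSpWith P (BasedFunctor.id 𝒳) :=
  repByAlgSpWith_iff.2 ⟨inferInstanceAs (𝟭 _ : 𝒳.obj ⥤ 𝒳.obj).Faithful, fun U y => by
    have hbij : ∀ T, Function.Bijective (fpHom : ClType (FibCat.fp y (BasedFunctor.id 𝒳)) T → (T ⟶ U)) := by
      intro T
      refine ⟨fun c c' e => ?_, fun k => ⟨fpEl k (y.obj (ov k)) ((y.w_obj _).trans (ov_base k)) (𝟙 _)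
        ((𝒳.p.map_id _).trans rfl), fpHom_fpEl _ _ _ _ _⟩⟩
      obtain ⟨k, x, hx, φ, hφ, rfl⟩ := fpEl_exists c
      obtain ⟨k', x', hx', φ', hφ', rfl⟩ := fpEl_exists c'
      obtain rfl : k = k' := (fpHom_fpEl _ _ _ _ _).symm.trans (e.trans (fpHom_fpEl _ _ _ _ _))
      haveI := isIso_of_vert φ hφ
      refine fpEl_eq_iff.2 ⟨inv φ ≫ φ', ?_, IsIso.hom_inv_id_assoc φ φ'⟩
      have h1 : 𝒳.p.map φ = eqToHom _ := hφ
      have h2 : 𝒳.p.map φ' = eqToHom _ := hφ'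
      simp [h1, h2]
    have hi : ∀ T, IsIso ((fibπ y (BasedFunctor.id 𝒳)).app T) := fun T => (isIso_iff_bijective _).2
      ⟨fun a b e => (hbij T.unop).1 (congrArg ULift.down e), fun k => let ⟨c, hc⟩ := (hbij T.unop).2 k.down
        ⟨c, congrArg ULift.up hc⟩⟩
    haveI : IsIso (fibπ y (BasedFunctor.id 𝒳)) := NatIso.isIso_of_isIso_app _
    obtain ⟨hs, hA⟩ := ((isAlgSpaceP_obj_iff ((yon S).obj U)).2 (IsAlgSpace.yon_obj U)).of_iso
      (asIso (fibπ y (BasedFunctor.id 𝒳))).symm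
    obtain ⟨i⟩ := arrowIso_of_hom (a := (ObjectProperty.homMk (fibπ y (BasedFunctor.id 𝒳)) :
      (⟨fib y (BasedFunctor.id 𝒳), hs⟩ : Sp S) ⟶ (yon S).obj U)) (b := 𝟙 ((yon S).obj U))
      (asIso (fibπ y (BasedFunctor.id 𝒳))) (by simp)
    exact ⟨hs, hA, (P.arrow_mk_iso_iff i).2 (hP U)⟩⟩

/-- Sections inherit the properties of the diagonal. -/
theorem repByAlgSpWith_section {P : MorphismProperty (Sp S)} [P.RespectsIso] (hP : CompLocal P)
    (hid : ∀ U : Over S, P (𝟙 ((yon S).obj U))) {f : 𝒳 ⥤ᵇ 𝒴} {s : 𝒴 ⥤ᵇ 𝒳}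
    (e : BasedFunctor.comp s f ≅ BasedFunctor.id 𝒴) (hΔ : AlgSt.RepByAlgSpWith P (FibCat.diag f)) :
    AlgSt.RepByAlgSpWith P s :=
  repByAlgSpWith_of_comp hP (repByAlgSpWith_congr e.symm (repByAlgSpWith_id hid)) hΔ

end Groth.Agent.ASt
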