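import Groth.Agent.ASt.OverMapRep
/-!
Charts of algebraic spaces as charts of their categories.
-/

set_option backward.isDefEq.respectTransparency false
set_option backward.isDefEq.respectTransparency.types false
set_option linter.unusedSectionVars false

universe u

open CategoryTheory CategoryTheory.Limits AlgebraicGeometry Opposite

namespace Groth.Agent.ASt

open _root_.AlgSp Groth.Agent.ASp

variable {S : Scheme.{u}} {F : Sp S} {V T : Over S}

/-- The functor given by a section of a sheaf. -/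
noncomputable def spChart (p : (yon S).obj V ⟶ F) : FibCat.overCat V ⥤ᵇ AlgSt.ofSp F :=
  BasedFunctor.comp (AlgSt.ofOverCat V) (AlgSt.ofSpMap p)

theorem spChart_sec (p : (yon S).obj V ⟶ F) {W : Over S} (k : W ⟶ V) :
    ((spChart p).obj (ov k)).sec = p.hom.app (op W) ⟨k⟩ := rfl

theorem exists_spChart (y : FibCat.overCat T ⥤ᵇ AlgSt.ofSp F) :
    ∃ q : (yon S).obj T ⟶ F, Nonempty (y ≅ spChart q) := by
  have hb : (y.obj (ov (𝟙 T))).base = T := y.w_obj (ov (𝟙 T))
  let η : F.obj.obj (op T) := F.obj.map (eqToHom hb.symm).op (y.obj (ov (𝟙 T))).sec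
  refine ⟨ObjectProperty.homMk (uliftYonedaEquiv.{u + 1}.symm η), ⟨funIso (y := y) (y' := spChart _)
    (⟨eqToHom hb, ?_⟩ : y.obj (ov (𝟙 T)) ⟶ ⟨T, _⟩) rfl⟩⟩
  change F.obj.map (eqToHom hb).op (F.obj.map (𝟙 T).op η) = _
  rw [op_id, F.obj.map_id]
  change F.obj.map (eqToHom hb).op η = _
  rw [← Functor.map_comp_apply, ← op_comp, eqToHom_trans, eqToHom_refl, op_id]
  simp

/-- The identification of two sections with one value. -/
noncomputable def spIso {p : (yon S).obj V ⟶ F} {q : (yon S).obj T ⟶ F} {W : Over S} {j : W ⟶ T} {a : W ⟶ V}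
    (e : p.hom.app (op W) ⟨a⟩ = q.hom.app (op W) ⟨j⟩) :
    (spChart q).obj (ov j) ⟶ (spChart p).obj (ov a) :=
  ⟨𝟙 W, (ConcreteCategory.congr_hom (F.obj.map_id (op W)) _).trans e⟩

theorem fpEl_spChart_exists {p : (yon S).obj V ⟶ F} {q : (yon S).obj T ⟶ F} {W : Over S}
    (c : ClType (FibCat.fp (spChart q) (spChart p)) W) :
    ∃ (j : W ⟶ T) (a : W ⟶ V) (e : p.hom.app (op W) ⟨a⟩ = q.hom.app (op W) ⟨j⟩),
      c = fpEl j (ov a) rfl (spIso e) rfl := by
  obtain ⟨j, x, hx, φ, hφ, rfl⟩ := fpEl_exists c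
  obtain ⟨xl, ⟨⟨⟩⟩, a⟩ := x
  obtain rfl : xl = W := hx
  have h1 : φ.hom = 𝟙 _ := hφ
  have h2 : F.obj.map φ.hom.op (p.hom.app (op xl) ⟨a⟩) = q.hom.app (op xl) ⟨j⟩ := φ.map_sec
  rw [h1] at h2
  exact ⟨j, a, (ConcreteCategory.congr_hom (F.obj.map_id (op xl)) _).symm.trans h2,
    fpEl_eq_iff.2 ⟨𝟙 _, rfl, Stk.EltObj.hom_ext (by simp [h1, spIso]; rfl)⟩⟩

/-- The second coordinate of a point of a fibre of two charts. -/
noncomputable def spSnd (q : (yon S).obj T ⟶ F) (p : (yon S).obj V ⟶ F) :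
    fib (spChart q) (spChart p) ⟶ (pyon S).obj V :=
  haveI : FibCat.IsFibGrpd (FibCat.fp (spChart q) (spChart p)).p := isFibGrpd_fp
  clFun (FibCat.fpSnd (spChart q) (spChart p)) ≫ overClHom V

theorem spSnd_fpEl (q : (yon S).obj T ⟶ F) (p : (yon S).obj V ⟶ F) {W : Over S} (j : W ⟶ T) (a : W ⟶ V)
    (φ : (spChart q).obj (ov j) ⟶ (spChart p).obj (ov a)) (hφ) :
    (spSnd q p).app (op W) (fpEl j (ov a) rfl φ hφ) = ⟨a⟩ := congrArg ULift.up (overHom_mk a)

theorem isPullback_spChart (q : (yon S).obj T ⟶ F) (p : (yon S).obj V ⟶ F) :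
    IsPullback (spSnd q p) (fibπ (spChart q) (spChart p)) p.hom q.hom := by
  refine isPullback_of_pointwise ?_ (fun W c c' e1 e2 => ?_) (fun W b d e => ?_)
  · ext W c
    obtain ⟨j, a, h, rfl⟩ := fpEl_spChart_exists (W := W.unop) c
    change p.hom.app W ⟨overHom (cl (ov a) rfl)⟩ = q.hom.app W ⟨overHom (cl (ov j) rfl)⟩
    rw [overHom_mk, overHom_mk]
    exact h
  · obtain ⟨j, a, h, rfl⟩ := fpEl_spChart_exists c
    obtain ⟨j', a', h', rfl⟩ := fpEl_spChart_exists c'
    obtain rfl : a = a' := congrArg ULift.down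
      ((spSnd_fpEl q p j a _ _).symm.trans (e1.trans (spSnd_fpEl q p j' a' _ _)))
    obtain rfl : j = j' :=
      (overHom_mk j).symm.trans ((congrArg ULift.down e2).trans (overHom_mk j'))
    rfl
  · obtain ⟨a⟩ := b
    obtain ⟨j⟩ := d
    exact ⟨fpEl (y := spChart q) (f := spChart p) j (ov a) rfl
      (spIso e) rfl,
      spSnd_fpEl q p j a _ _, congrArg ULift.up (overHom_mk j)⟩

/-- A representable morphism from a scheme to a sheaf gives a representable chart. -/
theorem repByAlgSpWith_spChart {M : MorphismProperty Scheme.{u}} {P : MorphismProperty (Sp S)} [P.RespectsIso]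
    {p : (yon S).obj V ⟶ F} (hp : RepWith M p)
    (hP : ∀ {A B : Over S} (v : A ⟶ B), M v.left → P ((yon S).map v)) :
    AlgSt.RepByAlgSpWith P (spChart p) := by
  refine repByAlgSpWith_iff.2 ⟨⟨fun {_ _} a b e => Over.OverMorphism.ext (congrArg Stk.EltObj.Hom.hom e :)⟩,
    fun T y => ?_⟩
  obtain ⟨q, ⟨α⟩⟩ := exists_spChart y
  refine fibHas_congr α.symm ?_
  obtain ⟨W, w1, w2, hW⟩ : ∃ (W : Over S) (w1 : (yon S).obj W ⟶ (yon S).obj V) (w2 : W ⟶ T),
      IsPullback w1 ((yon S).map w2) p q := ⟨_, _, _, hp.1.isPullback q⟩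
  let i := (hW.map (sheafToPresheaf (J S) (Type (u + 1)))).isoIsPullback _ _ (isPullback_spChart q p)
  obtain ⟨hs, hA⟩ := ((isAlgSpaceP_obj_iff _).2 (IsAlgSpace.yon_obj W)).of_iso i
  obtain ⟨j⟩ := arrowIso_of_hom (a := (yon S).map w2)
    (b := (ObjectProperty.homMk (fibπ (spChart q) (spChart p)) :
      (⟨fib (spChart q) (spChart p), hs⟩ : Sp S) ⟶ (yon S).obj T))
    i (IsPullback.isoIsPullback_hom_snd _ _ _ _).symm
  exact ⟨hs, hA, (P.arrow_mk_iso_iff j).1 (hP w2 (hp.2 _ _ _ hW))⟩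

theorem surjective_ofChart_spChart {p : (yon S).obj V ⟶ F} (hp : RepWith @Surjective p) :
    Function.Surjective (AlgSt.Points.ofChart (spChart p)) :=
  surjective_chart (repByAlgSpWith_spChart hp fun v hv => surjective_map_of_repWith (repWith_yon_map hv))

/-- An algebraic space has an etale chart by a scheme. -/
theorem exists_chart_ofSp (hF : IsAlgSpace F) : ∃ (V : Over S) (x : FibCat.overCat V ⥤ᵇ AlgSt.ofSp F),
    AlgSt.RepByAlgSpWith (LocP @Etale) x ∧ AlgSt.RepByAlgSpWith (LocP @Smooth) x ∧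
    AlgSt.RepByAlgSpWith IsSurjectiveMor x := by
  obtain ⟨V, p, hpe, hps⟩ := hF.atlas
  exact ⟨V, spChart p, repByAlgSpWith_spChart hpe fun v hv => locP_of_repWith (repWith_yon_map hv),
    repByAlgSpWith_spChart hpe fun v (hv : Etale v.left) => locP_of_repWith (repWith_yon_map (inferInstanceAs (Smooth v.left))),
    repByAlgSpWith_spChart hps fun v hv => surjective_map_of_repWith (repWith_yon_map hv)⟩

end Groth.Agent.ASt
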