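import Groth.Agent.ASt.QcMor
import Groth.Agent.ASt.SpChart
/-!
Properties read on a chart square, and openness of flat, locally finitely presented morphisms.
-/

set_option backward.isDefEq.respectTransparency false
set_option backward.isDefEq.respectTransparency.types false
set_option linter.unusedSectionVars false

universe u

open CategoryTheory CategoryTheory.Limits AlgebraicGeometry Opposite Topology

namespace Groth.Agent.ASt

open _root_.AlgSp Groth.Agent.ASp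

variable {S : Scheme.{u}} {𝒳 𝒴 𝒵 : AlgSt.Cat S} [h𝒳 : FibCat.IsFibGrpd 𝒳.p] [h𝒴 : FibCat.IsFibGrpd 𝒴.p]
  [h𝒵 : FibCat.IsFibGrpd 𝒵.p]

theorem smooth_to_flat {A : Over S} {x : FibCat.overCat A ⥤ᵇ 𝒳} (hx : AlgSt.RepByAlgSpWith (LocP @Smooth) x) :
    AlgSt.RepByAlgSpWith (LocP @Flat) x :=
  repByAlgSpWith_mono (fun _ _ _ _ _ h U V p q k hp hq e =>
    (haveI : Smooth k.left := h p q k hp hq e; inferInstance)) hx

theorem smooth_to_lfp {A : Over S} {x : FibCat.overCat A ⥤ᵇ 𝒳} (hx : AlgSt.RepByAlgSpWith (LocP @Smooth) x) :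
    AlgSt.RepByAlgSpWith (LocP @LocallyOfFinitePresentation) x :=
  repByAlgSpWith_mono (fun _ _ _ _ _ h U V p q k hp hq e =>
    (haveI : Smooth k.left := h p q k hp hq e; inferInstance)) hx

/-- A chart square makes the composite of the source chart with the morphism representable with the
property. -/
theorem exists_comp_of_locQ {M : MorphismProperty Scheme.{u}} [IsEtLocal M]
    (hM : CompLocal (LocP M : MorphismProperty (Sp S))) {f : 𝒳 ⥤ᵇ 𝒴}
    (hs : ∀ {A B : Scheme.{u}} (g : A ⟶ B), Smooth g → M g) (hf : AlgSt.LocQ (LocP M) f) :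
    ∃ (U : Over S) (x : FibCat.overCat U ⥤ᵇ 𝒳), AlgSt.RepByAlgSpWith (LocP @Smooth) x ∧
      AlgSt.RepByAlgSpWith IsSurjectiveMor x ∧ AlgSt.RepByAlgSpWith (LocP M) (BasedFunctor.comp x f) := by
  obtain ⟨U, V, x, y, h, α, hx, hxs, hy, hh⟩ := hf
  refine ⟨U, x, hx, hxs, repByAlgSpWith_congr α.symm (repByAlgSpWith_comp hM (repByAlgSpWith_overMap_locP ?_)
    (repByAlgSpWith_mono (fun _ _ _ _ _ h U V p q k hp hq e => hs k.left (h p q k hp hq e)) hy))⟩
  exact hh (𝟙 _) (𝟙 _) h (AlgSp.repWith_id _ U) (AlgSp.repWith_id _ V) (by simp)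

/-- Two smooth surjective charts are dominated by a third one. -/
theorem exists_common_chart {U₁ U₂ : Over S} {x₁ : FibCat.overCat U₁ ⥤ᵇ 𝒳} {x₂ : FibCat.overCat U₂ ⥤ᵇ 𝒳}
    (h₁ : AlgSt.RepByAlgSpWith (LocP @Smooth) x₁) (h₁s : AlgSt.RepByAlgSpWith IsSurjectiveMor x₁)
    (h₂ : AlgSt.RepByAlgSpWith (LocP @Smooth) x₂) (h₂s : AlgSt.RepByAlgSpWith IsSurjectiveMor x₂) :
    ∃ (W : Over S) (g₁ : FibCat.overCat W ⥤ᵇ FibCat.overCat U₁) (g₂ : FibCat.overCat W ⥤ᵇ FibCat.overCat U₂)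
      (_ : BasedFunctor.comp g₁ x₁ ≅ BasedFunctor.comp g₂ x₂),
      AlgSt.RepByAlgSpWith (LocP @Smooth) g₁ ∧ AlgSt.RepByAlgSpWith IsSurjectiveMor g₁ ∧
      AlgSt.RepByAlgSpWith (LocP @Smooth) g₂ ∧ AlgSt.RepByAlgSpWith IsSurjectiveMor g₂ := by
  obtain ⟨hs, hA, W, p, E, h, hpe, hps, hcomp, ⟨α⟩, -, hE⟩ := exists_chart_of_fib (repByAlgSp1_of_with h₂) x₁
  haveI : FibCat.IsFibGrpd (FibCat.fp x₁ x₂).p := isFibGrpd_fp
  have hEsm := hE (P := LocP @Smooth) hpe fun v hv => locP_of_repWith (repWith_yon_map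
    (haveI : Etale v.left := hv; inferInstance))
  have hEsu := hE (P := IsSurjectiveMor) hps fun v hv => surjective_map_of_repWith (repWith_yon_map hv)
  exact ⟨W, BasedFunctor.comp E (FibCat.fpFst x₁ x₂), BasedFunctor.comp E (FibCat.fpSnd x₁ x₂),
    wL E (FibCat.fpIso x₁ x₂),
    repByAlgSpWith_comp compLocal_smooth hEsm (repByAlgSpWith_fpFst x₁ h₂),
    repByAlgSpWith_comp compLocal_surjective hEsu (repByAlgSpWith_fpFst x₁ h₂s),
    repByAlgSpWith_comp compLocal_smooth hEsm (repByAlgSpWith_fpSnd x₂ h₁),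
    repByAlgSpWith_comp compLocal_surjective hEsu (repByAlgSpWith_fpSnd x₂ h₁s)⟩

/-- A flat, locally finitely presented morphism becomes flat and locally finitely presented on a chart. -/
theorem exists_fppf_chart {f : 𝒳 ⥤ᵇ 𝒴} (h₁ : AlgSt.LocQ (LocP @Flat) f)
    (h₂ : AlgSt.LocQ (LocP @LocallyOfFinitePresentation) f) :
    ∃ (W : Over S) (z : FibCat.overCat W ⥤ᵇ 𝒳), AlgSt.RepByAlgSpWith (LocP @Smooth) z ∧
      AlgSt.RepByAlgSpWith IsSurjectiveMor z ∧ AlgSt.RepByAlgSpWith (LocP @Flat) (BasedFunctor.comp z f) ∧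
      AlgSt.RepByAlgSpWith (LocP @LocallyOfFinitePresentation) (BasedFunctor.comp z f) := by
  obtain ⟨U₁, x₁, a₁, b₁, c₁⟩ := exists_comp_of_locQ compLocal_flat
    (fun g hg => haveI := hg; inferInstance) h₁
  obtain ⟨U₂, x₂, a₂, b₂, c₂⟩ := exists_comp_of_locQ compLocal_lfp
    (fun g hg => haveI := hg; inferInstance) h₂
  obtain ⟨W, g₁, g₂, β, d₁, e₁, d₂, e₂⟩ := exists_common_chart a₁ b₁ a₂ b₂
  refine ⟨W, BasedFunctor.comp g₁ x₁, repByAlgSpWith_comp compLocal_smooth d₁ a₁,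
    repByAlgSpWith_comp compLocal_surjective e₁ b₁, ?_, ?_⟩
  · exact (repByAlgSpWith_comp compLocal_flat (smooth_to_flat d₁) c₁ :
      AlgSt.RepByAlgSpWith (LocP @Flat) (BasedFunctor.comp g₁ (BasedFunctor.comp x₁ f)))
  · exact repByAlgSpWith_congr (wR β f).symm (repByAlgSpWith_comp compLocal_lfp (smooth_to_lfp d₂) c₂ :
      AlgSt.RepByAlgSpWith (LocP @LocallyOfFinitePresentation) (BasedFunctor.comp g₂ (BasedFunctor.comp x₂ f)))

theorem isOpenMor_of_fppf (hX : AlgSt.IsAlgStack Scheme.fppfPrecoverage 𝒳) {f : 𝒳 ⥤ᵇ 𝒴}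
    (h₁ : AlgSt.LocQ (LocP @Flat) f) (h₂ : AlgSt.LocQ (LocP @LocallyOfFinitePresentation) f) :
    AlgSt.IsOpenMor f := by
  obtain ⟨W, z, -, hzs, hfl, hfp⟩ := exists_fppf_chart h₁ h₂
  intro O hO
  have : AlgSt.Points.map f '' O =
      AlgSt.Points.ofChart (BasedFunctor.comp z f) '' (AlgSt.Points.ofChart z ⁻¹' O) := by
    ext w
    constructor
    · rintro ⟨v, hv, rfl⟩
      obtain ⟨t, rfl⟩ := surjective_chart hzs v
      exact ⟨t, hv, ofChart_comp z f t⟩
    · rintro ⟨t, ht, rfl⟩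
      exact ⟨_, ht, (ofChart_comp z f t).symm⟩
  rw [this]
  exact isOpenMap_ofChart hfl hfp _ (hO.preimage (continuous_ofChart_stack hX z))

noncomputable def overMapComp {A B C : Over S} (j : A ⟶ B) (k : B ⟶ C) :
    BasedFunctor.comp (AlgSt.overMap j) (AlgSt.overMap k) ≅ AlgSt.overMap (j ≫ k) :=
  funIso (ovHom (𝟙 A) (by simp) : ov ((𝟙 A ≫ j) ≫ k) ⟶ ov (𝟙 A ≫ j ≫ k)) rfl

theorem surjective_overMap {A B : Over S} (k : A ⟶ B) [Surjective k.left] : AlgSt.IsSurjective (AlgSt.overMap k) :=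
  isSurjective_of_repByAlgSpWith (repByAlgSpWith_overMap fun _ _ _ sq =>
    surjective_map_of_repWith (repWith_yon_map
      (MorphismProperty.of_isPullback (P := @Surjective) (sq.map (Over.forget S)) (inferInstanceAs (Surjective k.left)))))

/-- Quasi-compactness descends along a morphism dominated by an fppf chart of the target. -/
theorem isQuasiCompactMor_of_fppf (hX : AlgSt.IsAlgStack Scheme.fppfPrecoverage 𝒳)
    (hY : AlgSt.IsAlgStack Scheme.fppfPrecoverage 𝒴) (hZ : AlgSt.IsAlgStack Scheme.fppfPrecoverage 𝒵)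
    {f : 𝒳 ⥤ᵇ 𝒴} {z : 𝒵 ⥤ᵇ 𝒴} {W : Over S} (c : FibCat.overCat W ⥤ᵇ 𝒵)
    (hfl : AlgSt.RepByAlgSpWith (LocP @Flat) (BasedFunctor.comp c z))
    (hfp : AlgSt.RepByAlgSpWith (LocP @LocallyOfFinitePresentation) (BasedFunctor.comp c z))
    (hsu : AlgSt.IsSurjective (BasedFunctor.comp c z))
    (h : AlgSt.IsQuasiCompactMor Scheme.fppfPrecoverage (FibCat.fpFst z f)) :
    AlgSt.IsQuasiCompactMor Scheme.fppfPrecoverage f := by
  intro 𝒯 hT hTc g
  haveI := hT.isStack.1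
  haveI : FibCat.IsFibGrpd (FibCat.fp g f).p := isFibGrpd_fp
  haveI : FibCat.IsFibGrpd (FibCat.fp z f).p := isFibGrpd_fp
  have hsuW := repByAlgSpWith_surjective_of_isSurjective (repByAlgSp1_of_with hfl) hsu
  obtain ⟨A, a, hA, -, has⟩ := hTc
  obtain ⟨hs, hFA, T, p, E, k, hpe, hps, hcomp, ⟨α⟩, -, -⟩ :=
    exists_chart_of_fib (repByAlgSp1_of_with hfl) (BasedFunctor.comp a g)
  obtain ⟨_, _, q1⟩ := (repByAlgSpWith_iff.1 hfl).2 A (BasedFunctor.comp a g)
  obtain ⟨_, _, q2⟩ := (repByAlgSpWith_iff.1 hfp).2 A (BasedFunctor.comp a g)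
  obtain ⟨_, _, q3⟩ := (repByAlgSpWith_iff.1 hsuW).2 A (BasedFunctor.comp a g)
  haveI : Flat k.left := prop_chart hpe hcomp q1
  haveI : LocallyOfFinitePresentation k.left := prop_chart hpe hcomp q2
  haveI : Surjective k.left := surjective_left_of_map (by
    rw [← hcomp, show AlgSp.Points.map (p ≫ _) = AlgSp.Points.map _ ∘ AlgSp.Points.map p from
      funext (AlgSp.Points.map_comp p _)]
    exact q3.comp (surjective_map_of_repWith hps))
  haveI : CompactSpace ↥A.left := inferInstance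
  obtain ⟨O, hO, hOc⟩ : ∃ O : T.left.Opens, Surjective (O.ι ≫ k.left) ∧ IsCompact (O : Set ↥T.left) := by
    obtain ⟨t, ht⟩ := isCompact_univ.elim_finite_subcover
      (fun V : T.left.affineOpens => k.left '' (V.1 : Set ↥T.left))
      (fun V => k.left.isOpenMap _ V.1.2) (fun a _ => by
        obtain ⟨b, rfl⟩ := k.left.surjective a
        obtain ⟨V, hV, hb, -⟩ := exists_isAffineOpen_mem_and_subset (x := b) (U := ⊤) trivial
        exact Set.mem_iUnion.2 ⟨⟨V, hV⟩, b, hb, rfl⟩)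
    refine ⟨⨆ V ∈ t, V.1, ⟨fun a => ?_⟩, ?_⟩
    · obtain ⟨V, hV, b, hb, rfl⟩ : ∃ V ∈ t, a ∈ k.left '' (V.1 : Set ↥T.left) := by
        simpa using ht (Set.mem_univ a)
      have hb' : b ∈ (⨆ V ∈ t, V.1 : T.left.Opens) :=
        (le_iSup₂ (f := fun (V : T.left.affineOpens) (_ : V ∈ t) => V.1) V hV) hb
      exact ⟨⟨b, hb'⟩, rfl⟩
    · simp only [TopologicalSpace.Opens.coe_iSup]
      exact t.finite_toSet.isCompact_biUnion fun V _ => V.2.isCompact
  let V : Over S := Over.mk (O.ι ≫ T.hom)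
  let j : V ⟶ T := Over.homMk O.ι rfl
  haveI : Surjective (j ≫ k).left := hO
  haveI : CompactSpace ↥V.left := isCompact_iff_compactSpace.1 hOc
  haveI : CompactSpace (AlgSt.Points (FibCat.overCat V)) := (schemePts V).compactSpace
  have hVc : AlgSt.IsQuasiCompact (FibCat.overCat V) := isQuasiCompact_of_compactSpace (isAlgStack_overCat V)
  let g' : FibCat.overCat V ⥤ᵇ 𝒵 := BasedFunctor.comp (AlgSt.overMap j)
    (BasedFunctor.comp (BasedFunctor.comp E (FibCat.fpSnd (BasedFunctor.comp a g) (BasedFunctor.comp c z))) c)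
  let β : BasedFunctor.comp g' z ≅ BasedFunctor.comp (AlgSt.overMap j)
      (BasedFunctor.comp (AlgSt.overMap k) (BasedFunctor.comp a g)) :=
    wL (AlgSt.overMap j) ((wL E (FibCat.fpIso (BasedFunctor.comp a g) (BasedFunctor.comp c z))).symm.trans
      (wR α (BasedFunctor.comp a g)))
  haveI : FibCat.IsFibGrpd (FibCat.fp g' (FibCat.fpFst z f)).p := isFibGrpd_fp
  haveI : FibCat.IsFibGrpd (FibCat.fp (BasedFunctor.comp g' z) f).p := isFibGrpd_fp
  haveI : FibCat.IsFibGrpd (FibCat.fp (BasedFunctor.comp a g) f).p := isFibGrpd_fp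
  have hpY := isPrestack_of_isStack hY.isStack
  have hP := Groth.Agent.ASt.isAlgStack_fp hpY hY.diag hZ hX z f
  haveI := compactSpace_of_isQuasiCompact
    (Groth.Agent.ASt.isAlgStack_fp (isPrestack_of_isStack hZ.isStack) hZ.diag (isAlgStack_overCat V) hP g' _)
    (h _ (isAlgStack_overCat V) hVc g')
  let H : FibCat.fp g' (FibCat.fpFst z f) ⥤ᵇ FibCat.fp (BasedFunctor.comp g' z) f :=
    FibCat.fpLift (FibCat.fpFst g' (FibCat.fpFst z f))
      (BasedFunctor.comp (FibCat.fpSnd g' (FibCat.fpFst z f)) (FibCat.fpSnd z f))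
      ((wR (FibCat.fpIso g' (FibCat.fpFst z f)) z).trans
        (wL (FibCat.fpSnd g' (FibCat.fpFst z f)) (FibCat.fpIso z f)))
  let N : FibCat.fp (BasedFunctor.comp g' z) f ⥤ᵇ FibCat.fp g' (FibCat.fpFst z f) :=
    FibCat.fpLift (FibCat.fpFst (BasedFunctor.comp g' z) f) (pushL g' z f) (Iso.refl _)
  have hH : Function.Surjective (AlgSt.Points.map H) := surjective_map_of_vert fun w => by
    refine ⟨N.obj w, rfl, ⟨fpHomMk (𝟙 w.obj.fst) (𝟙 w.obj.snd) ?_⟩⟩
    change z.map (g'.map (𝟙 w.obj.fst)) ≫ w.obj.iso.hom = (z.map (𝟙 _) ≫ w.obj.iso.hom) ≫ f.map (𝟙 w.obj.snd)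
    simp
  haveI := compactSpace_of_isQuasiCompact
    (Groth.Agent.ASt.isAlgStack_fp hpY hY.diag (isAlgStack_overCat V) hX (BasedFunctor.comp g' z) f)
    (isQuasiCompact_of_surjective
      (Groth.Agent.ASt.isAlgStack_fp hpY hY.diag (isAlgStack_overCat V) hX (BasedFunctor.comp g' z) f) hH)
  haveI : FibCat.IsFibGrpd (FibCat.fp (BasedFunctor.comp (AlgSt.overMap (j ≫ k)) (BasedFunctor.comp a g)) f).p :=
    isFibGrpd_fp
  have hc1 := isQuasiCompact_of_surjective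
    (Groth.Agent.ASt.isAlgStack_fp hpY hY.diag (isAlgStack_overCat V) hX
      (BasedFunctor.comp (AlgSt.overMap (j ≫ k)) (BasedFunctor.comp a g)) f)
    (surjective_changeL (β.trans (wR (overMapComp j k) (BasedFunctor.comp a g))) f)
  haveI := compactSpace_of_isQuasiCompact (Groth.Agent.ASt.isAlgStack_fp hpY hY.diag (isAlgStack_overCat V) hX
      (BasedFunctor.comp (AlgSt.overMap (j ≫ k)) (BasedFunctor.comp a g)) f) hc1
  haveI := compactSpace_of_isQuasiCompact (Groth.Agent.ASt.isAlgStack_fp hpY hY.diag (isAlgStack_overCat A) hX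
      (BasedFunctor.comp a g) f)
    (isQuasiCompact_of_surjective (Groth.Agent.ASt.isAlgStack_fp hpY hY.diag (isAlgStack_overCat A) hX
      (BasedFunctor.comp a g) f) (surjective_pushL (AlgSt.overMap (j ≫ k)) (BasedFunctor.comp a g) f (surjective_overMap (j ≫ k))))
  exact isQuasiCompact_of_surjective (Groth.Agent.ASt.isAlgStack_fp hpY hY.diag hT hX g f)
    (surjective_pushL a g f (isSurjective_of_repByAlgSpWith has))

end Groth.Agent.ASt
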