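import Groth.Agent.ASt.DiagDesc
import Groth.Agent.ASt.LocQOpen
import Groth.Agent.ASt.DiagLft
/-!
The diagonal over the base through a flat surjective chart.
-/

set_option backward.isDefEq.respectTransparency false
set_option backward.isDefEq.respectTransparency.types false
set_option linter.unusedSectionVars false

universe u

open CategoryTheory CategoryTheory.Limits AlgebraicGeometry Opposite

namespace Groth.Agent.ASt

open _root_.AlgSp Groth.Agent.ASp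

variable {S : Scheme.{u}} {𝒳 : AlgSt.Cat S} [h𝒳 : FibCat.IsFibGrpd 𝒳.p]

/-- The diagonal has a property as soon as it has it over the square of an fppf chart. -/
theorem repByAlgSpWith_diag_toSelf_of_chart {P : MorphismProperty (Sp S)} [P.RespectsIso]
    (hP₂ : IsLocalOnBase IsFppfCover P) {W : Over S} {a : FibCat.overCat W ⥤ᵇ 𝒳}
    (hΔ : AlgSt.RepByAlgSp1 (FibCat.diag (FibCat.toSelf 𝒳)))
    (hfl : AlgSt.RepByAlgSpWith (LocP @Flat) a)
    (hfp : AlgSt.RepByAlgSpWith (LocP @LocallyOfFinitePresentation) a) (hsu : AlgSt.IsSurjective a)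
    (hJ : AlgSt.RepByAlgSpWith P (compJ a (FibCat.toSelf 𝒳))) :
    AlgSt.RepByAlgSpWith P (FibCat.diag (FibCat.toSelf 𝒳)) := by
  haveI : FibCat.IsFibGrpd (FibCat.fp (FibCat.toSelf 𝒳) (FibCat.toSelf 𝒳)).p := isFibGrpd_fp
  haveI : FibCat.IsFibGrpd (FibCat.fp (BasedFunctor.comp a (FibCat.toSelf 𝒳))
    (BasedFunctor.comp a (FibCat.toSelf 𝒳))).p := isFibGrpd_fp
  haveI : (FibCat.diag (FibCat.toSelf 𝒳)).toFunctor.Faithful := faithful_diag _
  refine repByAlgSpWith_iff.2 ⟨inferInstance, fun U w => ?_⟩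
  let x := BasedFunctor.comp w (FibCat.fpFst (FibCat.toSelf 𝒳) (FibCat.toSelf 𝒳))
  let y := BasedFunctor.comp w (FibCat.fpSnd (FibCat.toSelf 𝒳) (FibCat.toSelf 𝒳))
  have hcomp : BasedFunctor.comp (BasedFunctor.id (FibCat.overCat W)) a = a := rfl
  obtain ⟨T₁, l₁, g₁, hl₁, hp₁, hs₁, ⟨β₁⟩⟩ :=
    exists_fppf_lift (BasedFunctor.id (FibCat.overCat W)) (z := a) (hcomp.symm ▸ hfl) (hcomp.symm ▸ hfp) (hcomp.symm ▸ hsu) x
  obtain ⟨T, l₂, g₂, hl₂, hp₂, hs₂, ⟨β₂⟩⟩ :=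
    exists_fppf_lift (BasedFunctor.id (FibCat.overCat W)) (z := a) (hcomp.symm ▸ hfl) (hcomp.symm ▸ hfp) (hcomp.symm ▸ hsu)
      (BasedFunctor.comp (AlgSt.overMap l₁) y)
  haveI : Flat (l₂ ≫ l₁).left := by rw [Over.comp_left]; infer_instance
  haveI : LocallyOfFinitePresentation (l₂ ≫ l₁).left := by rw [Over.comp_left]; infer_instance
  haveI : Surjective (l₂ ≫ l₁).left := by rw [Over.comp_left]; infer_instance
  refine fibHas_of_cover hP₂ hΔ (l₂ ≫ l₁) w ?_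
  let g₁' := BasedFunctor.comp (AlgSt.overMap l₂) g₁
  let w' : FibCat.overCat T ⥤ᵇ FibCat.fp (BasedFunctor.comp a (FibCat.toSelf 𝒳))
      (BasedFunctor.comp a (FibCat.toSelf 𝒳)) :=
    FibCat.fpLift g₁' g₂ (eqToIso ((comp_toSelf (BasedFunctor.comp g₁' a)).trans
      (comp_toSelf (BasedFunctor.comp g₂ a)).symm))
  let L : FibCat.overCat T ⥤ᵇ FibCat.fp (FibCat.toSelf 𝒳) (FibCat.toSelf 𝒳) :=
    BasedFunctor.comp (AlgSt.overMap (l₂ ≫ l₁)) w
  refine fibHas_congr ?_ ((fibHas_iff_of_bijective (compJF a (FibCat.toSelf 𝒳) w') (fpHom_compJF _ _ _)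
    (bijective_compJF _ _ _)).1 ((repByAlgSpWith_iff.1 hJ).2 T w'))
  let α₁ : BasedFunctor.comp g₁' a ≅ BasedFunctor.comp (AlgSt.overMap (l₂ ≫ l₁)) x :=
    (wL (AlgSt.overMap l₂) β₁).trans (wR (overMapComp l₂ l₁) x)
  let α₂ : BasedFunctor.comp g₂ a ≅ BasedFunctor.comp (AlgSt.overMap (l₂ ≫ l₁)) y :=
    β₂.trans (wR (overMapComp l₂ l₁) y)
  refine fpIsoMk (A := BasedFunctor.comp w' (compN a (FibCat.toSelf 𝒳))) (B := L) α₁ α₂ fun t => ?_
  change 𝒳.p.map (α₁.hom.toNatTrans.app t) ≫ (L.obj t).obj.iso.hom =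
    ((BasedFunctor.comp w' (compN a (FibCat.toSelf 𝒳))).obj t).obj.iso.hom ≫ 𝒳.p.map (α₂.hom.toNatTrans.app t)
  have h1 := fp_iso_map (L.obj t)
  have h2 := fp_iso_map ((BasedFunctor.comp w' (compN a (FibCat.toSelf 𝒳))).obj t)
  change (L.obj t).obj.iso.hom = _ at h1
  change ((BasedFunctor.comp w' (compN a (FibCat.toSelf 𝒳))).obj t).obj.iso.hom = _ at h2
  rw [h1, h2, map_app _ _ α₁.hom t, map_app _ _ α₂.hom t]
  exact (eqToHom_trans _ _).trans (eqToHom_trans _ _).symm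

/-- A flat surjective chart with a cancellable property gives it to the diagonal over the base. -/
theorem repByAlgSpWith_diag_toSelf_of_fppf_chart {Q : MorphismProperty Scheme.{u}} [IsEtLocal Q]
    (hQ : ∀ {X Y Z : Scheme.{u}} (f : X ⟶ Y) (g : Y ⟶ Z), Q (f ≫ g) → Q f)
    (hP₂ : IsLocalOnBase IsFppfCover (LocP Q : MorphismProperty (Sp S))) {W : Over S} {a : FibCat.overCat W ⥤ᵇ 𝒳}
    (hΔ : AlgSt.RepByAlgSp1 (FibCat.diag (FibCat.toSelf 𝒳)))
    (hfl : AlgSt.RepByAlgSpWith (LocP @Flat) a)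
    (hfp : AlgSt.RepByAlgSpWith (LocP @LocallyOfFinitePresentation) a) (hsu : AlgSt.IsSurjective a)
    (ha : AlgSt.RepByAlgSpWith (LocP Q) a) :
    AlgSt.RepByAlgSpWith (LocP Q) (FibCat.diag (FibCat.toSelf 𝒳)) := by
  haveI : FibCat.IsFibGrpd (FibCat.fp (FibCat.toSelf 𝒳) (FibCat.toSelf 𝒳)).p := isFibGrpd_fp
  haveI : FibCat.IsFibGrpd (FibCat.fp (BasedFunctor.comp a (FibCat.toSelf 𝒳))
    (BasedFunctor.comp a (FibCat.toSelf 𝒳))).p := isFibGrpd_fp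
  haveI : FibCat.IsFibGrpd (FibCat.fp a a).p := isFibGrpd_fp
  exact repByAlgSpWith_diag_toSelf_of_chart hP₂ hΔ hfl hfp hsu (repByAlgSpWith_cancel_of_comp
    (fun _ _ _ _ hX₁ hY₁ _ hY₂ _ _ _ _ sq h => locP_of_isPullback sq.flip hX₁ hY₁ hY₂ h)
    (fun _ _ _ _ _ hZ a b h => locP_of_comp (Q := ⊤)
      (fun f g h _ => hQ f g h) hZ h fun _ _ _ _ _ _ _ _ => trivial)
    (repByAlgSp1_of_with (repByAlgSpWith_compJ a _ (repByAlgSp1_iff_top.1 hΔ)))
    (g := FibCat.fpFst (BasedFunctor.comp a (FibCat.toSelf 𝒳)) (BasedFunctor.comp a (FibCat.toSelf 𝒳)))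
    (repByAlgSp1_fpFst _ (repByAlgSp1_comp_toSelf a))
    (repByAlgSpWith_fpFst a ha))

end Groth.Agent.ASt
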