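import Groth.Agent.ASt.Diag
import Groth.Agent.ASp.Quot
import Groth.Agent.ASp.Morph
import Groth.Agent.ASp.Sheaf
/-!
The diagonal of a morphism representable by algebraic spaces.
-/

set_option backward.isDefEq.respectTransparency false
set_option backward.isDefEq.respectTransparency.types false
set_option linter.unusedSectionVars false

universe u

open CategoryTheory CategoryTheory.Limits AlgebraicGeometry Opposite

namespace Groth.Agent.ASt

open _root_.AlgSp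

variable {S : Scheme.{u}} {𝒴 𝒵 : AlgSt.Cat S} [h𝒴 : FibCat.IsFibGrpd 𝒴.p] [h𝒵 : FibCat.IsFibGrpd 𝒵.p]
  {g : 𝒴 ⥤ᵇ 𝒵} {U : Over S} (w : FibCat.overCat U ⥤ᵇ FibCat.fp g g)

theorem wbase {T : Over S} (k : T ⟶ U) : 𝒴.p.obj (w.obj (ov k)).obj.fst = T :=
  (w.w_obj (ov k)).trans (ov_base k)

theorem wbase' {T : Over S} (k : T ⟶ U) : 𝒴.p.obj (w.obj (ov k)).obj.snd = T :=
  (fp_snd_base _).trans (wbase w k)

/-- The test morphism `a ≫ g`. -/
noncomputable abbrev testA : FibCat.overCat U ⥤ᵇ 𝒵 :=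
  BasedFunctor.comp (BasedFunctor.comp w (FibCat.fpFst g g)) g

theorem testA_map_id {T : Over S} (k : T ⟶ U) :
    𝒵.p.map (𝟙 (g.obj (w.obj (ov k)).obj.fst)) = eqToHom ((((testA w).w_obj (ov k)).trans (ov_base k)).trans
      ((wbase w k).symm.trans (g.w_obj (w.obj (ov k)).obj.fst).symm)) :=
  𝒵.p.map_id _

theorem testA_map_iso {T : Over S} (k : T ⟶ U) :
    𝒵.p.map (w.obj (ov k)).obj.iso.hom = eqToHom ((((testA w).w_obj (ov k)).trans (ov_base k)).trans
      ((wbase' w k).symm.trans (g.w_obj (w.obj (ov k)).obj.snd).symm)) :=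
  fp_iso_map _

/-- The class given by the first component. -/
noncomputable def secA {T : Over S} (k : T ⟶ U) : ClType (FibCat.fp (testA w) g) T :=
  fpEl k (w.obj (ov k)).obj.fst (wbase w k) (𝟙 _) (testA_map_id w k)

/-- The class given by the second component. -/
noncomputable def secB {T : Over S} (k : T ⟶ U) : ClType (FibCat.fp (testA w) g) T :=
  fpEl k (w.obj (ov k)).obj.snd (wbase' w k) (w.obj (ov k)).obj.iso.hom (testA_map_iso w k)

theorem clMap_secA {T : Over S} (k : T ⟶ U) : clMap k (secA w (𝟙 U)) = secA w k :=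
  clMap_fpEl k (Category.comp_id k) ((w.map (ovHom k (Category.comp_id k))).hom.fst)
    ((Category.comp_id _).trans (Category.id_comp _).symm)

theorem clMap_secB {T : Over S} (k : T ⟶ U) : clMap k (secB w (𝟙 U)) = secB w k :=
  clMap_fpEl k (Category.comp_id k) ((w.map (ovHom k (Category.comp_id k))).hom.snd)
    (w.map (ovHom k (Category.comp_id k))).hom.w

theorem secA_eq_secB_iff {T : Over S} (k : T ⟶ U) : secA w k = secB w k ↔
    ∃ v : (w.obj (ov k)).obj.fst ⟶ (w.obj (ov k)).obj.snd,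
      𝒴.p.map v = eqToHom ((wbase w k).trans (wbase' w k).symm) ∧ g.map v = (w.obj (ov k)).obj.iso.hom :=
  fpEl_eq_iff.trans ⟨fun ⟨v, h1, h2⟩ => ⟨v, h1, (Category.id_comp _).symm.trans h2⟩,
    fun ⟨v, h1, h2⟩ => ⟨v, h1, (Category.id_comp _).trans h2⟩⟩

theorem exists_class_iff {T : Over S} (k : T ⟶ U) :
    (∃ c : ClType (FibCat.fp w (FibCat.diag g)) T, fpHom c = k) ↔ secA w k = secB w k := by
  rw [secA_eq_secB_iff]
  constructor
  · rintro ⟨c, rfl⟩
    obtain ⟨k, y, hy, φ, hφ, rfl⟩ := fpEl_exists c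
    rw [fpHom_fpEl]
    have hi := isIso_fp_snd φ hφ
    have hf1 : 𝒴.p.map φ.hom.fst = eqToHom _ := hφ
    have e2 := fp_map_snd φ
    refine ⟨φ.hom.fst ≫ inv φ.hom.snd, ?_, ?_⟩
    · rw [Functor.map_comp, Functor.map_inv]
      simp [e2, hf1]
    · have w1 : g.map φ.hom.fst = (w.obj (ov k)).obj.iso.hom ≫ g.map φ.hom.snd :=
        (Category.comp_id _).symm.trans φ.hom.w
      rw [g.map_comp, w1, Category.assoc, ← g.map_comp, IsIso.hom_inv_id, g.map_id]
      exact Category.comp_id _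
  · rintro ⟨v, hv, he⟩
    let φ : w.obj (ov k) ⟶ (FibCat.diag g).obj (w.obj (ov k)).obj.snd :=
      fpHomMk v (𝟙 _) ((Category.comp_id _).trans (he.trans
        ((Category.comp_id _).symm.trans (congrArg (fun r => (w.obj (ov k)).obj.iso.hom ≫ r) (g.map_id _).symm))))
    exact ⟨fpEl k (w.obj (ov k)).obj.snd (wbase' w k) φ hv, fpHom_fpEl _ _ _ _ _⟩

theorem fpHom_injective [g.toFunctor.Faithful] {T : Over S} :
    Function.Injective (fpHom : ClType (FibCat.fp w (FibCat.diag g)) T → (T ⟶ U)) := by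
  intro c c' e
  obtain ⟨k, y, hy, φ, hφ, rfl⟩ := fpEl_exists c
  obtain ⟨k', y', hy', φ', hφ', rfl⟩ := fpEl_exists c'
  obtain rfl : k = k' := (fpHom_fpEl _ _ _ _ _).symm.trans (e.trans (fpHom_fpEl _ _ _ _ _))
  have hi := isIso_fp_snd φ hφ
  have hi' := isIso_fp_snd φ' hφ'
  have key : ∀ {y : 𝒴.obj} (φ : w.obj (ov k) ⟶ (FibCat.diag g).obj y) [IsIso φ.hom.snd],
      g.map (φ.hom.fst ≫ inv φ.hom.snd) = (w.obj (ov k)).obj.iso.hom := fun φ _ => by
    have w1 : g.map φ.hom.fst = (w.obj (ov k)).obj.iso.hom ≫ g.map φ.hom.snd :=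
      (Category.comp_id _).symm.trans φ.hom.w
    rw [g.map_comp, w1, Category.assoc, ← g.map_comp, IsIso.hom_inv_id, g.map_id]
    exact Category.comp_id _
  have hv : φ.hom.fst ≫ inv φ.hom.snd = φ'.hom.fst ≫ inv φ'.hom.snd :=
    g.toFunctor.map_injective ((key φ).trans (key φ').symm)
  refine fpEl_eq_iff.2 ⟨inv φ.hom.snd ≫ φ'.hom.snd, ?_, fp_hom_ext ?_ ?_⟩
  · have e1 := fp_map_snd φ
    have e2 := fp_map_snd φ'
    have hf1 : 𝒴.p.map φ.hom.fst = eqToHom _ := hφ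
    have hf2 : 𝒴.p.map φ'.hom.fst = eqToHom _ := hφ'
    rw [Functor.map_comp, Functor.map_inv]
    simp [e1, e2, hf1, hf2]
  · change φ.hom.fst ≫ inv φ.hom.snd ≫ φ'.hom.snd = φ'.hom.fst
    rw [← Category.assoc, hv, Category.assoc, IsIso.inv_hom_id, Category.comp_id]
  · exact IsIso.hom_inv_id_assoc φ.hom.snd φ'.hom.snd

theorem isPullback_diag_of_isLimit_fork {C : Type*} [Category C] {P U E : C} [HasBinaryProduct P P]
    {s₁ s₂ : U ⟶ P} {e : E ⟶ U} (he : e ≫ s₁ = e ≫ s₂) (hl : IsLimit (Fork.ofι e he)) :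
    IsPullback (e ≫ s₁) e (Limits.diag P) (prod.lift s₁ s₂) := by
  have hm : Mono e := mono_of_isLimit_fork hl
  refine IsPullback.of_isLimit' ⟨?_⟩ (PullbackCone.IsLimit.mk _
    (fun c => Fork.IsLimit.lift hl c.snd ?_) (fun c => ?_) (fun c => ?_) (fun c m _ h2 => ?_))
  · apply prod.hom_ext
    · simp
    · simp [he]
  · have h1 := congrArg (· ≫ prod.fst) c.condition
    have h2 := congrArg (· ≫ prod.snd) c.condition
    simp only [Category.assoc, prod.lift_fst, prod.lift_snd, Category.comp_id] at h1 h2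
    exact h1.symm.trans h2
  · have h1 := congrArg (· ≫ prod.fst) c.condition
    simp only [Category.assoc, prod.lift_fst, Category.comp_id] at h1
    change Fork.IsLimit.lift hl c.snd _ ≫ e ≫ s₁ = c.fst
    rw [← Category.assoc]
    exact (congrArg (fun r => r ≫ s₁) (Fork.IsLimit.lift_ι' hl _ _)).trans h1.symm
  · exact Fork.IsLimit.lift_ι' hl _ _
  · rw [← cancel_mono e, h2]
    exact (Fork.IsLimit.lift_ι' hl _ _).symm

theorem isPullback_diagonal_of_isLimit_fork {C : Type*} [Category C] {P U E : C} {π : P ⟶ U}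
    [HasPullback π π] {s₁ s₂ : U ⟶ P} (h₁ : s₁ ≫ π = 𝟙 U) (h₂ : s₂ ≫ π = 𝟙 U) {e : E ⟶ U}
    (he : e ≫ s₁ = e ≫ s₂) (hl : IsLimit (Fork.ofι e he)) :
    IsPullback (e ≫ s₁) e (pullback.diagonal π) (pullback.lift s₁ s₂ (h₁.trans h₂.symm)) := by
  have hm : Mono e := mono_of_isLimit_fork hl
  refine IsPullback.of_isLimit' ⟨?_⟩ (PullbackCone.IsLimit.mk _
    (fun c => Fork.IsLimit.lift hl c.snd ?_) (fun c => ?_) (fun c => ?_) (fun c m _ h2' => ?_))
  · apply pullback.hom_ext <;> simp [he]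
  · have e1 := congrArg (· ≫ pullback.fst π π) c.condition
    have e2 := congrArg (· ≫ pullback.snd π π) c.condition
    simp only [Category.assoc, pullback.diagonal_fst, pullback.diagonal_snd, pullback.lift_fst, pullback.lift_snd,
      Category.comp_id] at e1 e2
    exact e1.symm.trans e2
  · have e1 := congrArg (· ≫ pullback.fst π π) c.condition
    simp only [Category.assoc, pullback.diagonal_fst, pullback.lift_fst, Category.comp_id] at e1
    change Fork.IsLimit.lift hl c.snd _ ≫ e ≫ s₁ = c.fst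
    rw [← Category.assoc]
    exact (congrArg (fun r => r ≫ s₁) (Fork.IsLimit.lift_ι' hl _ _)).trans e1.symm
  · exact Fork.IsLimit.lift_ι' hl _ _
  · rw [← cancel_mono e, h2']
    exact (Fork.IsLimit.lift_ι' hl _ _).symm

/-- The diagonal of a morphism representable by spaces has fibres monomorphisms locally of finite type
from schemes. -/
theorem exists_scheme_fib_diag (hg : AlgSt.RepByAlgSp1 g) :
    ∃ (E : Over S) (e : E ⟶ U) (c : ClType (FibCat.fp w (FibCat.diag g)) E),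
      Mono e ∧ LocallyOfFiniteType e.left ∧ fpHom c = e ∧
      (∀ T, Function.Bijective fun k : T ⟶ E => clMap k c) ∧
      ∀ (hs : Presheaf.IsSheaf (J S) (fib (testA w) g)) {Q : MorphismProperty Scheme.{u}},
        RepWith Q (pullback.diagonal
          (ObjectProperty.homMk (fibπ (testA w) g) : (⟨fib (testA w) g, hs⟩ : Sp S) ⟶ (yon S).obj U)) → Q e.left := by
  have := faithful_of_repByAlgSp1 hg
  obtain ⟨hs, hA⟩ := (repByAlgSp1_iff.1 hg).2 U (testA w)
  let P : Sp S := ⟨fib (testA w) g, hs⟩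
  let s₁ : (yon S).obj U ⟶ P := ObjectProperty.homMk (uliftYonedaEquiv.{u + 1}.symm (secA w (𝟙 U)))
  let s₂ : (yon S).obj U ⟶ P := ObjectProperty.homMk (uliftYonedaEquiv.{u + 1}.symm (secB w (𝟙 U)))
  obtain ⟨E, e, he, ⟨hl⟩⟩ := Groth.Agent.ASp.exists_isLimit_fork hA s₁ s₂
  have hm : Mono ((yon S).map e) := mono_of_isLimit_fork hl
  have hme : Mono e := (yon S).mono_of_mono_map hm
  have hlft : LocallyOfFiniteType e.left :=
    (Groth.Agent.ASp.repWith_diag_locallyOfFiniteType hA).2 _ _ _ (isPullback_diag_of_isLimit_fork he hl)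
  have he' : secA w e = secB w e := by
    have h : clMap (𝟙 E ≫ e) (secA w (𝟙 U)) = clMap (𝟙 E ≫ e) (secB w (𝟙 U)) :=
      congrArg (fun φ : (yon S).obj E ⟶ P => φ.hom.app (op E) ⟨𝟙 E⟩) he
    rwa [clMap_secA, clMap_secB, Category.id_comp] at h
  obtain ⟨c, hc⟩ := (exists_class_iff w e).2 he'
  refine ⟨E, e, c, hme, hlft, hc, fun T => ⟨fun k k' h => ?_, fun d => ?_⟩, fun hs Q hQ => ?_⟩
  · exact (cancel_mono e).1 (by simpa [fpHom_clMap, hc] using congrArg fpHom h)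
  · have hd := (exists_class_iff w (fpHom d)).1 ⟨d, rfl⟩
    have hfac : (yon S).map (fpHom d) ≫ s₁ = (yon S).map (fpHom d) ≫ s₂ := by
      apply ObjectProperty.hom_ext
      refine uliftYonedaEquiv.{u + 1}.injective ?_
      change clMap (𝟙 T ≫ fpHom d) (secA w (𝟙 U)) = clMap (𝟙 T ≫ fpHom d) (secB w (𝟙 U))
      rw [clMap_secA, clMap_secB, Category.id_comp, hd]
    obtain ⟨k, hk⟩ := (yon S).map_surjective (Fork.IsLimit.lift hl _ hfac)
    refine ⟨k, fpHom_injective w ?_⟩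
    change fpHom (clMap k c) = fpHom d
    rw [fpHom_clMap, hc]
    exact (yon S).map_injective (((yon S).map_comp k e).trans
      ((congrArg (· ≫ (yon S).map e) hk).trans (Fork.IsLimit.lift_ι' hl _ hfac)))
  · let π : P ⟶ (yon S).obj U := ObjectProperty.homMk (fibπ (testA w) g)
    have hπ : ∀ (s : ClType (FibCat.fp (testA w) g) U), fpHom s = 𝟙 U →
        (ObjectProperty.homMk (uliftYonedaEquiv.{u + 1}.symm s) : (yon S).obj U ⟶ P) ≫ π = 𝟙 _ := fun s h => by
      apply ObjectProperty.hom_ext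
      refine uliftYonedaEquiv.{u + 1}.injective ?_
      refine congrArg ULift.up ?_
      change fpHom (clMap (𝟙 U) s) = 𝟙 U
      rw [clMap_id, h]
    have h₁ : s₁ ≫ π = 𝟙 _ := hπ _ (fpHom_fpEl _ _ _ _ _)
    have h₂ : s₂ ≫ π = 𝟙 _ := hπ _ (fpHom_fpEl _ _ _ _ _)
    exact hQ.2 (pullback.lift s₁ s₂ (h₁.trans h₂.symm)) _ e (isPullback_diagonal_of_isLimit_fork h₁ h₂ he hl)

theorem isIso_secHomP {F : PSp S} {E : Over S} (c : F.obj (op E))
    (h : ∀ T : Over S, Function.Bijective fun k : T ⟶ E => F.map k.op c) :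
    IsIso (uliftYonedaEquiv.{u + 1}.symm c : (pyon S).obj E ⟶ F) := by
  have : ∀ T, IsIso ((uliftYonedaEquiv.{u + 1}.symm c : (pyon S).obj E ⟶ F).app T) := fun T =>
    (isIso_iff_bijective _).2 ⟨fun a b h' => ULift.ext _ _ ((h T.unop).1
      ((secHomP_app c a).symm.trans (h'.trans (secHomP_app c b)))),
      fun d => let ⟨k, hk⟩ := (h T.unop).2 d; ⟨⟨k⟩, (secHomP_app c _).trans hk⟩⟩
  exact NatIso.isIso_of_isIso_app _

variable {P : MorphismProperty (Sp S)} [P.RespectsIso]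

theorem repByAlgSpWith_diag_of_fibres (hg : AlgSt.RepByAlgSp1 g)
    (hP : ∀ {U : Over S} (y : FibCat.overCat U ⥤ᵇ 𝒵) (hs : Presheaf.IsSheaf (J S) (fib y g)) {E : Over S}
      (e : E ⟶ U), Mono e → LocallyOfFiniteType e.left →
      (∀ {Q : MorphismProperty Scheme.{u}}, RepWith Q (pullback.diagonal
        (ObjectProperty.homMk (fibπ y g) : (⟨fib y g, hs⟩ : Sp S) ⟶ (yon S).obj U)) → Q e.left) →
      P ((yon S).map e)) :
    AlgSt.RepByAlgSpWith P (FibCat.diag g) := by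
  refine repByAlgSpWith_iff.2 ⟨inferInstance, fun U w => ?_⟩
  obtain ⟨E, e, c, hm, hl, hc, hb, hQ⟩ := exists_scheme_fib_diag w hg
  obtain ⟨hs₀, -⟩ := (repByAlgSp1_iff.1 hg).2 U (testA w)
  let F : PSp S := fib w (FibCat.diag g)
  have : IsIso (uliftYonedaEquiv.{u + 1}.symm c : (pyon S).obj E ⟶ F) := isIso_secHomP (F := F) c hb
  let i := asIso (uliftYonedaEquiv.{u + 1}.symm c : (pyon S).obj E ⟶ F)
  obtain ⟨hs, hA⟩ := ((isAlgSpaceP_obj_iff ((yon S).obj E)).2 (IsAlgSpace.yon_obj E)).of_iso i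
  have hπ : ((yon S).map e).hom = i.hom ≫ fibπ w (FibCat.diag g) := by
    refine uliftYonedaEquiv.{u + 1}.injective ?_
    refine congrArg ULift.up ?_
    change 𝟙 E ≫ e = fpHom (clMap (𝟙 E) c)
    rw [clMap_id, hc, Category.id_comp]
  obtain ⟨j⟩ := arrowIso_of_hom (a := (yon S).map e)
    (b := (ObjectProperty.homMk (fibπ w (FibCat.diag g)) : (⟨F, hs⟩ : Sp S) ⟶ (yon S).obj U)) i hπ
  exact ⟨hs, hA, (P.arrow_mk_iso_iff j).1 (hP (testA w) hs₀ e hm hl (hQ hs₀))⟩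

theorem repByAlgSpWith_diag_of_repByAlgSp1 (hg : AlgSt.RepByAlgSp1 g)
    (hP : ∀ {E U : Over S} (e : E ⟶ U), Mono e → LocallyOfFiniteType e.left → P ((yon S).map e)) :
    AlgSt.RepByAlgSpWith P (FibCat.diag g) :=
  repByAlgSpWith_diag_of_fibres hg fun _ _ _ e hm hl _ => hP e hm hl

theorem isMono_diag (hg : AlgSt.RepByAlgSp1 g) : AlgSt.IsMono (FibCat.diag g) :=
  repByAlgSpWith_diag_of_repByAlgSp1 hg fun e hm _ =>
    show Mono ((yon S).map e) from inferInstance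

theorem isRepresentable1_diag (hg : AlgSt.RepByAlgSp1 g) : FibCat.IsRepresentable1 (FibCat.diag g) := by
  intro U w
  have := faithful_of_repByAlgSp1 hg
  obtain ⟨E, e, c, -, -, -, hb, -⟩ := exists_scheme_fib_diag w hg
  obtain ⟨m, hm, rfl⟩ := cl_exists c
  have : (FibCat.fp w (FibCat.diag g)).p.Faithful := faithful_fp
  have heq : FibCat.IsEquivOver (objFun m hm) := isEquivOver_of_bijective _ fun T => by
    have hcl : ∀ k : T ⟶ E, clF (objFun m hm) T (cl (ov k) (ov_base k)) = clMap k (cl m hm) := fun k =>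
      (clMap_cl_pull k m hm).symm
    refine ⟨fun a b h => ?_, fun d => ?_⟩
    · obtain ⟨k, rfl⟩ : ∃ k, cl (ov k) (ov_base k) = a :=
        ⟨overHom a, (bijective_overHom T).1 (overHom_mk _)⟩
      obtain ⟨k', rfl⟩ : ∃ k', cl (ov k') (ov_base k') = b :=
        ⟨overHom b, (bijective_overHom T).1 (overHom_mk _)⟩
      rw [hcl, hcl] at h
      rw [(hb T).1 h]
    · obtain ⟨k, hk⟩ := (hb T).2 d
      exact ⟨cl (ov k) (ov_base k), (hcl k).trans hk⟩
  obtain ⟨G, hG, -, -⟩ := isEquivOver_symm heq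
  exact ⟨E, G, hG⟩

theorem isSeparatedMor_diag (hg : AlgSt.RepByAlgSp1 g)
    [(IsSeparatedMor : MorphismProperty (Sp S)).RespectsIso] :
    AlgSt.RepByAlgSpWith IsSeparatedMor (FibCat.diag g) :=
  repByAlgSpWith_diag_of_repByAlgSp1 hg fun _ _ _ => Groth.Agent.ASp.repWith_diagonal_of_mono _

theorem locP_diag {Q : MorphismProperty Scheme.{u}} [Groth.Agent.ASp.IsEtLocal Q]
    (hQ : ∀ {X Y : Scheme.{u}} (f : X ⟶ Y), Mono f → LocallyOfFiniteType f → Q f)
    [(LocP Q : MorphismProperty (Sp S)).RespectsIso]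
    (hg : AlgSt.RepByAlgSp1 g) : AlgSt.RepByAlgSpWith (LocP Q) (FibCat.diag g) :=
  repByAlgSpWith_diag_of_repByAlgSp1 hg fun e _ hl => Groth.Agent.ASp.locP_of_repWith
    (Groth.Agent.ASp.repWith_yon_map (hQ e.left inferInstance hl))

end Groth.Agent.ASt

namespace Groth.Agent.ASt

open _root_.AlgSp

variable {S : Scheme.{u}} {𝒳 𝒴 : AlgSt.Cat S} [h𝒳 : FibCat.IsFibGrpd 𝒳.p] [h𝒴 : FibCat.IsFibGrpd 𝒴.p]
  {j : 𝒳 ⥤ᵇ 𝒴}

theorem full_of_fpHom_injective
    (h : ∀ (U : Over S) (y : FibCat.overCat U ⥤ᵇ 𝒴) (T : Over S),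
      Function.Injective (fpHom : ClType (FibCat.fp y j) T → (T ⟶ U))) : j.toFunctor.Full := by
  refine ⟨fun {x x'} m => ?_⟩
  let K : 𝒳.p.obj x ⟶ 𝒳.p.obj x' := eqToHom (j.w_obj x).symm ≫ 𝒴.p.map m ≫ eqToHom (j.w_obj x')
  let b := pull x' rfl K
  let i : j.obj x ⟶ j.obj b := facMap (j.map (pullHom x' rfl K)) m
    (eqToHom ((j.w_obj x).trans ((pull_base x' rfl K).symm.trans (j.w_obj b).symm)))
    (by simp [b, K, map_w])
  let Y := objFun (𝒳 := 𝒴) (j.obj x) (j.w_obj x)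
  let φ : Y.obj (ov (𝟙 _)) ⟶ j.obj x := pullHom (j.obj x) (j.w_obj x) (𝟙 _)
  have hφ : 𝒴.p.map φ = eqToHom (((Y.w_obj (ov (𝟙 _))).trans (ov_base (𝟙 _))).trans
      ((rfl : 𝒳.p.obj x = _).symm.trans (j.w_obj x).symm)) := (map_pullHom _ _ _).trans (by simp)
  have hi : 𝒴.p.map i = eqToHom _ := map_facMap _ _ _ _
  have hφi : 𝒴.p.map (φ ≫ i) = eqToHom (((Y.w_obj (ov (𝟙 _))).trans (ov_base (𝟙 _))).trans
      ((pull_base x' rfl K).symm.trans (j.w_obj b).symm)) := by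
    rw [Functor.map_comp, hφ, hi, eqToHom_trans]
  have e : fpEl (y := Y) (f := j) (𝟙 (𝒳.p.obj x)) x rfl φ hφ =
      fpEl (y := Y) (f := j) (𝟙 (𝒳.p.obj x)) b (pull_base x' rfl K) (φ ≫ i) hφi :=
    h _ Y _ ((fpHom_fpEl _ _ _ _ _).trans (fpHom_fpEl _ _ _ _ _).symm)
  obtain ⟨v, -, hv⟩ := fpEl_eq_iff.1 e
  have hiφ : IsIso φ := isIso_of_vert φ hφ
  refine ⟨v ≫ pullHom x' rfl K, ?_⟩
  rw [Functor.map_comp, (cancel_epi φ).1 hv]
  exact facMap_comp _ _ _ _

theorem full_faithful_of_isMono (hj : AlgSt.IsMono j) : j.toFunctor.Full ∧ j.toFunctor.Faithful := by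
  obtain ⟨hf, hF⟩ := repByAlgSpWith_iff.1 hj
  refine ⟨full_of_fpHom_injective fun U y T c c' e => ?_, hf⟩
  obtain ⟨hs, hA, hm⟩ := hF U y
  have : Mono (ObjectProperty.homMk (fibπ y j) : (⟨fib y j, hs⟩ : Sp S) ⟶ (yon S).obj U) := hm
  exact Groth.Agent.ASp.app_injective_of_mono
    (ObjectProperty.homMk (fibπ y j) : (⟨fib y j, hs⟩ : Sp S) ⟶ (yon S).obj U) T (congrArg ULift.up e)

end Groth.Agent.ASt
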