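import Groth.Agent.ASt.Stack
/-!
Categories fibred in setoids.
-/

set_option backward.isDefEq.respectTransparency false
set_option backward.isDefEq.respectTransparency.types false
set_option linter.unusedSectionVars false

universe v₄ u₄ v₃ u₃ v₂ u₂ v u

open CategoryTheory Opposite

namespace Groth.Agent.ASt

variable {C : Type u} [Category.{v} C]
variable {𝒳 : BasedCategory.{v₂, u₂} C} {𝒴 : BasedCategory.{v₃, u₃} C} {𝒮 : BasedCategory.{v₄, u₄} C}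

theorem eq_of_isFibSetoid (h : FibCat.IsFibSetoid 𝒳.p) {x y : 𝒳.obj} (a b : x ⟶ y)
    {e : 𝒳.p.obj x = 𝒳.p.obj y} (ha : 𝒳.p.map a = eqToHom e) (hb : 𝒳.p.map b = eqToHom e) : a = b :=
  congrArg Subtype.val ((h.2 (𝒳.p.obj x) (⟨x, rfl⟩ : 𝒳.p.Fiber (𝒳.p.obj x)) ⟨y, e.symm⟩).elim
    ⟨a, isHomLift_id_of_map a rfl ha⟩ ⟨b, isHomLift_id_of_map b rfl hb⟩)

theorem isFibSetoid_mk (h : FibCat.IsFibGrpd 𝒳.p)
    (h' : ∀ {x y : 𝒳.obj} (a b : x ⟶ y) {e : 𝒳.p.obj x = 𝒳.p.obj y},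
      𝒳.p.map a = eqToHom e → 𝒳.p.map b = eqToHom e → a = b) : FibCat.IsFibSetoid 𝒳.p :=
  ⟨h, fun U x y => ⟨fun f g => Subtype.ext (by
    haveI := f.2
    haveI := g.2
    exact h' f.1 g.1 (map_of_isHomLift_id (R := U) f.1) (map_of_isHomLift_id (R := U) g.1))⟩⟩

theorem isFibSetoid_of_isEquivOver {F : 𝒳 ⥤ᵇ 𝒴} (hF : FibCat.IsEquivOver F)
    (h : FibCat.IsFibSetoid 𝒳.p) : FibCat.IsFibSetoid 𝒴.p := by
  haveI := h.1
  obtain ⟨G, hG, -, -⟩ := isEquivOver_symm hF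
  obtain ⟨-, hfa, -⟩ := vert_of_isEquivOver hG
  refine isFibSetoid_mk (isFibGrpd_of_isEquivOver hF) fun {x y} a b {e} ha hb => G.toFunctor.map_injective ?_
  exact eq_of_isFibSetoid h _ _ (e := (G.w_obj x).trans (e.trans (G.w_obj y).symm)) (by simp [map_w, ha])
    (by simp [map_w, hb])

theorem isFibSetoid_fp {F : 𝒳 ⥤ᵇ 𝒮} {G : 𝒴 ⥤ᵇ 𝒮} [FibCat.IsFibGrpd 𝒮.p] (hX : FibCat.IsFibSetoid 𝒳.p)
    (hY : FibCat.IsFibSetoid 𝒴.p) : FibCat.IsFibSetoid (FibCat.fp F G).p :=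
  haveI := hX.1
  haveI := hY.1
  isFibSetoid_mk isFibGrpd_fp fun {x y} a b {e} ha hb => fp_hom_ext (eq_of_isFibSetoid hX _ _ ha hb)
    (eq_of_isFibSetoid hY _ _ (e := (fp_snd_base x).trans (e.trans (fp_snd_base y).symm))
      (by rw [fp_map_snd, show 𝒳.p.map a.hom.fst = eqToHom e from ha]; simp)
      (by rw [fp_map_snd, show 𝒳.p.map b.hom.fst = eqToHom e from hb]; simp))

end Groth.Agent.ASt
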