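import Groth.Agent.ASt.StQc
/-!
Smooth surjective charts of fibre products of algebraic stacks.
-/

set_option backward.isDefEq.respectTransparency false
set_option backward.isDefEq.respectTransparency.types false
set_option linter.unusedSectionVars false

universe u

open CategoryTheory CategoryTheory.Limits AlgebraicGeometry Opposite Topology

namespace Groth.Agent.ASt

open _root_.AlgSp Groth.Agent.ASp

variable {S : Scheme.{u}} {𝒳 𝒲 𝒴 𝒵 : AlgSt.Cat S} [h𝒳 : FibCat.IsFibGrpd 𝒳.p] [h𝒴 : FibCat.IsFibGrpd 𝒴.p]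
  [h𝒵 : FibCat.IsFibGrpd 𝒵.p] [h𝒲 : FibCat.IsFibGrpd 𝒲.p]

section Paste

variable (g : 𝒵 ⥤ᵇ 𝒴) (f : 𝒳 ⥤ᵇ 𝒴) (b : 𝒲 ⥤ᵇ 𝒳)

/-- The comparison of a fibre product with a composite and the iterated one. -/
noncomputable def pasteF : FibCat.fp g (BasedFunctor.comp b f) ⥤ᵇ FibCat.fp b (FibCat.fpSnd g f) :=
  FibCat.fpLift (FibCat.fpSnd g (BasedFunctor.comp b f))
    (FibCat.fpLift (FibCat.fpFst g (BasedFunctor.comp b f))
      (BasedFunctor.comp (FibCat.fpSnd g (BasedFunctor.comp b f)) b) (FibCat.fpIso g (BasedFunctor.comp b f)))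
    (Iso.refl _)

/-- Its inverse. -/
noncomputable def pasteG : FibCat.fp b (FibCat.fpSnd g f) ⥤ᵇ FibCat.fp g (BasedFunctor.comp b f) :=
  FibCat.fpLift (BasedFunctor.comp (FibCat.fpSnd b (FibCat.fpSnd g f)) (FibCat.fpFst g f))
    (FibCat.fpFst b (FibCat.fpSnd g f))
    ((wL (FibCat.fpSnd b (FibCat.fpSnd g f)) (FibCat.fpIso g f)).trans
      (wR (FibCat.fpIso b (FibCat.fpSnd g f)).symm f))

theorem isEquivOver_pasteF : FibCat.IsEquivOver (pasteF g f b) := by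
  haveI : FibCat.IsFibGrpd (FibCat.fp g (BasedFunctor.comp b f)).p := isFibGrpd_fp
  haveI : FibCat.IsFibGrpd (FibCat.fp g f).p := isFibGrpd_fp
  haveI : FibCat.IsFibGrpd (FibCat.fp b (FibCat.fpSnd g f)).p := isFibGrpd_fp
  refine ⟨pasteG g f b, ⟨fpIsoMk (Iso.refl _) (Iso.refl _) fun x => ?_⟩,
    ⟨fpIsoMk (Iso.refl _)
      (fpIsoMk (A := BasedFunctor.comp (BasedFunctor.comp (pasteG g f b) (pasteF g f b)) (FibCat.fpSnd b (FibCat.fpSnd g f)))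
        (B := BasedFunctor.comp (BasedFunctor.id _) (FibCat.fpSnd b (FibCat.fpSnd g f)))
        (Iso.refl _) (FibCat.fpIso b (FibCat.fpSnd g f)) fun x => ?_) fun x => ?_⟩⟩
  · change g.map (𝟙 x.obj.fst) ≫ x.obj.iso.hom =
      (x.obj.iso.hom ≫ f.map (𝟙 (b.obj x.obj.snd))) ≫ f.map (b.map (𝟙 x.obj.snd))
    simp
    exact (Category.comp_id _).symm
  · change g.map (𝟙 x.obj.snd.obj.fst) ≫ x.obj.snd.obj.iso.hom =
      (x.obj.snd.obj.iso.hom ≫ f.map x.obj.iso.inv) ≫ f.map x.obj.iso.hom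
    simp [← Functor.map_comp]
  · change b.map (𝟙 x.obj.fst) ≫ x.obj.iso.hom = 𝟙 (b.obj x.obj.fst) ≫ x.obj.iso.hom
    simp

end Paste

/-- A category representable by a space has a smooth surjective chart. -/
theorem exists_chart_of_repByAlgSp (h : AlgSt.RepByAlgSp 𝒳) : AlgSt.HasAtlas (LocP @Smooth) 𝒳 := by
  obtain ⟨F, e, he⟩ := h
  obtain ⟨V, x, -, h1, h2⟩ := exists_chart_ofSp F.property
  exact ⟨V, BasedFunctor.comp x e, repByAlgSpWith_postcomp e he h1, repByAlgSpWith_postcomp e he h2⟩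

theorem hasAtlas_of_cover {w : 𝒲 ⥤ᵇ 𝒳} (h : AlgSt.HasAtlas (LocP @Smooth) 𝒲)
    (hw : AlgSt.RepByAlgSpWith (LocP @Smooth) w) (hws : AlgSt.RepByAlgSpWith IsSurjectiveMor w) :
    AlgSt.HasAtlas (LocP @Smooth) 𝒳 := by
  obtain ⟨V, x, h1, h2⟩ := h
  exact ⟨V, BasedFunctor.comp x w, repByAlgSpWith_comp compLocal_smooth h1 hw,
    repByAlgSpWith_comp compLocal_surjective h2 hws⟩

/-- Fibre products with a representable morphism have atlases. -/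
theorem hasAtlas_fp_of_repByAlgSp1 (hZ : AlgSt.HasAtlas (LocP @Smooth) 𝒵) (g : 𝒵 ⥤ᵇ 𝒴)
    {f : 𝒳 ⥤ᵇ 𝒴} (hf : AlgSt.RepByAlgSp1 f) : AlgSt.HasAtlas (LocP @Smooth) (FibCat.fp g f) := by
  obtain ⟨U, a, ha, has⟩ := hZ
  haveI : FibCat.IsFibGrpd (FibCat.fp g f).p := isFibGrpd_fp
  haveI : FibCat.IsFibGrpd (FibCat.fp a (FibCat.fpFst g f)).p := isFibGrpd_fp
  exact hasAtlas_of_cover (w := FibCat.fpSnd a (FibCat.fpFst g f))
    (exists_chart_of_repByAlgSp (repByAlgSp_fp a (repByAlgSp1_fpFst g hf) (repByAlgSp_overCat U)))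
    (repByAlgSpWith_fpSnd _ ha) (repByAlgSpWith_fpSnd _ has)

/-- Fibre products of algebraic stacks have atlases. -/
theorem hasAtlas_fp (hZ : AlgSt.HasAtlas (LocP @Smooth) 𝒵) (hX : AlgSt.HasAtlas (LocP @Smooth) 𝒳)
    (hΔ : AlgSt.RepByAlgSp1 (FibCat.diag (FibCat.toSelf 𝒴))) (g : 𝒵 ⥤ᵇ 𝒴) (f : 𝒳 ⥤ᵇ 𝒴) :
    AlgSt.HasAtlas (LocP @Smooth) (FibCat.fp g f) := by
  obtain ⟨U, b, hb, hbs⟩ := hX
  haveI : FibCat.IsFibGrpd (FibCat.fp g f).p := isFibGrpd_fp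
  haveI : FibCat.IsFibGrpd (FibCat.fp g (BasedFunctor.comp b f)).p := isFibGrpd_fp
  haveI : FibCat.IsFibGrpd (FibCat.fp b (FibCat.fpSnd g f)).p := isFibGrpd_fp
  have he := isEquivOver_pasteF g f b
  exact hasAtlas_of_cover (w := BasedFunctor.comp (pasteF g f b) (FibCat.fpSnd b (FibCat.fpSnd g f)))
    (hasAtlas_fp_of_repByAlgSp1 hZ g (repByAlgSp1_of_diag hΔ (BasedFunctor.comp b f)))
    (repByAlgSpWith_precomp he (repByAlgSpWith_fpSnd _ hb))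
    (repByAlgSpWith_precomp he (repByAlgSpWith_fpSnd _ hbs))

end Groth.Agent.ASt
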