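import Groth.Agent.ASt.Stack
import Groth.Agent.ASt.FpAtlas
/-!
Stack properties of algebraic stacks and their fibre products.
-/

set_option backward.isDefEq.respectTransparency false
set_option backward.isDefEq.respectTransparency.types false
set_option linter.unusedSectionVars false

universe u

open CategoryTheory CategoryTheory.Limits AlgebraicGeometry Opposite

namespace Groth.Agent.ASt

open _root_.AlgSp Groth.Agent.ASp

variable {S : Scheme.{u}} {𝒳 𝒴 𝒵 : AlgSt.Cat S}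

theorem isStack_ofSp (F : Sp S) : Stk.IsStack (QuotSh.J Scheme.fppfPrecoverage S) (AlgSt.ofSp F) :=
  isStack_ofPsh_iff.2 ((isSheaf_iff_isSheaf_of_type _ _).1 F.property)

theorem isStack_of_repByAlgSp (h : AlgSt.RepByAlgSp 𝒳) :
    Stk.IsStack (QuotSh.J Scheme.fppfPrecoverage S) 𝒳 := by
  obtain ⟨F, e, he⟩ := h
  exact isStack_of_isEquivOver he (isStack_ofSp F.obj)

theorem isStack_of_repByAlgSp1 [FibCat.IsFibGrpd 𝒳.p]
    (hY : Stk.IsStack (QuotSh.J Scheme.fppfPrecoverage S) 𝒴) {f : 𝒳 ⥤ᵇ 𝒴} (hf : AlgSt.RepByAlgSp1 f) :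
    Stk.IsStack (QuotSh.J Scheme.fppfPrecoverage S) 𝒳 :=
  haveI := hY.1
  haveI := faithful_of_repByAlgSp1 hf
  isStack_of_faithful hY f fun U y => isStack_of_repByAlgSp (hf U y)

theorem isStack_selfOver : Stk.IsStack (QuotSh.J Scheme.fppfPrecoverage S) (FibCat.selfOver (Over S)) :=
  isStack_of_repByAlgSp repByAlgSp_selfOver

/-- Categories representable by spaces are Deligne-Mumford stacks. -/
theorem isDM_of_repByAlgSp [FibCat.IsFibGrpd 𝒳.p] (hr : AlgSt.RepByAlgSp 𝒳) :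
    AlgSt.IsDM Scheme.fppfPrecoverage 𝒳 := by
  obtain ⟨F, e, he⟩ := id hr
  obtain ⟨V, p, hpe, hps⟩ := F.property.atlas
  have hs : AlgSt.RepByAlgSpWith IsSurjectiveMor (BasedFunctor.comp (spChart p) e) :=
    repByAlgSpWith_postcomp e he
      (repByAlgSpWith_spChart hps fun v hv => surjective_map_of_repWith (repWith_yon_map hv))
  refine ⟨⟨isStack_of_repByAlgSp hr,
    repByAlgSp1_diag_iff.2 fun U x => repByAlgSp1_of_repByAlgSp (repByAlgSp_overCat U) hr x,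
    exists_chart_of_repByAlgSp hr⟩, V, _, repByAlgSpWith_postcomp e he
      (repByAlgSpWith_spChart (P := AlgSp.IsEtaleMor) hpe fun v (hv : Etale v.left) _ φ hφ => ?_), hs⟩
  exact repWith_comp hφ (repWith_yon_map hv)

theorem isAlgStack_of_isEquivOver {e : 𝒳 ⥤ᵇ 𝒴} (he : FibCat.IsEquivOver e)
    (h : AlgSt.IsAlgStack Scheme.fppfPrecoverage 𝒳) : AlgSt.IsAlgStack Scheme.fppfPrecoverage 𝒴 := by
  haveI := h.isStack.1
  haveI := isFibGrpd_of_isEquivOver he
  obtain ⟨W, a, ha, has⟩ := h.atlas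
  obtain ⟨G, hG, -, ⟨β⟩⟩ := isEquivOver_symm he
  exact ⟨isStack_of_isEquivOver he h.isStack,
    repByAlgSp1_diag_iff.2 fun U y => repByAlgSp1_of_with (repByAlgSpWith_congr
      (f := BasedFunctor.comp (BasedFunctor.comp y G) e) (wL y β)
      (repByAlgSpWith_postcomp e he (repByAlgSp1_iff_top.1 (repByAlgSp1_of_diag h.diag (BasedFunctor.comp y G))))),
    W, _, repByAlgSpWith_postcomp e he ha, repByAlgSpWith_postcomp e he has⟩

theorem isDM_of_isEquivOver {e : 𝒳 ⥤ᵇ 𝒴} (he : FibCat.IsEquivOver e)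
    (h : AlgSt.IsDM Scheme.fppfPrecoverage 𝒳) : AlgSt.IsDM Scheme.fppfPrecoverage 𝒴 := by
  haveI := h.1.isStack.1
  haveI := isFibGrpd_of_isEquivOver he
  obtain ⟨W, a, ha, has⟩ := h.2
  exact ⟨isAlgStack_of_isEquivOver he h.1, W, _, repByAlgSpWith_postcomp e he ha, repByAlgSpWith_postcomp e he has⟩

/-- A category representable over an algebraic stack is one. -/
theorem isAlgStack_of_repByAlgSp1 [FibCat.IsFibGrpd 𝒳.p] (hY : AlgSt.IsAlgStack Scheme.fppfPrecoverage 𝒴)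
    {f : 𝒳 ⥤ᵇ 𝒴} (hf : AlgSt.RepByAlgSp1 f) : AlgSt.IsAlgStack Scheme.fppfPrecoverage 𝒳 := by
  haveI := hY.isStack.1
  haveI : FibCat.IsFibGrpd (FibCat.fp f f).p := isFibGrpd_fp
  haveI : FibCat.IsFibGrpd (FibCat.fp (FibCat.toSelf 𝒳) (FibCat.toSelf 𝒳)).p := isFibGrpd_fp
  obtain ⟨U, a, ha, has⟩ := hY.atlas
  haveI : FibCat.IsFibGrpd (FibCat.fp a f).p := isFibGrpd_fp
  refine ⟨isStack_of_repByAlgSp1 hY.isStack hf, ?_,
    hasAtlas_of_cover (w := FibCat.fpSnd a f)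
      (exists_chart_of_repByAlgSp (repByAlgSp_fp a hf (repByAlgSp_overCat U)))
      (repByAlgSpWith_fpSnd _ ha) (repByAlgSpWith_fpSnd _ has)⟩
  have h := repByAlgSpWith_diag_comp (g := FibCat.toSelf 𝒴) compLocal_top
    (repByAlgSpWith_diag_of_repByAlgSp1 (P := ⊤) hf fun _ _ _ => trivial) (repByAlgSp1_iff_top.1 hY.diag)
  rw [comp_toSelf] at h
  exact repByAlgSp1_of_with h

/-- Fibre products of algebraic stacks over a stack with representable diagonal are algebraic stacks. -/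
theorem isAlgStack_fp (hZ : Stk.IsPrestack (QuotSh.J Scheme.fppfPrecoverage S) 𝒵)
    (hΔ : AlgSt.RepByAlgSp1 (FibCat.diag (FibCat.toSelf 𝒵)))
    (hX : AlgSt.IsAlgStack Scheme.fppfPrecoverage 𝒳) (hY : AlgSt.IsAlgStack Scheme.fppfPrecoverage 𝒴)
    (f : 𝒳 ⥤ᵇ 𝒵) (g : 𝒴 ⥤ᵇ 𝒵) : AlgSt.IsAlgStack Scheme.fppfPrecoverage (FibCat.fp f g) := by
  haveI := hX.isStack.1
  haveI := hY.isStack.1
  haveI := hZ.1
  haveI : FibCat.IsFibGrpd (FibCat.fp f g).p := isFibGrpd_fp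
  haveI : FibCat.IsFibGrpd (FibCat.fp g g).p := isFibGrpd_fp
  haveI : FibCat.IsFibGrpd (FibCat.fp (FibCat.toSelf (FibCat.fp f g)) (FibCat.toSelf (FibCat.fp f g))).p := isFibGrpd_fp
  refine ⟨isStack_fp hX.isStack hY.isStack hZ, ?_, hasAtlas_fp hX.atlas hY.atlas hΔ f g⟩
  have h := repByAlgSpWith_diag_comp (g := FibCat.toSelf 𝒳) compLocal_top
    (repByAlgSpWith_diag_fpFst (n := f) (g := g) (repByAlgSp1_iff_top.1 (repByAlgSp1_diag g hY.diag hΔ)))
    (repByAlgSp1_iff_top.1 hX.diag)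
  rw [comp_toSelf] at h
  exact repByAlgSp1_of_with h

theorem isAlgStack_overCat (U : Over S) : AlgSt.IsAlgStack Scheme.fppfPrecoverage (FibCat.overCat U) :=
  (isDM_of_repByAlgSp (repByAlgSp_overCat U)).1

end Groth.Agent.ASt
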