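import Groth.Agent.ASt.DiagDesc
import Groth.Agent.ASt.StkAlg
import Groth.Agent.ASt.StackSetoid
import Groth.Agent.ASp.Bootstrap
import Groth.Agent.ASp.FppfLocal
/-!
Representability of a diagonal descends along fppf base change.
-/

set_option backward.isDefEq.respectTransparency false
set_option backward.isDefEq.respectTransparency.types false
set_option linter.unusedSectionVars false

universe u

open CategoryTheory CategoryTheory.Limits AlgebraicGeometry Opposite

namespace Groth.Agent.ASt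

open _root_.AlgSp Groth.Agent.ASp

variable {S : Scheme.{u}} {𝒳 𝒴 𝒵 : AlgSt.Cat S} [h𝒳 : FibCat.IsFibGrpd 𝒳.p] [h𝒴 : FibCat.IsFibGrpd 𝒴.p]
  [h𝒵 : FibCat.IsFibGrpd 𝒵.p]

/-- An fppf base change of a sheaf over a scheme being a space, so is the sheaf. -/
theorem isAlgSpace_of_fppf_baseChange {F F' : Sp S} {U T : Over S} {π : F ⟶ (yon S).obj U} {r : F' ⟶ F}
    {π' : F' ⟶ (yon S).obj T} (l : T ⟶ U) [Flat l.left] [LocallyOfFinitePresentation l.left] [Surjective l.left]
    (sq : IsPullback r π' π ((yon S).map l)) (hF' : IsAlgSpace F') : IsAlgSpace F := by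
  refine isAlgSpace_of_fppfChart hF' (p := r) fun T' g P fst snd sq' => ?_
  have hp : IsPullback snd (fst ≫ π') (g ≫ π) ((yon S).map l) := sq'.flip.paste_vert sq
  exact ⟨isAlgSpace_of_isPullback (IsAlgSpace.yon_obj U).diag (IsAlgSpace.yon_obj T') (IsAlgSpace.yon_obj T) hp,
    locP_of_repWith (repWith_of_isPullback hp.flip (repWith_yon_map (inferInstanceAs (Flat l.left)))),
    locP_of_repWith (repWith_of_isPullback hp.flip
      (repWith_yon_map (inferInstanceAs (LocallyOfFinitePresentation l.left)))),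
    surjective_map_of_repWith (repWith_of_isPullback hp.flip
      (repWith_yon_map (P := @Surjective) (inferInstanceAs (Surjective l.left))))⟩

/-- Between stacks, the diagonal is representable as soon as it is so after an fppf base change. -/
theorem repByAlgSp1_diag_of_fppf (hX : Stk.IsStack (QuotSh.J Scheme.fppfPrecoverage S) 𝒳)
    (hY : Stk.IsStack (QuotSh.J Scheme.fppfPrecoverage S) 𝒴) {f : 𝒳 ⥤ᵇ 𝒴}
    {z : 𝒵 ⥤ᵇ 𝒴} {W : Over S} (c : FibCat.overCat W ⥤ᵇ 𝒵)
    (hfl : AlgSt.RepByAlgSpWith (LocP @Flat) (BasedFunctor.comp c z))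
    (hfp : AlgSt.RepByAlgSpWith (LocP @LocallyOfFinitePresentation) (BasedFunctor.comp c z))
    (hsu : AlgSt.IsSurjective (BasedFunctor.comp c z))
    (h : AlgSt.RepByAlgSp1 (FibCat.diag (FibCat.fpFst z f))) : AlgSt.RepByAlgSp1 (FibCat.diag f) := by
  haveI : FibCat.IsFibGrpd (FibCat.fp z f).p := isFibGrpd_fp
  haveI : FibCat.IsFibGrpd (FibCat.fp f f).p := isFibGrpd_fp
  haveI : FibCat.IsFibGrpd (FibCat.fp (FibCat.fpFst z f) (FibCat.fpFst z f)).p := isFibGrpd_fp
  haveI : (FibCat.diag (FibCat.fpFst z f)).toFunctor.Faithful := faithful_diag _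
  haveI : (FibCat.diag f).toFunctor.Faithful := faithful_diag _
  refine repByAlgSp1_iff.2 ⟨inferInstance, fun U w => ?_⟩
  obtain ⟨T, l, g', hl1, hl2, hl3, ⟨β⟩⟩ :=
    exists_fppf_lift c hfl hfp hsu (BasedFunctor.comp (BasedFunctor.comp w (FibCat.fpFst f f)) f)
  let wT := BasedFunctor.comp (AlgSt.overMap l) w
  let a := BasedFunctor.comp wT (FibCat.fpFst f f)
  let b := BasedFunctor.comp wT (FibCat.fpSnd f f)
  let e : BasedFunctor.comp a f ≅ BasedFunctor.comp b f := wL wT (FibCat.fpIso f f)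
  let β' : BasedFunctor.comp g' z ≅ BasedFunctor.comp a f := β
  let w' : FibCat.overCat T ⥤ᵇ FibCat.fp (FibCat.fpFst z f) (FibCat.fpFst z f) :=
    FibCat.fpLift (FibCat.fpLift g' a β') (FibCat.fpLift g' b (β' ≪≫ e)) (Iso.refl g')
  have η : BasedFunctor.comp w' (bcN z f) ≅ wT := fpIsoMk (Iso.refl _) (Iso.refl _) fun x => by
    rw [show ((BasedFunctor.comp w' (bcN z f)).obj x).obj.iso.hom = _ from bcN_iso z f (w'.obj x)]
    change f.map (𝟙 _) ≫ (wT.obj x).obj.iso.hom = (β'.inv.toNatTrans.app x ≫ z.map (𝟙 _) ≫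
      β'.hom.toNatTrans.app x ≫ (wT.obj x).obj.iso.hom) ≫ f.map (𝟙 _)
    simp
    erw [Category.id_comp]
    exact ((((BasedNatTrans.forgetful _ _).mapIso β').app x).inv_hom_id_assoc _).symm
  have h1 : FibHas ⊤ w' (FibCat.diag (FibCat.fpFst z f)) :=
    (repByAlgSpWith_iff.1 (repByAlgSp1_iff_top.1 h)).2 T w'
  obtain ⟨hs', hA', -⟩ : FibHas ⊤ wT (FibCat.diag f) := fibHas_congr η
    ((fibHas_iff_of_bijective (bcDiagF z f w') (fpHom_bcDiagF z f w') (bijective_bcDiagF z f w')).1 h1)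
  haveI : FibCat.IsFibGrpd (FibCat.fp w (FibCat.diag f)).p := isFibGrpd_fp
  haveI : (FibCat.fp w (FibCat.diag f)).p.Faithful := faithful_fp
  have hst : Stk.IsStack (QuotSh.J Scheme.fppfPrecoverage S) (FibCat.fp w (FibCat.diag f)) :=
    isStack_fp (isAlgStack_overCat U).isStack hX
      (isPrestack_of_isStack (isStack_fp hX hX (isPrestack_of_isStack hY)))
  have hs : Presheaf.IsSheaf (J S) (fib w (FibCat.diag f)) := (isSheaf_iff_isSheaf_of_type _ _).2
    (isStack_ofPsh_iff.1 (isStack_of_isEquivOver (isEquivOver_toPsh (𝒳 := FibCat.fp w (FibCat.diag f))) hst))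
  refine ⟨hs, isAlgSpace_of_fppf_baseChange l
    (IsPullback.of_map_of_faithful (sheafToPresheaf (J S) (Type (u + 1))) (isPullback_restrF l w) :
      IsPullback (ObjectProperty.homMk (clFun (restrF l w (FibCat.diag f))) :
          (⟨fib wT (FibCat.diag f), hs'⟩ : Sp S) ⟶ (⟨fib w (FibCat.diag f), hs⟩ : Sp S))
        (ObjectProperty.homMk (fibπ wT (FibCat.diag f)))
        (ObjectProperty.homMk (fibπ w (FibCat.diag f))) ((yon S).map l)) hA'⟩

end Groth.Agent.ASt
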