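import Groth.Agent.ASt.Pts
import Groth.Agent.ASt.Chart
import Groth.Agent.ASt.DiagLft
/-!
The topology on the points of an algebraic stack.
-/

set_option backward.isDefEq.respectTransparency false
set_option backward.isDefEq.respectTransparency.types false
set_option linter.unusedSectionVars false

universe u

open CategoryTheory CategoryTheory.Limits AlgebraicGeometry Opposite Topology

namespace Groth.Agent.ASt

open _root_.AlgSp Groth.Agent.ASp

variable {S : Scheme.{u}} {𝒳 𝒴 : AlgSt.Cat S} [h𝒳 : FibCat.IsFibGrpd 𝒳.p] [h𝒴 : FibCat.IsFibGrpd 𝒴.p]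

/-- The spectrum of the residue field of a point, over the base. -/
noncomputable abbrev rPt (U : Over S) (t : ↥U.left) : Over S :=
  Over.mk (U.left.fromSpecResidueField t ≫ U.hom)

/-- The morphism from the spectrum of a residue field. -/
noncomputable abbrev rHom (U : Over S) (t : ↥U.left) : rPt U t ⟶ U :=
  Over.homMk (U.left.fromSpecResidueField t) rfl

/-- A field-valued point with a morphism from a pullback of a chart lies at the image point. -/
theorem mk_eq_ofChart (p : AlgSt.FPt 𝒳) {U : Over S} (x : FibCat.overCat U ⥤ᵇ 𝒳) (k : Over.mk p.str ⟶ U)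
    (m : x.obj (ov k) ⟶ p.obj) (t : ↥(Over.mk p.str).left) :
    AlgSt.Points.mk p = AlgSt.Points.ofChart x (k.left t) := by
  let W := Spec (CommRingCat.of p.K)
  let i : W ⟶ W := 𝟙 _
  obtain ⟨φ, hφ⟩ : ∃ φ : Spec (W.residueField t) ⟶ Spec (U.left.residueField (k.left t)),
      φ ≫ U.left.fromSpecResidueField (k.left t) = W.fromSpecResidueField t ≫ k.left :=
    ⟨_, Scheme.Hom.SpecMap_residueFieldMap_fromSpecResidueField k.left t⟩
  have hk : k.left ≫ U.hom = p.str := Over.w k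
  let T : Over S := Over.mk (W.fromSpecResidueField t ≫ p.str)
  let l : T ⟶ Over.mk p.str := Over.homMk (W.fromSpecResidueField t) rfl
  let φ' : T ⟶ rPt U (k.left t) := Over.homMk φ (by
    change φ ≫ U.left.fromSpecResidueField (k.left t) ≫ U.hom = W.fromSpecResidueField t ≫ p.str
    rw [← Category.assoc, hφ, Category.assoc, hk])
  have e : φ' ≫ rHom U (k.left t) = l ≫ k := Over.OverMorphism.ext hφ
  let r : AlgSt.FPt 𝒳 :=
    { K := W.residueField t
      str := W.fromSpecResidueField t ≫ p.str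
      obj := x.obj (ov (l ≫ k))
      lies := x.w_obj _ }
  refine AlgSt.Points.sound ⟨r, x.map (ovHom l rfl : ov (l ≫ k) ⟶ ov k) ≫ m,
    x.map (ovHom φ' e : ov (l ≫ k) ⟶ ov (rHom U (k.left t))), trivial⟩

theorem exists_ofChart (x : AlgSt.Points 𝒳) :
    ∃ (U : Over S) (y : FibCat.overCat U ⥤ᵇ 𝒳) (t : ↥U.left), AlgSt.Points.ofChart y t = x := by
  obtain ⟨p, rfl⟩ := AlgSt.Points.mk_surjective x
  exact ⟨Over.mk p.str, objFun p.obj p.lies, (default : ↥(Spec (CommRingCat.of p.K))),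
    (mk_eq_ofChart p _ (𝟙 _) (pullHom p.obj p.lies (𝟙 _)) (default : ↥(Spec (CommRingCat.of p.K)))).symm⟩

theorem ofChart_comp {U : Over S} (x : FibCat.overCat U ⥤ᵇ 𝒳) (F : 𝒳 ⥤ᵇ 𝒴) (t : ↥U.left) :
    AlgSt.Points.ofChart (BasedFunctor.comp x F) t = AlgSt.Points.map F (AlgSt.Points.ofChart x t) := rfl

theorem ofChart_congr {U : Over S} {x x' : FibCat.overCat U ⥤ᵇ 𝒳} (α : x ≅ x') (t : ↥U.left) :
    AlgSt.Points.ofChart x t = AlgSt.Points.ofChart x' t :=
  let r : AlgSt.FPt 𝒳 :=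
    { K := U.left.residueField t
      str := U.left.fromSpecResidueField t ≫ U.hom
      obj := x.obj (ov (rHom U t))
      lies := x.w_obj _ }
  AlgSt.Points.sound ⟨r, 𝟙 _, α.hom.toNatTrans.app _, trivial⟩

theorem ofChart_overMap {V U : Over S} (h : V ⟶ U) (x : FibCat.overCat U ⥤ᵇ 𝒳) (t : ↥V.left) :
    AlgSt.Points.ofChart (BasedFunctor.comp (AlgSt.overMap h) x) t = AlgSt.Points.ofChart x (h.left t) := by
  obtain ⟨pt, hpt⟩ : ∃ pt : ↥(rPt V t).left, (rHom V t).left pt = t :=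
    ⟨(default : ↥(Spec (V.left.residueField t))), Scheme.fromSpecResidueField_apply t _⟩
  let p : AlgSt.FPt 𝒳 :=
    { K := V.left.residueField t
      str := V.left.fromSpecResidueField t ≫ V.hom
      obj := (BasedFunctor.comp (AlgSt.overMap h) x).obj (ov (rHom V t))
      lies := (BasedFunctor.comp (AlgSt.overMap h) x).w_obj _ }
  refine (mk_eq_ofChart p x (rHom V t ≫ h) (𝟙 _) pt).trans ?_
  exact congrArg _ (congrArg h.left hpt)

theorem mk_map_eq_ofChart {U : Over S} (x : FibCat.overCat U ⥤ᵇ 𝒳) (p : AlgSt.FPt (FibCat.overCat U)) :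
    ∃ t, AlgSt.Points.map x (AlgSt.Points.mk p) = AlgSt.Points.ofChart x t := by
  obtain ⟨k, hk⟩ : ∃ k : Over.mk p.str ⟶ U, ov k = p.obj := by
    obtain ⟨K, str, ⟨gl, ⟨⟨⟩⟩, gh⟩, hg⟩ := p
    change gl = Over.mk str at hg
    subst hg
    exact ⟨gh, rfl⟩
  exact ⟨k.left (default : ↥(Spec (CommRingCat.of p.K))),
    mk_eq_ofChart (p.map x) x k (x.map (eqToHom hk)) (default : ↥(Spec (CommRingCat.of p.K)))⟩

theorem surjective_ofChart_id (U : Over S) :
    Function.Surjective (AlgSt.Points.ofChart (BasedFunctor.id (FibCat.overCat U))) := fun z => by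
  obtain ⟨p, rfl⟩ := AlgSt.Points.mk_surjective z
  obtain ⟨t, ht⟩ := mk_map_eq_ofChart (BasedFunctor.id (FibCat.overCat U)) p
  exact ⟨t, ht.symm⟩

theorem injective_ofChart_id (U : Over S) :
    Function.Injective (AlgSt.Points.ofChart (BasedFunctor.id (FibCat.overCat U))) := by
  intro s t e
  obtain ⟨r, a, b, -⟩ := mk_eq_mk_iff.1 e
  have ha : a.left ≫ rHom U s = r.obj.hom := Over.w a
  have hb : b.left ≫ rHom U t = r.obj.hom := Over.w b
  have hr : r.obj.left = Over.mk r.str := r.lies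
  obtain ⟨pt⟩ : Nonempty r.obj.left.left := hr ▸ ⟨(default : ↥(Spec (CommRingCat.of r.K)))⟩
  have h1 : r.obj.hom.left pt = s := by
    rw [← ha]; exact Scheme.fromSpecResidueField_apply s _
  have h2 : r.obj.hom.left pt = t := by
    rw [← hb]; exact Scheme.fromSpecResidueField_apply t _
  exact h1.symm.trans h2

theorem exists_overMap {A U : Over S} (G : FibCat.overCat A ⥤ᵇ FibCat.overCat U) :
    ∃ k : A ⟶ U, Nonempty (G ≅ AlgSt.overMap k) := by
  have hb : (G.obj (ov (𝟙 A))).left = A := (G.w_obj _).trans (ov_base _)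
  refine ⟨eqToHom hb.symm ≫ (G.obj (ov (𝟙 A))).hom, ⟨funIso (y := G) (y' := AlgSt.overMap _)
    (Over.homMk (eqToHom hb) ?_ : G.obj (ov (𝟙 A)) ⟶ Over.mk (𝟙 A ≫ eqToHom hb.symm ≫ (G.obj (ov (𝟙 A))).hom)) ?_⟩⟩
  · simp
  · rfl

/-- A chart of the fibre product of a scheme with a representable morphism, on points. -/
theorem exists_chart_points (f : 𝒳 ⥤ᵇ 𝒴) (hf : AlgSt.RepByAlgSp1 f) {V : Over S}
    (y : FibCat.overCat V ⥤ᵇ 𝒴) :
    ∃ (hs : Presheaf.IsSheaf (J S) (fib y f)) (_ : IsAlgSpace (⟨fib y f, hs⟩ : Sp S)) (U : Over S)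
      (p : (yon S).obj U ⟶ (⟨fib y f, hs⟩ : Sp S)) (E : FibCat.overCat U ⥤ᵇ FibCat.fp y f) (h : U ⟶ V),
      RepWith @Etale p ∧ RepWith @Surjective p ∧
      p ≫ ObjectProperty.homMk (fibπ y f) = (yon S).map h ∧
      (∀ u, AlgSt.Points.map (FibCat.fpFst y f) (AlgSt.Points.ofChart E u) =
        AlgSt.Points.ofChart (BasedFunctor.id (FibCat.overCat V)) (h.left u)) ∧
      Function.Surjective (AlgSt.Points.ofChart E) := by
  haveI : FibCat.IsFibGrpd (FibCat.fp y f).p := isFibGrpd_fp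
  haveI := faithful_of_repByAlgSp1 hf
  haveI : (FibCat.fp y f).p.Faithful := faithful_fp
  obtain ⟨hs, hA, U, p, E, h, hpe, hps, hcomp, ⟨α⟩, hsec, -⟩ := exists_chart_of_fib hf y
  refine ⟨hs, hA, U, p, E, h, hpe, hps, hcomp, fun u => ?_, fun z => ?_⟩
  · rw [← ofChart_comp, ofChart_congr α, ← ofChart_overMap]
    rfl
  · obtain ⟨q, rfl⟩ := AlgSt.Points.mk_surjective z
    let c : AlgSp.FieldPt (⟨fib y f, hs⟩ : Sp S) := ⟨q.K, q.str, cl q.obj q.lies⟩
    obtain ⟨u, hu⟩ := surjective_ofPt hps (AlgSp.Points.mk c)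
    obtain ⟨Ω, _, w, a, b, hab⟩ := AlgSp.Points.mk_eq_mk_iff.1
      (show AlgSp.Points.mk (AlgSp.FieldPt.ofPt p u) = AlgSp.Points.mk c from hu)
    let k : Over.mk w ⟶ U := a ≫ rHom U u
    have e : cl (pull q.obj q.lies b) (pull_base q.obj q.lies b) =
        cl (E.obj (ov k)) ((E.w_obj (ov k)).trans (ov_base k)) := by
      rw [← clMap_cl_pull, ← hsec k]
      refine (show _ = (fib y f).map a.op (p.hom.app _ ⟨rHom U u⟩) from hab.symm).trans ?_
      exact (NatTrans.naturality_apply p.hom a.op ⟨rHom U u⟩).symm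
    obtain ⟨v, hv⟩ := cl_eq_iff.1 e
    haveI := isIso_of_vert v hv
    let r : AlgSt.FPt (FibCat.fp y f) :=
      { K := Ω, str := w, obj := E.obj (ov k), lies := (E.w_obj (ov k)).trans (ov_base k) }
    refine ⟨u, AlgSt.Points.sound ⟨r, E.map (ovHom a rfl : ov k ⟶ ov (rHom U u)),
      inv v ≫ pullHom q.obj q.lies b, trivial⟩⟩

/-- Evaluation of a property of the fibre on an etale chart. -/
theorem prop_chart {Q : MorphismProperty Scheme.{u}} {V U : Over S} {F : Sp S} {π : F ⟶ (yon S).obj V}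
    {p : (yon S).obj U ⟶ F} {h : U ⟶ V} (hp : RepWith @Etale p) (e : p ≫ π = (yon S).map h)
    (hπ : LocP Q π) : Q h.left :=
  hπ p (𝟙 _) h hp (AlgSp.repWith_id _ V) (by rw [Category.comp_id, e])

/-- Images of flat, locally finitely presented charts pull back to open sets. -/
theorem isOpen_preimage_image {U U' : Over S} {x : FibCat.overCat U ⥤ᵇ 𝒳}
    (hx₁ : AlgSt.RepByAlgSpWith (LocP @Flat) x) (hx₂ : AlgSt.RepByAlgSpWith (LocP @LocallyOfFinitePresentation) x)
    (z : FibCat.overCat U' ⥤ᵇ 𝒳) {O : Set ↥U.left} (hO : IsOpen O) :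
    IsOpen (AlgSt.Points.ofChart z ⁻¹' (AlgSt.Points.ofChart x '' O)) := by
  obtain ⟨hs, hA, V, p, E, h, hpe, hps, hcomp, hfst, hsurj⟩ := exists_chart_points x (repByAlgSp1_of_with hx₁) z
  obtain ⟨_, _, h1⟩ := (repByAlgSpWith_iff.1 hx₁).2 U' z
  obtain ⟨_, _, h2⟩ := (repByAlgSpWith_iff.1 hx₂).2 U' z
  haveI : Flat h.left := prop_chart hpe hcomp h1
  haveI : LocallyOfFinitePresentation h.left := prop_chart hpe hcomp h2
  obtain ⟨k, ⟨β⟩⟩ := exists_overMap (BasedFunctor.comp E (FibCat.fpSnd z x))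
  have hsnd : ∀ v, AlgSt.Points.map (FibCat.fpSnd z x) (AlgSt.Points.ofChart E v) =
      AlgSt.Points.ofChart (BasedFunctor.id (FibCat.overCat U)) (k.left v) := fun v => by
    rw [← ofChart_comp, ofChart_congr β, ← ofChart_overMap]
    rfl
  have : AlgSt.Points.ofChart z ⁻¹' (AlgSt.Points.ofChart x '' O) = h.left '' (k.left ⁻¹' O) := by
    ext t'
    constructor
    · rintro ⟨t, ht, e⟩
      obtain ⟨w, hw₁, hw₂⟩ := points_surjective_fp z x
        (AlgSt.Points.ofChart (BasedFunctor.id (FibCat.overCat U')) t')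
        (AlgSt.Points.ofChart (BasedFunctor.id (FibCat.overCat U)) t) e.symm
      obtain ⟨v, rfl⟩ := hsurj w
      rw [hfst] at hw₁
      rw [hsnd] at hw₂
      exact ⟨v, show k.left v ∈ O by rw [injective_ofChart_id U hw₂]; exact ht, injective_ofChart_id U' hw₁⟩
    · rintro ⟨v, hv, rfl⟩
      refine ⟨k.left v, hv, ?_⟩
      have e1 : AlgSt.Points.ofChart (BasedFunctor.comp (BasedFunctor.comp E (FibCat.fpSnd z x)) x) v =
          AlgSt.Points.ofChart (BasedFunctor.comp (BasedFunctor.comp E (FibCat.fpFst z x)) z) v :=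
        (ofChart_congr (wL E (FibCat.fpIso z x)) v).symm
      rw [ofChart_comp, ofChart_comp (BasedFunctor.comp E (FibCat.fpFst z x)), ofChart_comp E,
        ofChart_comp E, hsnd, hfst] at e1
      exact e1
  rw [this]
  exact h.left.isOpenMap _ (hO.preimage k.left.continuous)

theorem isOpenMap_ofChart {U : Over S} {x : FibCat.overCat U ⥤ᵇ 𝒳}
    (hx₁ : AlgSt.RepByAlgSpWith (LocP @Flat) x)
    (hx₂ : AlgSt.RepByAlgSpWith (LocP @LocallyOfFinitePresentation) x) :
    IsOpenMap (AlgSt.Points.ofChart x) := fun _ hO U' z _ => isOpen_preimage_image hx₁ hx₂ z hO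

theorem isOpenMap_ofChart_of_smooth {U : Over S} {x : FibCat.overCat U ⥤ᵇ 𝒳}
    (hx : AlgSt.RepByAlgSpWith (LocP @Smooth) x) : IsOpenMap (AlgSt.Points.ofChart x) :=
  isOpenMap_ofChart
    (repByAlgSpWith_mono (fun _ _ _ _ _ h U V p q k hp hq e =>
      (haveI : Smooth k.left := h p q k hp hq e; inferInstance)) hx)
    (repByAlgSpWith_mono (fun _ _ _ _ _ h U V p q k hp hq e =>
      (haveI : Smooth k.left := h p q k hp hq e; inferInstance)) hx)

/-- Base changes of representable surjective morphisms are surjective on scheme points. -/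
theorem surjective_chart {U : Over S} {x : FibCat.overCat U ⥤ᵇ 𝒳}
    (hx : AlgSt.RepByAlgSpWith IsSurjectiveMor x) : Function.Surjective (AlgSt.Points.ofChart x) := by
  intro z
  obtain ⟨V, y, t, rfl⟩ := exists_ofChart z
  obtain ⟨hs, hA, W, p, E, h, hpe, hps, hcomp, hfst, -⟩ := exists_chart_points x (repByAlgSp1_of_with hx) y
  obtain ⟨_, _, hP⟩ := (repByAlgSpWith_iff.1 hx).2 V y
  haveI : Surjective h.left := surjective_left_of_map (by
    rw [← hcomp, show AlgSp.Points.map (p ≫ _) = AlgSp.Points.map _ ∘ AlgSp.Points.map p from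
      funext (AlgSp.Points.map_comp p _)]
    exact hP.comp (surjective_map_of_repWith hps))
  obtain ⟨w, rfl⟩ := h.left.surjective t
  obtain ⟨k, ⟨β⟩⟩ := exists_overMap (BasedFunctor.comp E (FibCat.fpSnd y x))
  refine ⟨k.left w, ?_⟩
  rw [← ofChart_overMap k, ← ofChart_congr (wR β x), ← ofChart_overMap h]
  have := congrArg (AlgSt.Points.map y) (hfst w)
  rw [← ofChart_comp, ← ofChart_comp, ofChart_comp, ← ofChart_comp] at this
  exact (ofChart_congr (wL E (FibCat.fpIso y x)) w).symm.trans (this.trans (ofChart_overMap h y w).symm)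

/-- Preimages of open sets under all maps from schemes are open. -/
theorem continuous_ofChart {V : Over S} {y : FibCat.overCat V ⥤ᵇ 𝒳} (hy : AlgSt.RepByAlgSpWith (LocP @Smooth) y)
    (hys : AlgSt.RepByAlgSpWith IsSurjectiveMor y) {U : Over S} (z : FibCat.overCat U ⥤ᵇ 𝒳) :
    Continuous (AlgSt.Points.ofChart z) := by
  obtain ⟨W, l, hl, hls, u, φ, hφ⟩ := exists_lift_atlas hy hys z
  haveI := hl
  haveI := hls
  refine continuous_def.2 fun O hO => ?_
  have e : ∀ w, AlgSt.Points.ofChart z (l.left w) = AlgSt.Points.ofChart y (u.left w) := fun w => by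
    rw [← ofChart_overMap l, ← ofChart_overMap u]
    refine ofChart_congr (funIso (y := BasedFunctor.comp (AlgSt.overMap l) z)
      (y' := BasedFunctor.comp (AlgSt.overMap u) y)
      (z.map (ovHom (𝟙 W) rfl : ov (𝟙 W ≫ l) ⟶ ov l) ≫ φ ≫
        y.map (ovHom (𝟙 W) (by simp) : ov u ⟶ ov (𝟙 W ≫ u))) ?_) w
    simp [map_w, hφ, ov_p_map]
    erw [Category.id_comp, Category.id_comp]
    exact eqToHom_trans _ _
  have : AlgSt.Points.ofChart z ⁻¹' O = l.left '' (u.left ⁻¹' (AlgSt.Points.ofChart y ⁻¹' O)) := by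
    ext t
    constructor
    · intro ht
      obtain ⟨w, rfl⟩ := l.left.surjective t
      exact ⟨w, by simpa [e] using ht, rfl⟩
    · rintro ⟨w, hw, rfl⟩
      simpa [e] using hw
  rw [this]
  exact l.left.isOpenMap _ ((hO V y hy).preimage u.left.continuous)

theorem continuous_map {V : Over S} {y : FibCat.overCat V ⥤ᵇ 𝒴} (hy : AlgSt.RepByAlgSpWith (LocP @Smooth) y)
    (hys : AlgSt.RepByAlgSpWith IsSurjectiveMor y) (f : 𝒳 ⥤ᵇ 𝒴) : Continuous (AlgSt.Points.map f) :=
  continuous_def.2 fun _ hO _ x _ => hO.preimage (continuous_ofChart hy hys (BasedFunctor.comp x f))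

/-- Representable morphisms surjective on points are surjective on the fibres. -/
theorem repByAlgSpWith_surjective_of_isSurjective {f : 𝒳 ⥤ᵇ 𝒴} (hf : AlgSt.RepByAlgSp1 f)
    (h : AlgSt.IsSurjective f) : AlgSt.RepByAlgSpWith IsSurjectiveMor f := by
  refine repByAlgSpWith_iff.2 ⟨faithful_of_repByAlgSp1 hf, fun V y => ?_⟩
  obtain ⟨hs, hA, W, p, E, k, hpe, hps, hcomp, hfst, hsurj⟩ := exists_chart_points f hf y
  refine ⟨hs, hA, fun z => ?_⟩
  obtain ⟨v, rfl⟩ := (AlgSp.Points.schemeHomeo V).surjective z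
  obtain ⟨c, hc⟩ := isSurjective_fpFst y h (AlgSt.Points.ofChart (BasedFunctor.id (FibCat.overCat V)) v)
  obtain ⟨w, rfl⟩ := hsurj c
  rw [hfst] at hc
  obtain rfl := injective_ofChart_id V hc
  refine ⟨AlgSp.Points.map p (AlgSp.Points.schemeHomeo W w), ?_⟩
  rw [← AlgSp.Points.map_comp, hcomp, AlgSp.Points.map_yon_map_apply]

theorem isSurjective_of_repByAlgSpWith {f : 𝒳 ⥤ᵇ 𝒴} (hf : AlgSt.RepByAlgSpWith IsSurjectiveMor f) :
    AlgSt.IsSurjective f := by
  intro z
  obtain ⟨V, y, t, rfl⟩ := exists_ofChart z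
  obtain ⟨hs, hA, W, p, E, h, hpe, hps, hcomp, hfst, -⟩ := exists_chart_points f (repByAlgSp1_of_with hf) y
  obtain ⟨_, _, hP⟩ := (repByAlgSpWith_iff.1 hf).2 V y
  haveI : Surjective h.left := surjective_left_of_map (by
    rw [← hcomp, show AlgSp.Points.map (p ≫ _) = AlgSp.Points.map _ ∘ AlgSp.Points.map p from
      funext (AlgSp.Points.map_comp p _)]
    exact hP.comp (surjective_map_of_repWith hps))
  obtain ⟨w, rfl⟩ := h.left.surjective t
  refine ⟨AlgSt.Points.map (FibCat.fpSnd y f) (AlgSt.Points.ofChart E w), ?_⟩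
  rw [← ofChart_comp, ← ofChart_comp]
  refine (ofChart_congr (wL E (FibCat.fpIso y f)) w).symm.trans ?_
  change AlgSt.Points.map y (AlgSt.Points.map (FibCat.fpFst y f) (AlgSt.Points.ofChart E w)) = _
  rw [hfst]
  rfl

end Groth.Agent.ASt
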