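import Groth.Agent.ASt.DiagLft
import Groth.Agent.ASt.PtsTop
/-!
Morphisms of schemes as representable morphisms.
-/

set_option backward.isDefEq.respectTransparency false
set_option backward.isDefEq.respectTransparency.types false
set_option linter.unusedSectionVars false

universe u

open CategoryTheory CategoryTheory.Limits AlgebraicGeometry Opposite

namespace Groth.Agent.ASt

open _root_.AlgSp Groth.Agent.ASp

variable {S : Scheme.{u}} {A B T : Over S}

/-- The classes of a slice as points of the scheme. -/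
noncomputable def overClHom (A : Over S) : Cl (FibCat.overCat A) ⟶ (pyon S).obj A where
  app V := ↾(fun c => ⟨overHom c⟩)
  naturality {V W} g := by ext c; exact congrArg ULift.up (overHom_clMap g.unop c)

/-- The second coordinate of a point of a fibre product of slices. -/
noncomputable def fibSnd (k : T ⟶ B) (σ : A ⟶ B) :
    fib (AlgSt.overMap k) (AlgSt.overMap σ) ⟶ (pyon S).obj A :=
  clFun (FibCat.fpSnd (AlgSt.overMap k) (AlgSt.overMap σ)) ≫ overClHom A

theorem fibSnd_fpEl (k : T ⟶ B) (σ : A ⟶ B) {V : Over S} (j : V ⟶ T) (a : V ⟶ A)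
    (φ : (AlgSt.overMap k).obj (ov j) ⟶ (AlgSt.overMap σ).obj (ov a)) (hφ) :
    (fibSnd k σ).app (op V) (fpEl j (ov a) rfl φ hφ) = ⟨a⟩ := congrArg ULift.up (overHom_mk a)

theorem fpEl_overMap_exists {k : T ⟶ B} {σ : A ⟶ B} {V : Over S}
    (c : ClType (FibCat.fp (AlgSt.overMap k) (AlgSt.overMap σ)) V) :
    ∃ (j : V ⟶ T) (a : V ⟶ A) (e : j ≫ k = a ≫ σ),
      c = fpEl j (ov a) rfl (ovHom (𝟙 V) (by simp [e]) : ov (j ≫ k) ⟶ ov (a ≫ σ)) rfl := by
  obtain ⟨j, x, hx, φ, hφ, rfl⟩ := fpEl_exists c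
  obtain ⟨xl, ⟨⟨⟩⟩, a⟩ := x
  obtain rfl : xl = V := hx
  have h1 : φ.left = 𝟙 _ := hφ
  have h2 : φ.left ≫ a ≫ σ = j ≫ k := Over.w φ
  rw [h1, Category.id_comp] at h2
  exact ⟨j, a, h2.symm, fpEl_eq_iff.2 ⟨𝟙 _, rfl, Over.OverMorphism.ext (by simp [h1]; rfl)⟩⟩

theorem isPullback_overMap (k : T ⟶ B) (σ : A ⟶ B) :
    IsPullback (fibSnd k σ) (fibπ (AlgSt.overMap k) (AlgSt.overMap σ)) ((pyon S).map σ) ((pyon S).map k) := by
  refine isPullback_of_pointwise ?_ (fun V c c' e1 e2 => ?_) (fun V b d e => ?_)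
  · ext V c
    obtain ⟨j, a, h, rfl⟩ := fpEl_overMap_exists (V := V.unop) c
    refine congrArg ULift.up ?_
    change overHom (cl (ov a) rfl) ≫ σ = overHom (cl (ov j) rfl) ≫ k
    rw [overHom_mk, overHom_mk, h]
  · obtain ⟨j, a, h, rfl⟩ := fpEl_overMap_exists c
    obtain ⟨j', a', h', rfl⟩ := fpEl_overMap_exists c'
    obtain rfl : a = a' := congrArg ULift.down
      ((fibSnd_fpEl k σ j a _ _).symm.trans (e1.trans (fibSnd_fpEl k σ j' a' _ _)))
    obtain rfl : j = j' :=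
      (overHom_mk j).symm.trans ((congrArg ULift.down e2).trans (overHom_mk j'))
    rfl
  · obtain ⟨a⟩ := b
    obtain ⟨j⟩ := d
    have h : j ≫ k = a ≫ σ := (congrArg ULift.down e).symm
    exact ⟨fpEl (y := AlgSt.overMap k) (f := AlgSt.overMap σ) j (ov a) rfl
      (ovHom (𝟙 V) (by simp [h]) : ov (j ≫ k) ⟶ ov (a ≫ σ)) rfl,
      fibSnd_fpEl k σ j a _ _, congrArg ULift.up (overHom_mk j)⟩

/-- Morphisms of schemes are representable. -/
theorem repByAlgSpWith_overMap {P : MorphismProperty (Sp S)} [P.RespectsIso] {σ : A ⟶ B}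
    (hP : ∀ {T W : Over S} (k : T ⟶ B) (a : W ⟶ A) (b : W ⟶ T), IsPullback a b σ k → P ((yon S).map b)) :
    AlgSt.RepByAlgSpWith P (AlgSt.overMap σ) := by
  refine repByAlgSpWith_iff.2 ⟨⟨fun {_ _} a b e => Over.OverMorphism.ext (congrArg CommaMorphism.left e :)⟩, fun T y => ?_⟩
  obtain ⟨k, ⟨α⟩⟩ := exists_overMap y
  refine fibHas_congr α.symm ?_
  have sqO : IsPullback (pullback.fst σ k) (pullback.snd σ k) σ k := IsPullback.of_hasPullback σ k
  have sq := ((sqO.map (yon S))).map (sheafToPresheaf (J S) (Type (u + 1)))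
  let i := sq.isoIsPullback _ _ (isPullback_overMap k σ)
  obtain ⟨hs, hA⟩ := ((isAlgSpaceP_obj_iff _).2 (IsAlgSpace.yon_obj (pullback σ k))).of_iso i
  obtain ⟨j⟩ := arrowIso_of_hom (a := (yon S).map (pullback.snd σ k))
    (b := (ObjectProperty.homMk (fibπ (AlgSt.overMap k) (AlgSt.overMap σ)) :
      (⟨fib (AlgSt.overMap k) (AlgSt.overMap σ), hs⟩ : Sp S) ⟶ (yon S).obj T))
    i (IsPullback.isoIsPullback_hom_snd _ _ _ _).symm
  exact ⟨hs, hA, (P.arrow_mk_iso_iff j).1 (hP k _ _ sqO)⟩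

theorem repByAlgSpWith_overMap_locP {M : MorphismProperty Scheme.{u}} [IsEtLocal M] {σ : A ⟶ B} (h : M σ.left) : AlgSt.RepByAlgSpWith (LocP M) (AlgSt.overMap σ) :=
  repByAlgSpWith_overMap fun _ _ _ sq => locP_of_repWith (repWith_yon_map
    (MorphismProperty.of_isPullback (sq.map (Over.forget S)) h))

end Groth.Agent.ASt
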