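import Groth.Agent.ASt.StQc
import Groth.Agent.ASt.StkAlg
import Groth.Agent.ASt.OverMapRep
import Groth.Agent.ASt.DiagRep
/-!
Open substacks and open sets of points.
-/

set_option backward.isDefEq.respectTransparency false
set_option backward.isDefEq.respectTransparency.types false
set_option linter.unusedSectionVars false

universe u

open CategoryTheory CategoryTheory.Limits AlgebraicGeometry Opposite Topology

namespace Groth.Agent.ASt

open _root_.AlgSp Groth.Agent.ASp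

variable {S : Scheme.{u}} {𝒳 : AlgSt.Cat S} [h𝒳 : FibCat.IsFibGrpd 𝒳.p]

theorem isFibGrpd_fullSub_of_pull {Q : 𝒳.obj → Prop} (hQ : ∀ {x' x : 𝒳.obj} (_ : x' ⟶ x), Q x → Q x') :
    FibCat.IsFibGrpd (AlgSt.fullSub 𝒳 Q).p where
  exists_lift {x V} f := by
    obtain ⟨y, φ, hφ⟩ := h𝒳.exists_lift (x := x.1) f
    refine ⟨⟨y, hQ φ x.2⟩, ObjectProperty.homMk φ, ?_⟩
    exact IsHomLift.of_fac' _ f _ (IsHomLift.domain_eq 𝒳.p f φ :) rfl (IsHomLift.fac' 𝒳.p f φ :)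
  isStronglyCartesian {y x} φ := by
    haveI : (AlgSt.fullSub 𝒳 Q).p.IsHomLift ((AlgSt.fullSub 𝒳 Q).p.map φ) φ := IsHomLift.map _ φ
    refine ⟨fun {z} g ψ hψ => ?_⟩
    have e : g ≫ 𝒳.p.map φ.hom = 𝒳.p.map ψ.hom := by
      have := IsHomLift.eq_of_isHomLift (AlgSt.fullSub 𝒳 Q).p (g ≫ (AlgSt.fullSub 𝒳 Q).p.map φ) ψ
      exact this
    obtain ⟨χ, ⟨h1, h2⟩, h3⟩ := existsUnique_fac φ.hom ψ.hom g e
    refine ⟨ObjectProperty.homMk χ, ⟨?_, ObjectProperty.hom_ext _ h2⟩, fun χ' hχ' => ObjectProperty.hom_ext _ (h3 χ'.hom ⟨?_, ?_⟩)⟩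
    · exact IsHomLift.of_fac' _ g _ rfl rfl (by simp; exact h1)
    · haveI := hχ'.1
      exact (IsHomLift.eq_of_isHomLift (AlgSt.fullSub 𝒳 Q).p g χ').symm
    · exact congrArg (fun m => m.hom) hχ'.2

instance faithful_subIncl (Q : 𝒳.obj → Prop) : (AlgSt.subIncl 𝒳 Q).toFunctor.Faithful :=
  inferInstanceAs (ObjectProperty.ι Q).Faithful

theorem pull_closed {Q : 𝒳.obj → Prop} (hiso : ObjectProperty.IsClosedUnderIsomorphisms Q)
    (hg : FibCat.IsFibGrpd (AlgSt.fullSub 𝒳 Q).p) {x' x : 𝒳.obj} (a : x' ⟶ x) (hx : Q x) : Q x' := by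
  obtain ⟨w, m, hm⟩ := hg.exists_lift (x := ⟨x, hx⟩) (𝒳.p.map a)
  have hw : 𝒳.p.obj w.1 = 𝒳.p.obj x' := IsHomLift.domain_eq (AlgSt.fullSub 𝒳 Q).p (𝒳.p.map a) m
  let c := facMap a m.hom (eqToHom hw) (by
    have h := IsHomLift.fac' (AlgSt.fullSub 𝒳 Q).p (𝒳.p.map a) m
    simp at h
    exact h.symm)
  haveI : IsIso c := isIso_of_vert c (map_facMap _ _ _ _)
  exact hiso.of_iso (asIso c) w.2

theorem ofChart_objFun_hom {x' x : 𝒳.obj} {T' T : Over S} (hx' : 𝒳.p.obj x' = T') (hx : 𝒳.p.obj x = T)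
    (a : x' ⟶ x) (g : T' ⟶ T) (hg : 𝒳.p.map a = eqToHom hx' ≫ g ≫ eqToHom hx.symm) (t : ↥T'.left) :
    AlgSt.Points.ofChart (objFun x' hx') t = AlgSt.Points.ofChart (objFun x hx) (g.left t) := by
  rw [← ofChart_overMap g]
  refine ofChart_congr (funIso (y := objFun x' hx') (y' := BasedFunctor.comp (AlgSt.overMap g) (objFun x hx))
    (facMap (pullHom x hx (𝟙 T' ≫ g)) (pullHom x' hx' (𝟙 T') ≫ a)
      (eqToHom ((pull_base x' hx' (𝟙 T')).trans (pull_base x hx (𝟙 T' ≫ g)).symm))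
      (by simp [map_pullHom, hg])) (map_facMap _ _ _ _)) t

/-- A chart is the one given by its value at the vertex. -/
theorem ofChart_objFun_vertex {U : Over S} (y : FibCat.overCat U ⥤ᵇ 𝒳) (t : ↥U.left) :
    AlgSt.Points.ofChart (objFun (y.obj (ov (𝟙 U))) (y.w_obj _)) t = AlgSt.Points.ofChart y t :=
  ofChart_congr (funIso (y := objFun (y.obj (ov (𝟙 U))) (y.w_obj _)) (y' := y)
    (pullHom (y.obj (ov (𝟙 U))) (y.w_obj _) (𝟙 U)) ((map_pullHom _ _ _).trans ((congrArg (eqToHom _ ≫ ·) (Category.id_comp _)).trans (eqToHom_trans _ _)))) t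

variable (O : Set (AlgSt.Points 𝒳))

/-- The objects all whose points lie in a given set. -/
def InOpen (x : 𝒳.obj) : Prop :=
  ∀ t : ↥(𝒳.p.obj x).left, AlgSt.Points.ofChart (objFun x rfl) t ∈ O

theorem inOpen_iff {x : 𝒳.obj} {T : Over S} (hx : 𝒳.p.obj x = T) :
    InOpen O x ↔ ∀ t : ↥T.left, AlgSt.Points.ofChart (objFun x hx) t ∈ O := by
  subst hx; rfl

theorem inOpen_chart_iff {U T : Over S} (y : FibCat.overCat U ⥤ᵇ 𝒳) (k : T ⟶ U) :
    InOpen O (y.obj (ov k)) ↔ ∀ t : ↥T.left, AlgSt.Points.ofChart y (k.left t) ∈ O := by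
  rw [inOpen_iff O ((y.w_obj (ov k)).trans (ov_base k))]
  refine forall_congr' fun t => ?_
  rw [ofChart_objFun_hom _ (y.w_obj (ov (𝟙 U))) (y.map (toTop (ov k))) k (map_toTop y _),
    ofChart_objFun_vertex]
  rfl

theorem inOpen_pull {x' x : 𝒳.obj} (a : x' ⟶ x) (h : InOpen O x) : InOpen O x' := fun t => by
  rw [ofChart_objFun_hom rfl rfl a (𝒳.p.map a) (by simp)]
  exact h _

theorem isClosedUnderIsomorphisms_inOpen : ObjectProperty.IsClosedUnderIsomorphisms (InOpen O) :=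
  ⟨fun e h => inOpen_pull O e.inv h⟩

theorem range_subIncl_inOpen : Set.range (AlgSt.Points.map (AlgSt.subIncl 𝒳 (InOpen O))) = O := by
  have key : ∀ p : AlgSt.FPt 𝒳, AlgSt.Points.mk p =
      AlgSt.Points.ofChart (objFun p.obj p.lies) (default : ↥(Spec (CommRingCat.of p.K))) := fun p =>
    mk_eq_ofChart p _ (𝟙 _) (pullHom p.obj p.lies (𝟙 _)) _
  apply Set.Subset.antisymm
  · rintro _ ⟨z, rfl⟩
    obtain ⟨p, rfl⟩ := AlgSt.Points.mk_surjective z
    rw [AlgSt.Points.map_mk, key]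
    exact (inOpen_iff O (p.map (AlgSt.subIncl 𝒳 (InOpen O))).lies).1 p.obj.2 _
  · intro z hz
    obtain ⟨p, rfl⟩ := AlgSt.Points.mk_surjective z
    have hq : InOpen O p.obj := (inOpen_iff O p.lies).2 fun t => by
      rw [(Subsingleton.elim (α := ↥(Spec (CommRingCat.of p.K))) t default : t = (default : ↥(Spec (CommRingCat.of p.K)))), ← key]
      exact hz
    exact ⟨AlgSt.Points.mk { K := p.K, str := p.str, obj := ⟨p.obj, hq⟩, lies := p.lies }, rfl⟩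

theorem repByAlgSpWith_subIncl_inOpen (hX : AlgSt.IsAlgStack Scheme.fppfPrecoverage 𝒳) (hO : IsOpen O) :
    AlgSt.IsOpenImm (AlgSt.subIncl 𝒳 (InOpen O)) := by
  haveI := isFibGrpd_fullSub_of_pull (Q := InOpen O) (inOpen_pull O)
  haveI : (AlgSt.subIncl 𝒳 (InOpen O)).toFunctor.Faithful := faithful_subIncl _
  refine repByAlgSpWith_iff.2 ⟨inferInstance, fun U y => ?_⟩
  haveI : FibCat.IsFibGrpd (FibCat.fp y (AlgSt.subIncl 𝒳 (InOpen O))).p := isFibGrpd_fp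
  let V₀ : U.left.Opens := ⟨AlgSt.Points.ofChart y ⁻¹' O, hO.preimage (continuous_ofChart_stack hX y)⟩
  let V : Over S := Over.mk (V₀.ι ≫ U.hom)
  let i : V ⟶ U := Over.homMk V₀.ι rfl
  have hi : InOpen O (y.obj (ov i)) := (inOpen_chart_iff O y i).2 fun t => t.2
  let c₀ : ClType (FibCat.fp y (AlgSt.subIncl 𝒳 (InOpen O))) V :=
    fpEl (f := AlgSt.subIncl 𝒳 (InOpen O)) i ⟨y.obj (ov i), hi⟩ ((y.w_obj (ov i)).trans (ov_base i)) (𝟙 _)
      (by simp)
  have hinj : ∀ T, Function.Injective (fpHom : ClType (FibCat.fp y (AlgSt.subIncl 𝒳 (InOpen O))) T → (T ⟶ U)) := by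
    intro T c c' e
    obtain ⟨k, x, hx, φ, hφ, rfl⟩ := fpEl_exists c
    obtain ⟨k', x', hx', φ', hφ', rfl⟩ := fpEl_exists c'
    obtain rfl : k = k' := (fpHom_fpEl _ _ _ _ _).symm.trans (e.trans (fpHom_fpEl _ _ _ _ _))
    haveI : IsIso φ := isIso_of_vert φ hφ
    refine fpEl_eq_iff.2 ⟨ObjectProperty.homMk (inv φ ≫ φ'), ?_, ?_⟩
    · change 𝒳.p.map (inv φ ≫ φ') = _
      rw [Functor.map_comp, Functor.map_inv]
      simp [hφ, hφ']
    · change φ ≫ inv φ ≫ φ' = φ'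
      simp
  have hc₀ : fpHom c₀ = i := fpHom_fpEl _ _ _ _ _
  haveI : Mono i.left := inferInstanceAs (Mono V₀.ι)
  haveI : IsIso (uliftYonedaEquiv.{u + 1}.symm c₀ :
      (pyon S).obj V ⟶ fib y (AlgSt.subIncl 𝒳 (InOpen O))) := isIso_secHomP (F := fib y (AlgSt.subIncl 𝒳 (InOpen O))) c₀ fun T => by
    refine ⟨fun a b e => ?_, fun c => ?_⟩
    · have h := congrArg fpHom (show clMap a c₀ = clMap b c₀ from e)
      rw [fpHom_clMap, fpHom_clMap, hc₀] at h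
      exact Over.OverMorphism.ext ((cancel_mono i.left).1 (by rw [← Over.comp_left, h, Over.comp_left]))
    · obtain ⟨k, x, hx, φ, hφ, rfl⟩ := fpEl_exists c
      haveI : IsIso φ := isIso_of_vert φ hφ
      have hr : Set.range k.left ⊆ Set.range V₀.ι := by
        rw [Scheme.Opens.range_ι]
        rintro _ ⟨t, rfl⟩
        exact (inOpen_chart_iff O y k).1 (inOpen_pull O φ x.2) t
      let l : T ⟶ V := Over.homMk (IsOpenImmersion.lift V₀.ι k.left hr) (by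
        change _ ≫ V₀.ι ≫ U.hom = T.hom
        rw [IsOpenImmersion.lift_fac_assoc]
        exact Over.w k)
      refine ⟨l, hinj T ?_⟩
      change fpHom (clMap l c₀) = _
      rw [fpHom_clMap, hc₀, fpHom_fpEl]
      exact Over.OverMorphism.ext (IsOpenImmersion.lift_fac _ _ _)
  let e := asIso (uliftYonedaEquiv.{u + 1}.symm c₀ :
      (pyon S).obj V ⟶ fib y (AlgSt.subIncl 𝒳 (InOpen O)))
  obtain ⟨hs, hA⟩ := ((isAlgSpaceP_obj_iff ((yon S).obj V)).2 (IsAlgSpace.yon_obj V)).of_iso e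
  obtain ⟨j⟩ := arrowIso_of_hom (a := (yon S).map i)
    (b := (ObjectProperty.homMk (fibπ y (AlgSt.subIncl 𝒳 (InOpen O))) :
      (⟨fib y (AlgSt.subIncl 𝒳 (InOpen O)), hs⟩ : Sp S) ⟶ (yon S).obj U)) e (by
      ext T k
      refine congrArg ULift.up ?_
      change k.down ≫ i = fpHom ((fib y (AlgSt.subIncl 𝒳 (InOpen O))).map k.down.op c₀)
      rw [show (fib y (AlgSt.subIncl 𝒳 (InOpen O))).map k.down.op c₀ = clMap k.down c₀ from rfl, fpHom_clMap, hc₀])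
  exact ⟨hs, hA, ((RepWith @IsOpenImmersion : MorphismProperty (Sp S)).arrow_mk_iso_iff j).1
    (repWith_yon_map (inferInstanceAs (IsOpenImmersion V₀.ι)))⟩

/-- Every open set of points cuts out an open substack. -/
theorem isOpenSubstack_inOpen (hX : AlgSt.IsAlgStack Scheme.fppfPrecoverage 𝒳) (hO : IsOpen O) :
    AlgSt.IsOpenSubstack 𝒳 (InOpen O) Scheme.fppfPrecoverage := by
  haveI := isFibGrpd_fullSub_of_pull (Q := InOpen O) (inOpen_pull O)
  have h := repByAlgSpWith_subIncl_inOpen O hX hO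
  exact ⟨isClosedUnderIsomorphisms_inOpen O, isAlgStack_of_repByAlgSp1 hX (repByAlgSp1_of_with h), h⟩

variable {O} {Q : 𝒳.obj → Prop}

/-- The charts of an open substack are open subschemes. -/
theorem exists_openSubstack_chart (hQ : AlgSt.IsOpenSubstack 𝒳 Q Scheme.fppfPrecoverage)
    {U : Over S} (y : FibCat.overCat U ⥤ᵇ 𝒳) :
    ∃ (Z : Over S) (h : Z ⟶ U), IsOpenImmersion h.left ∧
      ∀ {T : Over S} (k : T ⟶ U), Q (y.obj (ov k)) ↔ ∃ m : T ⟶ Z, m ≫ h = k := by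
  obtain ⟨hiso, hA', him⟩ := hQ
  haveI := hA'.isStack.1
  haveI : FibCat.IsFibGrpd (FibCat.fp y (AlgSt.subIncl 𝒳 Q)).p := isFibGrpd_fp
  obtain ⟨hs, hA, hπ⟩ := (repByAlgSpWith_iff.1 him).2 U y
  have sq := hπ.1.isPullback (𝟙 ((yon S).obj U))
  have hopen : IsOpenImmersion (hπ.1.snd (𝟙 ((yon S).obj U))).left := hπ.2 _ _ _ sq
  generalize hπ.1.snd (𝟙 ((yon S).obj U)) = h at sq hopen
  generalize hπ.1.fst (𝟙 ((yon S).obj U)) = p at sq
  haveI : IsIso p := sq.isIso_fst_of_isIso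
  have hw : ∀ (T : Over S) (m : T ⟶ _),
      fpHom (p.hom.app (op T) ⟨m⟩ : ClType (FibCat.fp y (AlgSt.subIncl 𝒳 Q)) T) = m ≫ h := fun T m => by
    have h1 := ConcreteCategory.congr_hom (NatTrans.congr_app (congrArg InducedCategory.Hom.hom sq.w) (op T)) ⟨m⟩
    exact congrArg ULift.down h1
  refine ⟨_, h, hopen, fun {T} k => ⟨fun hk => ?_, ?_⟩⟩
  · let c : ClType (FibCat.fp y (AlgSt.subIncl 𝒳 Q)) T :=
      fpEl (f := AlgSt.subIncl 𝒳 Q) k ⟨y.obj (ov k), hk⟩ ((y.w_obj (ov k)).trans (ov_base k)) (𝟙 _)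
        (by simp)
    obtain ⟨⟨m⟩, hm⟩ : ∃ m, p.hom.app (op T) m = c := ((isIso_iff_bijective _).1
      (inferInstanceAs (IsIso (((sheafToPresheaf _ _).map p).app (op T))))).2 c
    exact ⟨m, by rw [← hw T m, hm]; exact fpHom_fpEl _ _ _ _ _⟩
  · rintro ⟨m, hm⟩
    obtain ⟨k', x, hx, φ, hφ, he⟩ := fpEl_exists (p.hom.app (op T) ⟨m⟩ : ClType (FibCat.fp y (AlgSt.subIncl 𝒳 Q)) T)
    obtain rfl : k' = k := by rw [← hm, ← hw T m, he, fpHom_fpEl]
    haveI : IsIso φ := isIso_of_vert φ hφ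
    exact hiso.of_iso (asIso φ).symm x.2

theorem preimage_range_eq (hQ : AlgSt.IsOpenSubstack 𝒳 Q Scheme.fppfPrecoverage) {U Z : Over S}
    (y : FibCat.overCat U ⥤ᵇ 𝒳) (h : Z ⟶ U) [IsOpenImmersion h.left]
    (hh : ∀ {T : Over S} (k : T ⟶ U), Q (y.obj (ov k)) ↔ ∃ m : T ⟶ Z, m ≫ h = k) :
    AlgSt.Points.ofChart y ⁻¹' Set.range (AlgSt.Points.map (AlgSt.subIncl 𝒳 Q)) = Set.range h.left := by
  haveI := hQ.2.1.isStack.1
  ext t
  constructor
  · rintro ⟨z, hz⟩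
    obtain ⟨q, rfl⟩ := AlgSt.Points.mk_surjective z
    obtain ⟨r, a, b, -⟩ := mk_eq_mk_iff.1 hz
    have hr : Q r.obj := pull_closed hQ.1 hQ.2.1.isStack.1 a q.obj.2
    let b' : r.obj ⟶ y.obj (ov (rHom U t)) := b
    let b'' : r.obj ⟶ y.obj (ov (𝟙 U)) := b' ≫ y.map (toTop (ov (rHom U t)))
    let k : Over.mk r.str ⟶ U := eqToHom r.lies.symm ≫ 𝒳.p.map b'' ≫ eqToHom (y.w_obj (ov (𝟙 U)))
    let c := facMap (y.map (toTop (ov k))) b'' (eqToHom (r.lies.trans (y.w_obj (ov k)).symm)) (by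
      rw [map_toTop]; simp [k])
    haveI : IsIso c := isIso_of_vert c (map_facMap _ _ _ _)
    obtain ⟨m, hm⟩ := (hh k).1 (hQ.1.of_iso (asIso c) hr)
    refine ⟨m.left (default : ↥(Spec (CommRingCat.of r.K))), ?_⟩
    rw [← Scheme.Hom.comp_apply, ← Over.comp_left, hm]
    have hk : k = (eqToHom r.lies.symm ≫ 𝒳.p.map b' ≫ eqToHom (y.w_obj (ov (rHom U t)))) ≫ rHom U t := by
      simp [k, b'', map_toTop]
    rw [hk, Over.comp_left, Scheme.Hom.comp_apply]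
    exact Scheme.fromSpecResidueField_apply t _
  · rintro ⟨s, rfl⟩
    have hs : Q (y.obj (ov (rHom Z s ≫ h))) := (hh _).2 ⟨_, rfl⟩
    exact ⟨AlgSt.Points.mk { K := Z.left.residueField s, str := Z.left.fromSpecResidueField s ≫ Z.hom,
                              obj := ⟨_, hs⟩, lies := y.w_obj _ }, ofChart_overMap h y s⟩

theorem isOpen_range_subIncl (hQ : AlgSt.IsOpenSubstack 𝒳 Q Scheme.fppfPrecoverage) :
    IsOpen (Set.range (AlgSt.Points.map (AlgSt.subIncl 𝒳 Q))) := fun U y _ => by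
  obtain ⟨Z, h, hh, hh'⟩ := exists_openSubstack_chart hQ y
  rw [preimage_range_eq hQ y h hh']
  exact h.left.isOpenEmbedding.isOpen_range

theorem eq_inOpen_range (hQ : AlgSt.IsOpenSubstack 𝒳 Q Scheme.fppfPrecoverage) :
    Q = InOpen (Set.range (AlgSt.Points.map (AlgSt.subIncl 𝒳 Q))) := by
  funext x
  apply propext
  let y := objFun x (rfl : 𝒳.p.obj x = 𝒳.p.obj x)
  obtain ⟨Z, h, hh, hh'⟩ := exists_openSubstack_chart hQ y
  have e := preimage_range_eq hQ y h hh'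
  constructor
  · intro hx t
    obtain ⟨m, hm⟩ := (hh' (𝟙 _)).1 (pull_closed hQ.1 hQ.2.1.isStack.1 (pullHom x rfl (𝟙 _)) hx)
    exact (Set.ext_iff.1 e t).2 ⟨m.left t, by rw [← Scheme.Hom.comp_apply, ← Over.comp_left, hm]; rfl⟩
  · intro hx
    haveI : Surjective h.left := ⟨fun t => by
      have := hx t
      exact (Set.ext_iff.1 e t).1 this⟩
    haveI : Epi h.left.base := (TopCat.epi_iff_surjective _).2 h.left.surjective
    haveI : IsIso h.left := IsOpenImmersion.isIso h.left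
    haveI : IsIso ((Over.forget S).map h) := inferInstanceAs (IsIso h.left)
    haveI : IsIso h := isIso_of_reflects_iso h (Over.forget S)
    haveI : IsIso (pullHom x (rfl : 𝒳.p.obj x = _) (𝟙 (𝒳.p.obj x))) := by
      have : IsIso (𝒳.p.map (pullHom x (rfl : 𝒳.p.obj x = _) (𝟙 (𝒳.p.obj x)))) := by
        rw [map_pullHom]; infer_instance
      exact isIso_of_isIso_map _
    exact hQ.1.of_iso (asIso (pullHom x (rfl : 𝒳.p.obj x = _) (𝟙 (𝒳.p.obj x))))
      ((hh' (𝟙 _)).2 ⟨inv h, IsIso.inv_hom_id h⟩)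

theorem openSubstack_le_iff {Q' : 𝒳.obj → Prop} (hQ : AlgSt.IsOpenSubstack 𝒳 Q Scheme.fppfPrecoverage)
    (hQ' : AlgSt.IsOpenSubstack 𝒳 Q' Scheme.fppfPrecoverage) :
    (∀ y, Q y → Q' y) ↔
      Set.range (AlgSt.Points.map (AlgSt.subIncl 𝒳 Q)) ⊆ Set.range (AlgSt.Points.map (AlgSt.subIncl 𝒳 Q')) := by
  refine ⟨fun h => ?_, fun h x hx => ?_⟩
  · rintro _ ⟨z, rfl⟩
    obtain ⟨q, rfl⟩ := AlgSt.Points.mk_surjective z
    exact ⟨AlgSt.Points.mk { K := q.K, str := q.str, obj := ⟨q.obj.1, h _ q.obj.2⟩, lies := q.lies }, rfl⟩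
  · rw [eq_inOpen_range hQ] at hx
    rw [eq_inOpen_range hQ']
    exact fun t => h (hx t)

end Groth.Agent.ASt
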