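import Groth.Agent.ASt.FIsoPts
import Groth.Agent.ASt.OpenSub
/-!
An isomorphism of presheaves of isomorphism classes gives a homeomorphism of spaces of points.
-/

set_option backward.isDefEq.respectTransparency false
set_option backward.isDefEq.respectTransparency.types false
set_option linter.unusedSectionVars false

universe u

open CategoryTheory CategoryTheory.Limits AlgebraicGeometry Opposite Topology

namespace Groth.Agent.ASt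

open _root_.AlgSp Groth.Agent.ASp

variable {S : Scheme.{u}} {𝒳 𝒴 : AlgSt.Cat S} [h𝒳 : FibCat.IsFibGrpd 𝒳.p] [h𝒴 : FibCat.IsFibGrpd 𝒴.p]

theorem isHomLift_pullHom_fiber {T' T : Over S} (x : 𝒳.p.Fiber T) (g : T' ⟶ T) :
    𝒳.p.IsHomLift g (pullHom x.1 x.2 g) :=
  IsHomLift.of_fac' 𝒳.p g _ (pull_base x.1 x.2 g) x.2 (map_pullHom x.1 x.2 g)

theorem cls_eq_of_vert {T : Over S} {a b : 𝒴.p.Fiber T} (v : a.1 ⟶ b.1)
    (hv : 𝒴.p.map v = eqToHom (a.2.trans b.2.symm)) : IsoNat.cls a = IsoNat.cls b := by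
  haveI : IsIso v := isIso_of_vert v hv
  haveI : 𝒴.p.IsHomLift (𝟙 T) v := isHomLift_id_of_map v a.2 hv
  haveI : 𝒴.p.IsHomLift (𝟙 T) (inv v) := isHomLift_id_of_map (inv v) b.2 (e := b.2.trans a.2.symm) (by
    rw [Functor.map_inv]
    apply IsIso.inv_eq_of_hom_inv_id
    rw [hv]
    simp)
  exact Quotient.sound ⟨{ hom := Functor.Fiber.homMk 𝒴.p T v
                          inv := Functor.Fiber.homMk 𝒴.p T (inv v)
                          hom_inv_id := Functor.Fiber.hom_ext (IsIso.hom_inv_id v)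
                          inv_hom_id := Functor.Fiber.hom_ext (IsIso.inv_hom_id v) }⟩

/-- Two objects mapping over the same morphism to objects of one class have one class. -/
theorem cls_eq_of_lifts {T' T : Over S} (g : T' ⟶ T) {y₁' y₂' : 𝒴.p.Fiber T'} {y₁ y₂ : 𝒴.p.Fiber T}
    (b₁ : y₁'.1 ⟶ y₁.1) (b₂ : y₂'.1 ⟶ y₂.1) (h₁ : 𝒴.p.IsHomLift g b₁) (h₂ : 𝒴.p.IsHomLift g b₂)
    (h : IsoNat.cls y₁ = IsoNat.cls y₂) : IsoNat.cls y₁' = IsoNat.cls y₂' := by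
  obtain ⟨v, hv⟩ := exists_vert_of_cls_eq h
  haveI := h₁
  haveI := h₂
  refine cls_eq_of_vert (facMap b₂ (b₁ ≫ v) (eqToHom (y₁'.2.trans y₂'.2.symm)) ?_) (map_facMap _ _ _ _)
  rw [Functor.map_comp, hv, IsHomLift.fac' 𝒴.p g b₁, IsHomLift.fac' 𝒴.p g b₂]
  simp

/-- Classes of pullbacks correspond. -/
theorem fIso_pull (φ : IsoNat.FIso 𝒳 𝒴) {T' T : Over S} (g : T' ⟶ T) {x' : 𝒳.p.Fiber T'} {x : 𝒳.p.Fiber T}
    (a : x'.1 ⟶ x.1) (ha : 𝒳.p.IsHomLift g a) {y' : 𝒴.p.Fiber T'} {y : 𝒴.p.Fiber T} (b : y'.1 ⟶ y.1)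
    (hb : 𝒴.p.IsHomLift g b) (h : φ.toEquiv T (IsoNat.cls x) = IsoNat.cls y) :
    φ.toEquiv T' (IsoNat.cls x') = IsoNat.cls y' := by
  obtain ⟨y₁, y₀, b₁, hb₁, e₁, e₀⟩ := φ.natural g x' x a ha
  rw [e₁]
  exact cls_eq_of_lifts g b₁ b hb₁ hb (e₀.symm.trans h)

/-- The inverse isomorphism. -/
noncomputable def fIsoSymm (φ : IsoNat.FIso 𝒳 𝒴) : IsoNat.FIso 𝒴 𝒳 where
  toEquiv T := (φ.toEquiv T).symm
  natural {T' T} g y' y b hb := by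
    obtain ⟨x, hx⟩ := Quotient.exists_rep ((φ.toEquiv T).symm (IsoNat.cls y))
    refine ⟨⟨pull x.1 x.2 g, pull_base x.1 x.2 g⟩, x, pullHom x.1 x.2 g, isHomLift_pullHom_fiber x g, ?_, hx.symm⟩
    rw [Equiv.symm_apply_eq]
    exact (fIso_pull φ g (x' := ⟨pull x.1 x.2 g, pull_base x.1 x.2 g⟩) (x := x) (pullHom x.1 x.2 g)
      (isHomLift_pullHom_fiber x g) b hb
      ((congrArg (φ.toEquiv T) hx).trans (Equiv.apply_symm_apply _ _))).symm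

theorem exists_fPt (φ : IsoNat.FIso 𝒳 𝒴) (p : AlgSt.FPt 𝒳) :
    ∃ y : 𝒴.p.Fiber (Over.mk p.str), φ.toEquiv _ (IsoNat.cls ⟨p.obj, p.lies⟩) = IsoNat.cls y :=
  ⟨_, (Quotient.out_eq _).symm⟩

/-- The field-valued point attached by an isomorphism of classes. -/
noncomputable def fIsoFPt (φ : IsoNat.FIso 𝒳 𝒴) (p : AlgSt.FPt 𝒳) : AlgSt.FPt 𝒴 :=
  { K := p.K, str := p.str, obj := (exists_fPt φ p).choose.1, lies := (exists_fPt φ p).choose.2 }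

theorem mk_fIsoFPt_eq (φ : IsoNat.FIso 𝒳 𝒴) (p : AlgSt.FPt 𝒳) (y : 𝒴.p.Fiber (Over.mk p.str))
    (h : φ.toEquiv _ (IsoNat.cls ⟨p.obj, p.lies⟩) = IsoNat.cls y) :
    AlgSt.Points.mk (fIsoFPt φ p) = AlgSt.Points.mk { K := p.K, str := p.str, obj := y.1, lies := y.2 } := by
  obtain ⟨v, -⟩ := exists_vert_of_cls_eq ((exists_fPt φ p).choose_spec.symm.trans h)
  exact AlgSt.Points.sound ⟨fIsoFPt φ p, 𝟙 _, v, trivial⟩

/-- The map of points attached to an isomorphism of classes. -/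
noncomputable def fIsoPts (φ : IsoNat.FIso 𝒳 𝒴) : AlgSt.Points 𝒳 → AlgSt.Points 𝒴 :=
  Quot.lift (fun p => AlgSt.Points.mk (fIsoFPt φ p)) (by
    intro p q h
    obtain ⟨r, a, b, -⟩ := h
    have key : ∀ (p : AlgSt.FPt 𝒳) (a : r.obj ⟶ p.obj),
        AlgSt.Points.mk (fIsoFPt φ r) = AlgSt.Points.mk (fIsoFPt φ p) := fun p a => by
      let g : Over.mk r.str ⟶ Over.mk p.str := ptBase (p := r) (q := p) a
      obtain ⟨y', y, c, -, e', e⟩ := φ.natural g ⟨r.obj, r.lies⟩ ⟨p.obj, p.lies⟩ a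
        (IsHomLift.of_fac' 𝒳.p g a r.lies p.lies (map_eq_ptBase (q := p) a))
      rw [mk_fIsoFPt_eq φ r y' e', mk_fIsoFPt_eq φ p y e]
      exact AlgSt.Points.sound ⟨{ K := r.K, str := r.str, obj := y'.1, lies := y'.2 }, 𝟙 _, c, trivial⟩
    exact (key p a).symm.trans (key q b))

theorem fIsoPts_mk (φ : IsoNat.FIso 𝒳 𝒴) (p : AlgSt.FPt 𝒳) :
    fIsoPts φ (AlgSt.Points.mk p) = AlgSt.Points.mk (fIsoFPt φ p) := rfl

theorem fIsoPts_symm (φ : IsoNat.FIso 𝒳 𝒴) (z : AlgSt.Points 𝒳) : fIsoPts (fIsoSymm φ) (fIsoPts φ z) = z := by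
  obtain ⟨p, rfl⟩ := AlgSt.Points.mk_surjective z
  rw [fIsoPts_mk, fIsoPts_mk, mk_fIsoFPt_eq (fIsoSymm φ) (fIsoFPt φ p) ⟨p.obj, p.lies⟩ ?_]
  · rfl
  · exact (Equiv.symm_apply_eq _).2 (exists_fPt φ p).choose_spec.symm

theorem fIsoPts_symm' (φ : IsoNat.FIso 𝒳 𝒴) (z : AlgSt.Points 𝒴) : fIsoPts φ (fIsoPts (fIsoSymm φ) z) = z := by
  obtain ⟨p, rfl⟩ := AlgSt.Points.mk_surjective z
  rw [fIsoPts_mk, fIsoPts_mk, mk_fIsoFPt_eq φ (fIsoFPt (fIsoSymm φ) p) ⟨p.obj, p.lies⟩ ?_]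
  · rfl
  · exact ((Equiv.symm_apply_eq _).1 (exists_fPt (fIsoSymm φ) p).choose_spec).symm

theorem exists_chart_fIso (φ : IsoNat.FIso 𝒳 𝒴) {U : Over S} (a : FibCat.overCat U ⥤ᵇ 𝒳) :
    ∃ b : FibCat.overCat U ⥤ᵇ 𝒴, φ.toEquiv U (IsoNat.objCls a) = IsoNat.objCls b := by
  obtain ⟨Y, hY⟩ := Quotient.exists_rep (φ.toEquiv U (IsoNat.objCls a))
  refine ⟨objFun Y.1 Y.2, hY.symm.trans (cls_eq_of_vert
    (facMap (pullHom Y.1 Y.2 (𝟙 U)) (𝟙 Y.1) (eqToHom (Y.2.trans (pull_base Y.1 Y.2 (𝟙 U)).symm))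
      (by simp [map_pullHom])) (map_facMap _ _ _ _))⟩

theorem fIsoPts_ofChart (φ : IsoNat.FIso 𝒳 𝒴) {U : Over S} {a : FibCat.overCat U ⥤ᵇ 𝒳}
    {b : FibCat.overCat U ⥤ᵇ 𝒴} (h : φ.toEquiv U (IsoNat.objCls a) = IsoNat.objCls b) (t : ↥U.left) :
    fIsoPts φ (AlgSt.Points.ofChart a t) = AlgSt.Points.ofChart b t := by
  let k := rHom U t
  refine mk_fIsoFPt_eq φ _ ⟨b.obj (ov k), (b.w_obj (ov k)).trans (ov_base k)⟩ ?_
  exact fIso_pull φ k (a.map (toTop (ov k)))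
    (IsHomLift.of_fac' 𝒳.p k _ ((a.w_obj (ov k)).trans (ov_base k)) (a.w_obj (ov (𝟙 U))) (map_toTop a _))
    (b.map (toTop (ov k)))
    (IsHomLift.of_fac' 𝒴.p k _ ((b.w_obj (ov k)).trans (ov_base k)) (b.w_obj (ov (𝟙 U))) (map_toTop b _)) h

theorem continuous_fIsoPts {K : Precoverage Scheme.{u}} (hY : AlgSt.IsAlgStack K 𝒴) (φ : IsoNat.FIso 𝒳 𝒴) :
    Continuous (fIsoPts φ) := by
  refine continuous_def.2 fun W hW U a _ => ?_
  obtain ⟨b, hb⟩ := exists_chart_fIso φ a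
  rw [show AlgSt.Points.ofChart a ⁻¹' (fIsoPts φ ⁻¹' W) = AlgSt.Points.ofChart b ⁻¹' W from
    Set.ext fun t => by simp only [Set.mem_preimage, fIsoPts_ofChart φ hb]]
  exact hW.preimage (continuous_ofChart_stack hY b)

/-- The homeomorphism of spaces of points attached to an isomorphism of classes. -/
noncomputable def fIsoHomeo {K : Precoverage Scheme.{u}} (hX : AlgSt.IsAlgStack K 𝒳) (hY : AlgSt.IsAlgStack K 𝒴)
    (φ : IsoNat.FIso 𝒳 𝒴) : AlgSt.Points 𝒳 ≃ₜ AlgSt.Points 𝒴 where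
  toFun := fIsoPts φ
  invFun := fIsoPts (fIsoSymm φ)
  left_inv := fIsoPts_symm φ
  right_inv := fIsoPts_symm' φ
  continuous_toFun := continuous_fIsoPts hY φ
  continuous_invFun := continuous_fIsoPts hX (fIsoSymm φ)

theorem fIsoPts_map {𝒳' 𝒴' : AlgSt.Cat S} [FibCat.IsFibGrpd 𝒳'.p] [FibCat.IsFibGrpd 𝒴'.p] {f : 𝒳 ⥤ᵇ 𝒴}
    {f' : 𝒳' ⥤ᵇ 𝒴'} (φ : IsoNat.FIsoSq f f') (z : AlgSt.Points 𝒳) :
    fIsoPts φ.tgt (AlgSt.Points.map f z) = AlgSt.Points.map f' (fIsoPts φ.src z) := by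
  obtain ⟨p, rfl⟩ := AlgSt.Points.mk_surjective z
  let y := (exists_fPt φ.src p).choose
  refine (mk_fIsoFPt_eq φ.tgt (p.map f) ((IsoNat.fibFun f' _).obj y) ?_).trans rfl
  have h := φ.comm _ (IsoNat.cls ⟨p.obj, p.lies⟩)
  rw [(exists_fPt φ.src p).choose_spec] at h
  exact h

end Groth.Agent.ASt
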