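import Groth.Agent.ASt.StQc
import Groth.Prelude.Def_W4c2isonaturalstkIso
/-!
Isomorphisms of presheaves of isomorphism classes, on points.
-/

set_option backward.isDefEq.respectTransparency false
set_option backward.isDefEq.respectTransparency.types false
set_option linter.unusedSectionVars false

universe u

open CategoryTheory CategoryTheory.Limits AlgebraicGeometry Opposite Topology

namespace Groth.Agent.ASt

open _root_.AlgSp Groth.Agent.ASp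

variable {S : Scheme.{u}} {𝒳 𝒴 : AlgSt.Cat S} [h𝒳 : FibCat.IsFibGrpd 𝒳.p] [h𝒴 : FibCat.IsFibGrpd 𝒴.p]

theorem exists_vert_of_cls_eq {T : Over S} {a b : 𝒴.p.Fiber T} (h : IsoNat.cls a = IsoNat.cls b) :
    ∃ v : a.1 ⟶ b.1, 𝒴.p.map v = eqToHom (a.2.trans b.2.symm) := by
  obtain ⟨i⟩ := Quotient.exact h
  haveI := i.hom.2
  exact ⟨i.hom.1, by simpa using IsHomLift.fac' 𝒴.p (𝟙 T) i.hom.1⟩

/-- A chart whose classes exhaust all points stays one under an isomorphism of presheaves of classes. -/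
theorem exists_surjective_of_fIso (φ : IsoNat.FIso 𝒳 𝒴) {U : Over S} {a : FibCat.overCat U ⥤ᵇ 𝒳}
    (ha : Function.Surjective (AlgSt.Points.ofChart a)) :
    ∃ b : FibCat.overCat U ⥤ᵇ 𝒴, Function.Surjective (AlgSt.Points.ofChart b) := by
  obtain ⟨Y, hY⟩ := Quotient.exists_rep (φ.toEquiv U (IsoNat.cls ⟨a.obj (ov (𝟙 U)), a.w_obj (ov (𝟙 U))⟩))
  refine ⟨objFun Y.1 Y.2, fun z => ?_⟩
  obtain ⟨p, rfl⟩ := AlgSt.Points.mk_surjective z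
  obtain ⟨x₀, hx₀⟩ := Quotient.exists_rep ((φ.toEquiv (Over.mk p.str)).symm (IsoNat.cls ⟨p.obj, p.lies⟩))
  let P : AlgSt.FPt 𝒳 := { K := p.K, str := p.str, obj := x₀.1, lies := x₀.2 }
  obtain ⟨u, hu⟩ := ha (AlgSt.Points.mk P)
  obtain ⟨r, m, n, -⟩ := mk_eq_mk_iff.1 hu
  let m' : r.obj ⟶ a.obj (ov (𝟙 U)) := m ≫ a.map (toTop (ov (rHom U u)))
  let g : Over.mk r.str ⟶ U := eqToHom r.lies.symm ≫ 𝒳.p.map m' ≫ eqToHom (a.w_obj (ov (𝟙 U)))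
  let g₀ : Over.mk r.str ⟶ Over.mk p.str := ptBase (q := P) n
  obtain ⟨y₁, Y₁, b₁, hb₁, e₁, e₁'⟩ := φ.natural g ⟨r.obj, r.lies⟩ ⟨a.obj (ov (𝟙 U)), a.w_obj (ov (𝟙 U))⟩ m'
    (by
      have := IsHomLift.of_fac' 𝒳.p g m' r.lies (a.w_obj _) (by simp [g])
      exact this)
  obtain ⟨y₂, p₂, b₂, hb₂, e₂, e₂'⟩ := φ.natural g₀ ⟨r.obj, r.lies⟩ x₀ n
    (IsHomLift.of_fac' 𝒳.p g₀ n r.lies x₀.2 (map_eq_ptBase (q := P) n))
  obtain ⟨v₁, hv₁⟩ := exists_vert_of_cls_eq (e₁'.symm.trans hY.symm : IsoNat.cls Y₁ = IsoNat.cls Y)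
  obtain ⟨v₂, hv₂⟩ := exists_vert_of_cls_eq (e₁.symm.trans e₂ : IsoNat.cls y₁ = IsoNat.cls y₂)
  obtain ⟨v₃, hv₃⟩ := exists_vert_of_cls_eq (e₂'.symm.trans
    (((congrArg (φ.toEquiv _) hx₀)).trans (Equiv.apply_symm_apply _ _)) :
      IsoNat.cls p₂ = IsoNat.cls ⟨p.obj, p.lies⟩)
  let q : AlgSt.FPt 𝒴 := { K := r.K, str := r.str, obj := y₁.1, lies := y₁.2 }
  have h1 : AlgSt.Points.mk q = AlgSt.Points.mk p :=
    AlgSt.Points.sound ⟨q, 𝟙 _, v₂ ≫ b₂ ≫ v₃, trivial⟩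
  haveI := hb₁
  have hb : 𝒴.p.map (b₁ ≫ v₁) = eqToHom y₁.2 ≫ g ≫ eqToHom Y.2.symm := by
    rw [Functor.map_comp, hv₁, IsHomLift.fac' 𝒴.p g b₁]
    simp
  let k := facMap (b₁ ≫ v₁) (pullHom Y.1 Y.2 g) (eqToHom ((pull_base Y.1 Y.2 g).trans y₁.2.symm)) (by
    rw [hb, map_pullHom]; simp)
  exact ⟨_, ((mk_eq_ofChart q (objFun Y.1 Y.2) g k (default : ↥(Spec (CommRingCat.of r.K)))).symm).trans h1⟩

theorem compactSpace_of_fIso {K : Precoverage Scheme.{u}} (hY : AlgSt.IsAlgStack K 𝒴) (φ : IsoNat.FIso 𝒳 𝒴)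
    (h : AlgSt.IsQuasiCompact 𝒳) : CompactSpace (AlgSt.Points 𝒴) := by
  obtain ⟨U, x, hU, -, hxs⟩ := h
  obtain ⟨b, hb⟩ := exists_surjective_of_fIso φ (surjective_chart hxs)
  exact compactSpace_of_surjective_chart hY hb

end Groth.Agent.ASt
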