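import Mathlib.CategoryTheory.FiberedCategory.Cartesian
import Groth.Prelude.Def_FibCat2
/-!
Calculus of categories fibred in groupoids over a base category: factorisations, chosen pullbacks,
vertical morphisms, equivalences over the base.
-/

set_option backward.isDefEq.respectTransparency false
set_option backward.isDefEq.respectTransparency.types false

universe v₄ u₄ v₃ u₃ v₂ u₂ v u

open CategoryTheory

namespace Groth.Agent.ASt

variable {C : Type u} [Category.{v} C]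
variable {𝒳 : BasedCategory.{v₂, u₂} C} {𝒴 : BasedCategory.{v₃, u₃} C} {𝒵 : BasedCategory.{v₄, u₄} C}

section Calculus

/-- The image of a morphism under a based functor lies over the same morphism. -/
theorem map_w (F : 𝒳 ⥤ᵇ 𝒴) {a b : 𝒳.obj} (f : a ⟶ b) :
    𝒴.p.map (F.map f) = eqToHom (F.w_obj a) ≫ 𝒳.p.map f ≫ eqToHom (F.w_obj b).symm :=
  IsHomLift.fac' 𝒴.p (𝒳.p.map f) (F.map f)

theorem map_inj_w (F : 𝒳 ⥤ᵇ 𝒴) {a b : 𝒳.obj} {f g : a ⟶ b} (h : F.map f = F.map g) :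
    𝒳.p.map f = 𝒳.p.map g := by
  have := congrArg (fun m => 𝒴.p.map m) h
  simp only [map_w] at this
  exact (cancel_mono _).1 ((cancel_epi _).1 this)

theorem map_preimage (F : 𝒳 ⥤ᵇ 𝒴) [F.toFunctor.Full] {a b : 𝒳.obj} (m : F.obj a ⟶ F.obj b) :
    𝒳.p.map (F.toFunctor.preimage m) =
      eqToHom (F.w_obj a).symm ≫ 𝒴.p.map m ≫ eqToHom (F.w_obj b) := by
  have h := map_w F (F.toFunctor.preimage m)
  rw [Functor.map_preimage] at h
  simp [h]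

theorem map_app (F G : 𝒳 ⥤ᵇ 𝒴) (α : F ⟶ G) (a : 𝒳.obj) :
    𝒴.p.map (α.toNatTrans.app a) = eqToHom ((F.w_obj a).trans (G.w_obj a).symm) := by
  have := α.isHomLift (rfl : 𝒳.p.obj a = _)
  simpa using IsHomLift.fac' 𝒴.p (𝟙 (𝒳.p.obj a)) (α.toNatTrans.app a)

theorem isHomLift_of_map {p : 𝒳.obj ⥤ C} {R T : C} {f : R ⟶ T} {a b : 𝒳.obj} (φ : a ⟶ b)
    (ha : p.obj a = R) (hb : p.obj b = T) (h : p.map φ = eqToHom ha ≫ f ≫ eqToHom hb.symm) :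
    p.IsHomLift f φ :=
  IsHomLift.of_fac' p f φ ha hb h

theorem map_of_isHomLift_id {p : 𝒳.obj ⥤ C} {R : C} {a b : 𝒳.obj} (φ : a ⟶ b)
    [p.IsHomLift (𝟙 R) φ] :
    p.map φ = eqToHom ((IsHomLift.domain_eq p (𝟙 R) φ).trans (IsHomLift.codomain_eq p (𝟙 R) φ).symm) := by
  simpa using IsHomLift.fac' p (𝟙 R) φ

theorem isHomLift_id_of_map {p : 𝒳.obj ⥤ C} {R : C} {a b : 𝒳.obj} (φ : a ⟶ b) (ha : p.obj a = R)
    {e : p.obj a = p.obj b} (h : p.map φ = eqToHom e) : p.IsHomLift (𝟙 R) φ :=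
  IsHomLift.of_fac' p (𝟙 R) φ ha (e.symm.trans ha) (by simp [h])

end Calculus

section Grpd

variable [h𝒳 : FibCat.IsFibGrpd 𝒳.p]

/-- Factorisation through any morphism over a given morphism of the base. -/
theorem existsUnique_fac {y x z : 𝒳.obj} (φ : y ⟶ x) (ψ : z ⟶ x) (g : 𝒳.p.obj z ⟶ 𝒳.p.obj y)
    (e : g ≫ 𝒳.p.map φ = 𝒳.p.map ψ) : ∃! χ : z ⟶ y, 𝒳.p.map χ = g ∧ χ ≫ φ = ψ := by
  have := h𝒳.isStronglyCartesian φ
  have hψ : 𝒳.p.IsHomLift (g ≫ 𝒳.p.map φ) ψ := by rw [e]; infer_instance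
  obtain ⟨χ, ⟨h1, h2⟩, h3⟩ :=
    Functor.IsStronglyCartesian.universal_property' (p := 𝒳.p) (f := 𝒳.p.map φ) (φ := φ) g ψ
  refine ⟨χ, ⟨(IsHomLift.eq_of_isHomLift 𝒳.p g χ).symm, h2⟩, fun χ' hχ' => h3 χ' ⟨?_, hχ'.2⟩⟩
  rw [← hχ'.1]; infer_instance

/-- The factorisation of `ψ` through `φ` over `g`. -/
noncomputable def facMap {y x z : 𝒳.obj} (φ : y ⟶ x) (ψ : z ⟶ x) (g : 𝒳.p.obj z ⟶ 𝒳.p.obj y)
    (e : g ≫ 𝒳.p.map φ = 𝒳.p.map ψ) : z ⟶ y :=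
  (existsUnique_fac φ ψ g e).choose

@[simp]
theorem map_facMap {y x z : 𝒳.obj} (φ : y ⟶ x) (ψ : z ⟶ x) (g : 𝒳.p.obj z ⟶ 𝒳.p.obj y)
    (e : g ≫ 𝒳.p.map φ = 𝒳.p.map ψ) : 𝒳.p.map (facMap φ ψ g e) = g :=
  (existsUnique_fac φ ψ g e).choose_spec.1.1

@[simp, reassoc]
theorem facMap_comp {y x z : 𝒳.obj} (φ : y ⟶ x) (ψ : z ⟶ x) (g : 𝒳.p.obj z ⟶ 𝒳.p.obj y)
    (e : g ≫ 𝒳.p.map φ = 𝒳.p.map ψ) : facMap φ ψ g e ≫ φ = ψ :=
  (existsUnique_fac φ ψ g e).choose_spec.1.2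

/-- Two morphisms over the same morphism of the base agreeing after composition are equal. -/
theorem hom_ext {y x z : 𝒳.obj} (φ : y ⟶ x) {a b : z ⟶ y} (h : 𝒳.p.map a = 𝒳.p.map b)
    (h' : a ≫ φ = b ≫ φ) : a = b := by
  obtain ⟨χ, -, hu⟩ := existsUnique_fac φ (a ≫ φ) (𝒳.p.map a) (by simp)
  rw [hu a ⟨rfl, rfl⟩, hu b ⟨h.symm, h'.symm⟩]

theorem isIso_of_isIso_map {y x : 𝒳.obj} (φ : y ⟶ x) [IsIso (𝒳.p.map φ)] : IsIso φ := by
  let χ := facMap φ (𝟙 x) (inv (𝒳.p.map φ)) (by simp)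
  refine ⟨χ, hom_ext φ (by simp [χ]) (by simp [χ]), by simp [χ]⟩

theorem isIso_of_vert {y x : 𝒳.obj} (φ : y ⟶ x) {e : 𝒳.p.obj y = 𝒳.p.obj x}
    (h : 𝒳.p.map φ = eqToHom e) : IsIso φ := by
  have : IsIso (𝒳.p.map φ) := by rw [h]; infer_instance
  exact isIso_of_isIso_map φ

/-- A chosen pullback. -/
noncomputable def pull {T' T : C} (x : 𝒳.obj) (hx : 𝒳.p.obj x = T) (f : T' ⟶ T) : 𝒳.obj :=
  (h𝒳.exists_lift (f ≫ eqToHom hx.symm : T' ⟶ 𝒳.p.obj x)).choose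

/-- The morphism from a chosen pullback. -/
noncomputable def pullHom {T' T : C} (x : 𝒳.obj) (hx : 𝒳.p.obj x = T) (f : T' ⟶ T) :
    pull x hx f ⟶ x :=
  (h𝒳.exists_lift (f ≫ eqToHom hx.symm : T' ⟶ 𝒳.p.obj x)).choose_spec.choose

theorem isHomLift_pullHom {T' T : C} (x : 𝒳.obj) (hx : 𝒳.p.obj x = T) (f : T' ⟶ T) :
    𝒳.p.IsHomLift (f ≫ eqToHom hx.symm) (pullHom x hx f) :=
  (h𝒳.exists_lift (f ≫ eqToHom hx.symm : T' ⟶ 𝒳.p.obj x)).choose_spec.choose_spec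

@[simp]
theorem pull_base {T' T : C} (x : 𝒳.obj) (hx : 𝒳.p.obj x = T) (f : T' ⟶ T) :
    𝒳.p.obj (pull x hx f) = T' :=
  haveI := isHomLift_pullHom x hx f
  IsHomLift.domain_eq 𝒳.p (f ≫ eqToHom hx.symm) (pullHom x hx f)

@[simp]
theorem map_pullHom {T' T : C} (x : 𝒳.obj) (hx : 𝒳.p.obj x = T) (f : T' ⟶ T) :
    𝒳.p.map (pullHom x hx f) = eqToHom (pull_base x hx f) ≫ f ≫ eqToHom hx.symm := by
  have := isHomLift_pullHom x hx f
  simpa using IsHomLift.fac' 𝒳.p (f ≫ eqToHom hx.symm) (pullHom x hx f)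

end Grpd

section Equiv

theorem isEquivOver_of_vert (F : 𝒳 ⥤ᵇ 𝒴) [F.toFunctor.Full] [F.toFunctor.Faithful]
    (h : ∀ y : 𝒴.obj, ∃ (x : 𝒳.obj) (hx : 𝒳.p.obj x = 𝒴.p.obj y) (e : F.obj x ≅ y),
      𝒴.p.map e.hom = eqToHom ((F.w_obj x).trans hx)) : FibCat.IsEquivOver F := by
  choose g hg e he using h
  have hinv : ∀ y, 𝒴.p.map (e y).inv = eqToHom ((F.w_obj (g y)).trans (hg y)).symm := fun y => by
    rw [← cancel_epi (𝒴.p.map (e y).hom), ← Functor.map_comp]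
    simp [he y]
  let G₀ : 𝒴.obj ⥤ 𝒳.obj :=
    { obj := g
      map := fun {a b} m => F.toFunctor.preimage ((e a).hom ≫ m ≫ (e b).inv)
      map_id := fun a => F.toFunctor.map_injective (by simp)
      map_comp := fun m n => F.toFunctor.map_injective (by simp) }
  let G : 𝒴 ⥤ᵇ 𝒳 :=
    { toFunctor := G₀
      w := Functor.ext hg fun a b m => by
        have h1 := map_w F (G₀.map m)
        simp only [G₀, Functor.map_preimage, Functor.map_comp, he, hinv] at h1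
        dsimp [G₀] at h1 ⊢
        rw [← cancel_epi (eqToHom (F.w_obj (g a))), ← cancel_mono (eqToHom (F.w_obj (g b)).symm)]
        simp only [Category.assoc] at h1 ⊢
        rw [← h1]
        simp }
  have hcu : ∀ {x x' : 𝒳.obj} (f : x ⟶ x'),
      F.map ((BasedFunctor.comp F G).map f ≫ (F.toFunctor.preimageIso (e (F.obj x'))).hom) =
        F.map ((F.toFunctor.preimageIso (e (F.obj x))).hom ≫ (BasedFunctor.id 𝒳).map f) := fun {x x'} f => by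
    change F.map (G₀.map (F.map f) ≫ _) = F.map (_ ≫ f)
    simp [G₀]
  have hun : ∀ {y y' : 𝒴.obj} (f : y ⟶ y'),
      (BasedFunctor.comp G F).map f ≫ (e y').hom = (e y).hom ≫ (BasedFunctor.id 𝒴).map f := fun {y y'} f => by
    change F.map (G₀.map f) ≫ _ = _ ≫ f
    simp [G₀]
  refine ⟨G, ⟨BasedNatIso.mkNatIso (NatIso.ofComponents (fun x => F.toFunctor.preimageIso (e (F.obj x)))
    (fun {x x'} f => F.toFunctor.map_injective (hcu f))) fun x => ?_⟩,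
    ⟨BasedNatIso.mkNatIso (NatIso.ofComponents e (fun {y y'} f => hun f)) fun y => ?_⟩⟩
  · rw [← BasedFunctor.isHomLift_iff F]
    have : F.map ((NatIso.ofComponents (fun x => F.toFunctor.preimageIso (e (F.obj x)))
        (fun {x x'} f => F.toFunctor.map_injective (hcu f)) :
          (BasedFunctor.comp F G).toFunctor ≅ (BasedFunctor.id 𝒳).toFunctor).hom.app x) =
        (e (F.obj x)).hom := by simp
    rw [this]
    exact isHomLift_id_of_map _ ((F.w_obj _).trans ((hg _).trans (F.w_obj x))) (he (F.obj x))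
  · exact isHomLift_id_of_map _ ((F.w_obj _).trans (hg y)) (by simpa using he y)

theorem vert_of_isEquivOver {F : 𝒳 ⥤ᵇ 𝒴} (h : FibCat.IsEquivOver F) :
    F.toFunctor.Full ∧ F.toFunctor.Faithful ∧
      ∀ y : 𝒴.obj, ∃ (x : 𝒳.obj) (hx : 𝒳.p.obj x = 𝒴.p.obj y) (e : F.obj x ≅ y),
        𝒴.p.map e.hom = eqToHom ((F.w_obj x).trans hx) := by
  obtain ⟨G, ⟨α⟩, ⟨β⟩⟩ := h
  let α' := (BasedNatTrans.forgetful _ _).mapIso α
  let β' := (BasedNatTrans.forgetful _ _).mapIso β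
  let E : 𝒳.obj ≌ 𝒴.obj := CategoryTheory.Equivalence.mk F.toFunctor G.toFunctor α'.symm β'
  have : F.toFunctor.IsEquivalence := E.isEquivalence_functor
  refine ⟨inferInstance, inferInstance, fun y => ⟨G.obj y, G.w_obj y, β'.app y, ?_⟩⟩
  exact map_app _ _ β.hom y

theorem isFibGrpd_of_isEquivOver {F : 𝒳 ⥤ᵇ 𝒴} (hF : FibCat.IsEquivOver F)
    [h𝒳 : FibCat.IsFibGrpd 𝒳.p] : FibCat.IsFibGrpd 𝒴.p := by
  obtain ⟨hfull, hfaith, hv⟩ := vert_of_isEquivOver hF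
  refine ⟨fun {y} V f => ?_, fun {y x} φ => ?_⟩
  · obtain ⟨x, hx, e, he⟩ := hv y
    refine ⟨F.obj (pull x hx f), F.map (pullHom x hx f) ≫ e.hom, ?_⟩
    exact isHomLift_of_map _ ((F.w_obj _).trans (pull_base x hx f)) rfl (by simp [map_w, he])
  · refine ⟨fun {z} g ψ hψ => ?_⟩
    obtain ⟨x₀, hx₀, ex, hex⟩ := hv x
    obtain ⟨y₀, hy₀, ey, hey⟩ := hv y
    obtain ⟨z₀, hz₀, ez, hez⟩ := hv z
    have hg : g ≫ 𝒴.p.map φ = 𝒴.p.map ψ := IsHomLift.eq_of_isHomLift 𝒴.p _ ψ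
    have hinv : ∀ {a : 𝒳.obj} {b : 𝒴.obj} {h : 𝒳.p.obj a = 𝒴.p.obj b} (e : F.obj a ≅ b),
        𝒴.p.map e.hom = eqToHom ((F.w_obj a).trans h) →
          𝒴.p.map e.inv = eqToHom ((F.w_obj a).trans h).symm := fun {a b h} e he => by
      rw [← cancel_epi (𝒴.p.map e.hom), ← Functor.map_comp]
      simp [he]
    have e3 : (eqToHom hz₀ ≫ g ≫ eqToHom hy₀.symm) ≫ 𝒳.p.map (F.toFunctor.preimage (ey.hom ≫ φ ≫ ex.inv)) =
        𝒳.p.map (F.toFunctor.preimage (ez.hom ≫ ψ ≫ ex.inv)) := by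
      simp [map_preimage, hey, hez, hinv (h := hx₀) ex hex, reassoc_of% hg]
    obtain ⟨χ, ⟨hχ1, hχ2⟩, hu⟩ := existsUnique_fac _ _ _ e3
    refine ⟨ez.inv ≫ F.map χ ≫ ey.hom, ⟨?_, ?_⟩, fun χ' hχ' => ?_⟩
    · exact isHomLift_of_map _ rfl rfl (by simp [map_w, hinv (h := hz₀) ez hez, hey, hχ1])
    · have := congrArg (fun m => F.map m) hχ2
      simp only [Functor.map_comp, Functor.map_preimage] at this
      rw [← cancel_epi ez.hom, ← cancel_mono ex.inv]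
      simpa [Category.assoc] using this
    · obtain ⟨hχ'1, hχ'2⟩ := hχ'
      have hχ'3 : 𝒴.p.map χ' = g := (IsHomLift.eq_of_isHomLift 𝒴.p g χ').symm
      have : F.toFunctor.preimage (ez.hom ≫ χ' ≫ ey.inv) = χ := hu _ ⟨by
          simp [map_preimage, hez, hinv (h := hy₀) ey hey, hχ'3], F.toFunctor.map_injective (by simp [reassoc_of% hχ'2])⟩
      rw [← this]
      simp

end Equiv

end Groth.Agent.ASt
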