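import Groth.Agent.ASt.Cls
/-!
2-fibre products of categories fibred in groupoids, functors out of slices, and the classes of a
fibre product over a slice.
-/

set_option backward.isDefEq.respectTransparency false
set_option backward.isDefEq.respectTransparency.types false
set_option linter.unusedSectionVars false

universe w v₅ u₅ v₄ u₄ v₃ u₃ v₂ u₂ v u

open CategoryTheory Opposite

namespace Groth.Agent.ASt

variable {C : Type u} [Category.{v} C]

instance isFibGrpd_overCat (U : C) : FibCat.IsFibGrpd (FibCat.overCat U).p where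
  exists_lift {x} {V} f := ⟨Over.mk (f ≫ x.hom), Over.homMk f rfl,
    IsHomLift.of_fac' (FibCat.overCat U).p f _ rfl rfl (by simp; rfl)⟩
  isStronglyCartesian {y x} φ :=
    { universal_property' := fun {z} g ψ hψ => by
        have e : g ≫ φ.left = ψ.left :=
          IsHomLift.eq_of_isHomLift (FibCat.overCat U).p (g ≫ (FibCat.overCat U).p.map φ) ψ
        have hz : g ≫ y.hom = z.hom := by
          rw [← Over.w φ, ← Category.assoc, e, Over.w ψ]
        refine ⟨Over.homMk g hz, ⟨IsHomLift.of_fac' (FibCat.overCat U).p g _ rfl rfl (by simp; rfl),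
          Over.OverMorphism.ext e⟩, ?_⟩
        rintro χ ⟨hχ, -⟩
        exact Over.OverMorphism.ext (IsHomLift.eq_of_isHomLift (FibCat.overCat U).p g χ).symm }

instance faithful_overCat (U : C) : (FibCat.overCat U).p.Faithful :=
  ⟨fun h => Over.OverMorphism.ext h⟩

@[simp] theorem ov_id_left {U : C} (g : (FibCat.overCat U).obj) : (𝟙 g : g ⟶ g).left = 𝟙 g.left := rfl

@[simp] theorem ov_comp_left {U : C} {g h k : (FibCat.overCat U).obj} (m : g ⟶ h) (n : h ⟶ k) :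
    (m ≫ n).left = m.left ≫ n.left := rfl

theorem ov_p_map {U : C} {g h : (FibCat.overCat U).obj} (m : g ⟶ h) :
    (FibCat.overCat U).p.map m = m.left := rfl

/-- An object of a slice. -/
abbrev ov {T U : C} (k : T ⟶ U) : (FibCat.overCat U).obj := Over.mk k

theorem ov_base {T U : C} (k : T ⟶ U) : (FibCat.overCat U).p.obj (ov k) = T := rfl

/-- A morphism of a slice. -/
abbrev ovHom {T' T U : C} (g : T' ⟶ T) {k : T ⟶ U} {k' : T' ⟶ U} (e : g ≫ k = k') : ov k' ⟶ ov k :=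
  Over.homMk g e

instance isFibGrpd_selfOver : FibCat.IsFibGrpd (FibCat.selfOver C).p where
  exists_lift {x} {V} f := ⟨V, f, IsHomLift.map (FibCat.selfOver C).p f⟩
  isStronglyCartesian {y x} φ :=
    { universal_property' := fun {z} g ψ hψ => by
        have e : g ≫ φ = ψ :=
          IsHomLift.eq_of_isHomLift (FibCat.selfOver C).p (g ≫ (FibCat.selfOver C).p.map φ) ψ
        exact ⟨g, ⟨IsHomLift.map (FibCat.selfOver C).p g, e⟩,
          fun χ hχ => (@IsHomLift.eq_of_isHomLift _ _ _ _ (FibCat.selfOver C).p _ _ g χ hχ.1).symm⟩ }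

instance faithful_selfOver : (FibCat.selfOver C).p.Faithful := ⟨fun h => h⟩

variable {𝒳 : BasedCategory.{v₂, u₂} C} {𝒴 : BasedCategory.{v₃, u₃} C} {𝒮 : BasedCategory.{v₄, u₄} C}

section Fp

variable {F : 𝒳 ⥤ᵇ 𝒮} {G : 𝒴 ⥤ᵇ 𝒮}

theorem fp_snd_base (x : (FibCat.fp F G).obj) : 𝒴.p.obj x.obj.snd = 𝒳.p.obj x.obj.fst := by
  have : 𝒮.p.IsHomLift (𝟙 (𝒳.p.obj x.obj.fst)) x.obj.iso.hom := x.property
  exact (G.w_obj x.obj.snd).symm.trans
    (IsHomLift.codomain_eq 𝒮.p (𝟙 (𝒳.p.obj x.obj.fst)) x.obj.iso.hom)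

theorem fp_iso_map (x : (FibCat.fp F G).obj) : 𝒮.p.map x.obj.iso.hom =
    eqToHom ((F.w_obj x.obj.fst).trans ((fp_snd_base x).symm.trans (G.w_obj x.obj.snd).symm)) := by
  have : 𝒮.p.IsHomLift (𝟙 (𝒳.p.obj x.obj.fst)) x.obj.iso.hom := x.property
  exact map_of_isHomLift_id (R := 𝒳.p.obj x.obj.fst) x.obj.iso.hom

/-- Constructor for objects of a 2-fibre product. -/
def fpMk (a : 𝒳.obj) (b : 𝒴.obj) (hb : 𝒴.p.obj b = 𝒳.p.obj a) (φ : F.obj a ≅ G.obj b)
    (hφ : 𝒮.p.map φ.hom = eqToHom ((F.w_obj a).trans (hb.symm.trans (G.w_obj b).symm))) :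
    (FibCat.fp F G).obj :=
  ⟨{ fst := a, snd := b, iso := φ }, isHomLift_id_of_map _ (F.w_obj a) hφ⟩

/-- Constructor for morphisms of a 2-fibre product. -/
def fpHomMk {m n : (FibCat.fp F G).obj} (a : m.obj.fst ⟶ n.obj.fst) (b : m.obj.snd ⟶ n.obj.snd)
    (w : F.map a ≫ n.obj.iso.hom = m.obj.iso.hom ≫ G.map b) : m ⟶ n :=
  ObjectProperty.homMk { fst := a, snd := b, w := w }

theorem fp_map_snd {m n : (FibCat.fp F G).obj} (f : m ⟶ n) : 𝒴.p.map f.hom.snd =
    eqToHom (fp_snd_base m) ≫ 𝒳.p.map f.hom.fst ≫ eqToHom (fp_snd_base n).symm :=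
  IsHomLift.fac' 𝒴.p ((FibCat.fp F G).p.map f) f.hom.snd

theorem fp_hom_ext {m n : (FibCat.fp F G).obj} {f g : m ⟶ n} (h₁ : f.hom.fst = g.hom.fst)
    (h₂ : f.hom.snd = g.hom.snd) : f = g :=
  ObjectProperty.hom_ext _ (CategoryTheory.Limits.CategoricalPullback.hom_ext h₁ h₂)

instance faithful_fp [𝒳.p.Faithful] [G.toFunctor.Faithful] : (FibCat.fp F G).p.Faithful := by
  refine ⟨fun {m n f g} h => ?_⟩
  have h₁ : f.hom.fst = g.hom.fst := 𝒳.p.map_injective h
  refine fp_hom_ext h₁ (G.toFunctor.map_injective ?_)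
  have e1 := f.hom.w
  have e2 := g.hom.w
  rw [h₁] at e1
  exact (cancel_epi m.obj.iso.hom).1 (e1.symm.trans e2)

variable [h𝒳 : FibCat.IsFibGrpd 𝒳.p] [h𝒴 : FibCat.IsFibGrpd 𝒴.p] [h𝒮 : FibCat.IsFibGrpd 𝒮.p]

instance isFibGrpd_fp : FibCat.IsFibGrpd (FibCat.fp F G).p where
  exists_lift {x} {V} f := by
    have hb := fp_snd_base x
    let a := pull x.obj.fst rfl f
    let b := pull x.obj.snd hb f
    let i : F.obj a ⟶ G.obj b := facMap (G.map (pullHom x.obj.snd hb f))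
      (F.map (pullHom x.obj.fst rfl f) ≫ x.obj.iso.hom)
      (eqToHom ((F.w_obj a).trans ((pull_base _ _ _).trans
        ((pull_base x.obj.snd hb f).symm.trans (G.w_obj b).symm))))
      (by simp [a, b, map_w, fp_iso_map])
    have hm : 𝒮.p.map i = eqToHom _ := map_facMap _ _ _ _
    have hc : i ≫ G.map (pullHom x.obj.snd hb f) = F.map (pullHom x.obj.fst rfl f) ≫ x.obj.iso.hom :=
      facMap_comp _ _ _ _
    have hi : IsIso i := isIso_of_vert i hm
    let m : (FibCat.fp F G).obj :=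
      fpMk a b ((pull_base _ _ _).trans (pull_base _ _ _).symm) (asIso i) hm
    refine ⟨m, fpHomMk (m := m) (n := x) (pullHom x.obj.fst rfl f) (pullHom x.obj.snd hb f) hc.symm, ?_⟩
    exact isHomLift_of_map _ (pull_base x.obj.fst rfl f) rfl (map_pullHom x.obj.fst rfl f)
  isStronglyCartesian {y x} φ :=
    { universal_property' := fun {z} g ψ hψ => by
        have e : g ≫ 𝒳.p.map φ.hom.fst = 𝒳.p.map ψ.hom.fst :=
          IsHomLift.eq_of_isHomLift (FibCat.fp F G).p (g ≫ (FibCat.fp F G).p.map φ) ψ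
        let a := facMap φ.hom.fst ψ.hom.fst g e
        let b := facMap φ.hom.snd ψ.hom.snd
          (eqToHom (fp_snd_base z) ≫ g ≫ eqToHom (fp_snd_base y).symm)
          (by simp [fp_map_snd, reassoc_of% e])
        have h1 : a ≫ φ.hom.fst = ψ.hom.fst := facMap_comp _ _ _ _
        have h2 : b ≫ φ.hom.snd = ψ.hom.snd := facMap_comp _ _ _ _
        have w : F.map a ≫ y.obj.iso.hom = z.obj.iso.hom ≫ G.map b := by
          refine hom_ext (G.map φ.hom.snd) (by simp [a, b, map_w, fp_iso_map]) ?_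
          simp only [Category.assoc, ← Functor.map_comp, h2, ← φ.hom.w]
          rw [← Functor.map_comp_assoc, h1]
          exact ψ.hom.w
        refine ⟨fpHomMk a b w, ⟨?_, fp_hom_ext h1 h2⟩, ?_⟩
        · exact isHomLift_of_map _ rfl rfl (by simp [a, fpHomMk])
        · rintro χ ⟨hχ, hχ'⟩
          have h0 : 𝒳.p.map χ.hom.fst = g := (IsHomLift.eq_of_isHomLift (FibCat.fp F G).p g χ).symm
          refine fp_hom_ext (hom_ext φ.hom.fst (by simp [h0, a, fpHomMk]) ?_)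
            (hom_ext φ.hom.snd (by simp [fp_map_snd, h0, b, fpHomMk]) ?_)
          · exact (congrArg (fun k => k.hom.fst) hχ').trans h1.symm
          · exact (congrArg (fun k => k.hom.snd) hχ').trans h2.symm }

end Fp

section ObjFun

variable [h𝒳 : FibCat.IsFibGrpd 𝒳.p]

/-- The maps of `objFun`. -/
noncomputable def objMap {T : C} (x : 𝒳.obj) (hx : 𝒳.p.obj x = T) {g h : (FibCat.overCat T).obj} (m : g ⟶ h) :
    pull x hx g.hom ⟶ pull x hx h.hom :=
  facMap (pullHom x hx h.hom) (pullHom x hx g.hom)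
    (eqToHom (pull_base x hx g.hom) ≫ m.left ≫ eqToHom (pull_base x hx h.hom).symm) (by simp)

@[simp] theorem map_objMap {T : C} (x : 𝒳.obj) (hx : 𝒳.p.obj x = T) {g h : (FibCat.overCat T).obj} (m : g ⟶ h) :
    𝒳.p.map (objMap x hx m) = eqToHom (pull_base x hx g.hom) ≫ m.left ≫ eqToHom (pull_base x hx h.hom).symm :=
  map_facMap _ _ _ _

@[simp, reassoc] theorem objMap_comp {T : C} (x : 𝒳.obj) (hx : 𝒳.p.obj x = T) {g h : (FibCat.overCat T).obj}
    (m : g ⟶ h) : objMap x hx m ≫ pullHom x hx h.hom = pullHom x hx g.hom :=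
  facMap_comp _ _ _ _

/-- A functor out of a slice given by an object over its vertex. -/
noncomputable def objFun {T : C} (x : 𝒳.obj) (hx : 𝒳.p.obj x = T) : FibCat.overCat T ⥤ᵇ 𝒳 where
  toFunctor :=
    { obj := fun g => pull x hx g.hom
      map := fun {g h} m => objMap x hx m
      map_id := fun (g : (FibCat.overCat T).obj) => hom_ext (pullHom x hx g.hom) (by simp) (by simp)
      map_comp := by
        intro g h k m n
        exact hom_ext (pullHom x hx k.hom) (by simp) (by simp) }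
  w := CategoryTheory.Functor.ext (F := _ ⋙ 𝒳.p) (G := (FibCat.overCat T).p)
    (fun g => pull_base x hx g.hom) (fun g h m => map_objMap x hx m)

theorem objFun_obj {T : C} (x : 𝒳.obj) (hx : 𝒳.p.obj x = T) (g : (FibCat.overCat T).obj) :
    (objFun x hx).obj g = pull x hx g.hom := rfl

variable {T : C}

/-- The morphism to the terminal object of a slice. -/
def toTop (g : (FibCat.overCat T).obj) : g ⟶ ov (𝟙 T) := Over.homMk g.hom (Category.comp_id _)

theorem map_toTop (y : FibCat.overCat T ⥤ᵇ 𝒳) (g : (FibCat.overCat T).obj) :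
    𝒳.p.map (y.map (toTop g)) =
      eqToHom (y.w_obj g) ≫ g.hom ≫ eqToHom (y.w_obj (ov (𝟙 T))).symm :=
  map_w y (toTop g)

/-- Functors out of a slice are isomorphic as soon as their values at the identity are. -/
noncomputable def funIso {y y' : FibCat.overCat T ⥤ᵇ 𝒳} (a : y.obj (ov (𝟙 T)) ⟶ y'.obj (ov (𝟙 T)))
    (ha : 𝒳.p.map a = eqToHom ((y.w_obj _).trans (y'.w_obj _).symm)) : y ≅ y' :=
  let f := fun g : (FibCat.overCat T).obj => facMap (y'.map (toTop g)) (y.map (toTop g) ≫ a)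
    (eqToHom ((y.w_obj g).trans (y'.w_obj g).symm)) (by simp [map_toTop, ha])
  have hf : ∀ g, IsIso (f g) := fun g => isIso_of_vert (f g) (map_facMap _ _ _ _)
  BasedNatIso.mkNatIso
    (NatIso.ofComponents (fun g => @asIso _ _ _ _ (f g) (hf g)) fun {g h} m => by
      refine hom_ext (y'.map (toTop h)) (by simp [f, map_w]) ?_
      have hm : m ≫ toTop h = toTop g := Over.OverMorphism.ext (Over.w m)
      simp [f, ← Functor.map_comp, ← Functor.map_comp_assoc, hm])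
    fun g => isHomLift_id_of_map (f g) (y.w_obj g) (map_facMap _ _ _ _)

/-- A functor out of a slice is given by its value at the identity. -/
noncomputable def objFunIso (y : FibCat.overCat T ⥤ᵇ 𝒳) :
    objFun (y.obj (ov (𝟙 T))) (y.w_obj _) ≅ y :=
  funIso (y := objFun (y.obj (ov (𝟙 T))) (y.w_obj _)) (pullHom (y.obj (ov (𝟙 T))) (y.w_obj _) (𝟙 T)) (by
    refine (map_pullHom _ _ _).trans ?_
    simp)

end ObjFun

section OverClass

variable {U : C}

/-- The morphism to the vertex underlying a class of the slice. -/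
def overHom {T : C} : ClType (FibCat.overCat U) T → (T ⟶ U) :=
  Quotient.lift (fun a => eqToHom a.2.symm ≫ a.1.hom) fun a b ⟨i⟩ => by
    have := i.hom.2
    have h2 : i.hom.1.left = _ := map_of_isHomLift_id (p := (FibCat.overCat U).p) (R := T) i.hom.1
    change eqToHom _ ≫ a.1.hom = eqToHom _ ≫ b.1.hom
    rw [← Over.w i.hom.1, h2]
    exact eqToHom_trans_assoc _ _ _

theorem overHom_cl {T : C} (g : (FibCat.overCat U).obj) (hg : g.left = T) :
    overHom (cl g hg) = eqToHom hg.symm ≫ g.hom := rfl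

theorem overHom_mk {T : C} (k : T ⟶ U) :
    overHom (cl (𝒳 := FibCat.overCat U) (ov k) (ov_base k)) = k :=
  Category.id_comp k

theorem overHom_clMap {T' T : C} (f : T' ⟶ T) (c : ClType (FibCat.overCat U) T) :
    overHom (clMap f c) = f ≫ overHom c := by
  obtain ⟨g, hg, rfl⟩ := cl_exists c
  obtain rfl : g.left = T := hg
  rw [clMap_cl f (Over.homMk f rfl : ov (f ≫ g.hom) ⟶ g) rfl rfl
    (show f = 𝟙 T' ≫ f ≫ 𝟙 g.left by simp)]
  simp [overHom_cl]

theorem bijective_overHom (T : C) : Function.Bijective (overHom (U := U) (T := T)) := by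
  refine ⟨fun c c' h => ?_, fun k => ⟨cl (ov k) (ov_base k), overHom_mk k⟩⟩
  obtain ⟨g, hg, rfl⟩ := cl_exists c
  obtain ⟨g', hg', rfl⟩ := cl_exists c'
  obtain rfl : g.left = T := hg
  have hg' : g'.left = g.left := hg'
  rw [overHom_cl, overHom_cl] at h
  exact cl_eq_iff.2 ⟨Over.homMk (eqToHom hg'.symm) (by simpa using h.symm), rfl⟩

end OverClass

section FpClass

variable {U : C} [h𝒳 : FibCat.IsFibGrpd 𝒳.p] [h𝒴 : FibCat.IsFibGrpd 𝒴.p]
  {f : 𝒳 ⥤ᵇ 𝒴} {y : FibCat.overCat U ⥤ᵇ 𝒴}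

/-- The morphism to `U` underlying a class of a fibre product over `U`. -/
def fpHom {T : C} (c : ClType (FibCat.fp y f) T) : T ⟶ U := overHom (clF (FibCat.fpFst y f) T c)

/-- The object of a fibre product over `U` given by a point of `U` and an object with an identification. -/
noncomputable def fpObj {T : C} (k : T ⟶ U) (x : 𝒳.obj) (hx : 𝒳.p.obj x = T)
    (φ : y.obj (ov k) ⟶ f.obj x)
    (hφ : 𝒴.p.map φ = eqToHom (((y.w_obj (ov k)).trans (ov_base k)).trans
      (hx.symm.trans (f.w_obj x).symm))) :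
    (FibCat.fp y f).obj :=
  haveI := isIso_of_vert φ hφ
  fpMk (F := y) (G := f) (ov k) x hx (asIso φ) hφ

/-- The class of such an object. -/
noncomputable def fpEl {T : C} (k : T ⟶ U) (x : 𝒳.obj) (hx : 𝒳.p.obj x = T)
    (φ : y.obj (ov k) ⟶ f.obj x)
    (hφ : 𝒴.p.map φ = eqToHom (((y.w_obj (ov k)).trans (ov_base k)).trans
      (hx.symm.trans (f.w_obj x).symm))) :
    ClType (FibCat.fp y f) T :=
  cl (fpObj k x hx φ hφ) rfl

theorem fpEl_exists {T : C} (c : ClType (FibCat.fp y f) T) :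
    ∃ k x hx φ hφ, c = fpEl k x hx φ hφ := by
  obtain ⟨m, hm, rfl⟩ := cl_exists c
  obtain rfl : m.obj.fst.left = T := hm
  refine ⟨m.obj.fst.hom, m.obj.snd, fp_snd_base m, m.obj.iso.hom, fp_iso_map m, ?_⟩
  exact cl_eq_iff.2 ⟨fpHomMk (n := fpObj m.obj.fst.hom m.obj.snd (fp_snd_base m) m.obj.iso.hom (fp_iso_map m))
    (𝟙 m.obj.fst) (𝟙 m.obj.snd) (by simp; rfl), by simp [fpHomMk]; rfl⟩

theorem fpHom_fpEl {T : C} (k : T ⟶ U) (x : 𝒳.obj) (hx : 𝒳.p.obj x = T) (φ : y.obj (ov k) ⟶ f.obj x)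
    (hφ) : fpHom (fpEl k x hx φ hφ) = k := overHom_mk k

theorem fpEl_eq_iff {T : C} {k : T ⟶ U} {x x' : 𝒳.obj} {hx : 𝒳.p.obj x = T} {hx' : 𝒳.p.obj x' = T}
    {φ : y.obj (ov k) ⟶ f.obj x} {φ' : y.obj (ov k) ⟶ f.obj x'} {hφ hφ'} :
    fpEl k x hx φ hφ = fpEl k x' hx' φ' hφ' ↔
      ∃ a : x ⟶ x', 𝒳.p.map a = eqToHom (hx.trans hx'.symm) ∧ φ ≫ f.map a = φ' := by
  constructor
  · intro h
    obtain ⟨m, hm⟩ := cl_eq_iff.1 h
    have h1 : m.hom.fst = 𝟙 (ov k) := Over.OverMorphism.ext hm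
    refine ⟨m.hom.snd, ?_, ?_⟩
    · rw [fp_map_snd, h1]
      change eqToHom _ ≫ 𝟙 T ≫ eqToHom _ = _
      simp
    · have := m.hom.w
      rw [h1] at this
      simpa [fpObj, fpMk] using this.symm
  · rintro ⟨a, ha, ha'⟩
    exact cl_eq_iff.2 ⟨fpHomMk (𝟙 _) a (by simp [fpObj, fpMk, ha']), by simp [fpHomMk]; rfl⟩

theorem fpEl_hom_eq {T : C} {k k' : T ⟶ U} (e : k = k') (x : 𝒳.obj) (hx : 𝒳.p.obj x = T)
    (φ : y.obj (ov k) ⟶ f.obj x) (hφ) :
    fpEl k x hx φ hφ = fpEl k' x hx (eqToHom (by rw [e]) ≫ φ) (by subst e; simpa using hφ) := by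
  subst e; simp

theorem fpHom_clMap {T' T : C} (g : T' ⟶ T) (c : ClType (FibCat.fp y f) T) :
    fpHom (clMap g c) = g ≫ fpHom c := by
  obtain ⟨m, hm, rfl⟩ := cl_exists c
  have := overHom_clMap g (clF (FibCat.fpFst y f) T (cl m hm))
  rw [clMap_cl_pull]
  unfold fpHom
  rw [← this, clF_cl, clF_cl]
  congr 1
  refine (clMap_cl g ((FibCat.fpFst y f).map (pullHom m hm g)) _ _ ?_).symm
  exact map_pullHom m hm g

theorem clMap_fpEl {T' T : C} (g : T' ⟶ T) {k : T ⟶ U} {k' : T' ⟶ U} (e : g ≫ k = k') {x x' : 𝒳.obj}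
    {hx : 𝒳.p.obj x = T} {hx' : 𝒳.p.obj x' = T'} {φ : y.obj (ov k) ⟶ f.obj x}
    {φ' : y.obj (ov k') ⟶ f.obj x'} {hφ hφ'} (a : x' ⟶ x)
    (w : y.map (ovHom g e) ≫ φ = φ' ≫ f.map a) :
    clMap g (fpEl k x hx φ hφ) = fpEl k' x' hx' φ' hφ' :=
  clMap_cl g (fpHomMk (ovHom g e) a w :
      fpObj k' x' hx' φ' hφ' ⟶ fpObj k x hx φ hφ) rfl rfl (by simp [fpHomMk]; rfl)

theorem faithful_of_faithful_fp (h : ∀ {U : C} (y : FibCat.overCat U ⥤ᵇ 𝒴), (FibCat.fp y f).p.Faithful) :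
    f.toFunctor.Faithful := by
  refine ⟨fun {x x' a a'} he => ?_⟩
  let Y := objFun (f.obj x') (f.w_obj x')
  have := h Y
  have hp := map_inj_w f he
  let φ : Y.obj (ov (𝒳.p.map a)) ⟶ f.obj x := facMap (f.map a) (pullHom (f.obj x') (f.w_obj x') (𝒳.p.map a))
    (eqToHom ((pull_base (f.obj x') (f.w_obj x') (𝒳.p.map a)).trans (f.w_obj x).symm))
    (by simp [map_w])
  let φ' : Y.obj (ov (𝟙 (𝒳.p.obj x'))) ⟶ f.obj x' := pullHom (f.obj x') (f.w_obj x') (𝟙 (𝒳.p.obj x'))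
  let g : (ov (𝒳.p.map a) : (FibCat.overCat (𝒳.p.obj x')).obj) ⟶ ov (𝟙 (𝒳.p.obj x')) :=
    Over.homMk (𝒳.p.map a) (Category.comp_id _)
  let A := fpObj (y := Y) (f := f) (𝒳.p.map a) x rfl φ (map_facMap _ _ _ _)
  let B := fpObj (y := Y) (f := f) (𝟙 (𝒳.p.obj x')) x' rfl φ' (by
    change 𝒴.p.map (pullHom _ _ _) = _
    rw [map_pullHom]
    change eqToHom _ ≫ 𝟙 _ ≫ eqToHom _ = _
    simp)
  have w : ∀ b : x ⟶ x', f.map b = f.map a → Y.map g ≫ φ' = φ ≫ f.map b := fun b hb => by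
    rw [hb]
    refine Eq.trans ?_ (facMap_comp _ _ _ _).symm
    exact objMap_comp _ _ _
  have := (FibCat.fp Y f).p.map_injective (X := A) (Y := B)
    (a₁ := fpHomMk g a (w a rfl)) (a₂ := fpHomMk g a' (w a' he.symm)) rfl
  exact congrArg (fun k => k.hom.snd) this

end FpClass

end Groth.Agent.ASt
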