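import Groth.Agent.ASt.StkAlg
import Groth.Agent.ASt.Local
import Groth.Agent.S10544
/-!
Fibre products of algebraic and Deligne-Mumford stacks for the etale topology.
-/

set_option backward.isDefEq.respectTransparency false
set_option backward.isDefEq.respectTransparency.types false
set_option linter.unusedSectionVars false

universe u

open CategoryTheory CategoryTheory.Limits AlgebraicGeometry Opposite

namespace Groth.Agent.ASt

open _root_.AlgSp Groth.Agent.ASp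

variable {S : Scheme.{u}} {𝒳 𝒲 𝒴 𝒵 : AlgSt.Cat S} {K : Precoverage Scheme.{u}}

theorem compLocal_etaleMor : CompLocal (IsEtaleMor : MorphismProperty (Sp S)) :=
  compLocal_of_fpqc (fun X Y Z _ _ _ a b ha hb => by
    intro U φ hφ
    rw [← Category.assoc]
    exact hb (φ ≫ a) (ha φ hφ)) (Groth.Agent.S10544.result S)

/-- An algebraic stack structure on a fibre product, for any topology. -/
theorem isAlgStack_fp_any (hX : AlgSt.IsAlgStack K 𝒳) (hY : AlgSt.IsAlgStack K 𝒴)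
    (hZ : AlgSt.IsAlgStack K 𝒵) (f : 𝒳 ⥤ᵇ 𝒵) (g : 𝒴 ⥤ᵇ 𝒵) :
    AlgSt.IsAlgStack K (FibCat.fp f g) := by
  haveI := hX.isStack.1
  haveI := hY.isStack.1
  haveI := hZ.isStack.1
  haveI : FibCat.IsFibGrpd (FibCat.fp f g).p := isFibGrpd_fp
  haveI : FibCat.IsFibGrpd (FibCat.fp g g).p := isFibGrpd_fp
  haveI : FibCat.IsFibGrpd (FibCat.fp (FibCat.toSelf (FibCat.fp f g)) (FibCat.toSelf (FibCat.fp f g))).p := isFibGrpd_fp
  refine ⟨isStack_fp hX.isStack hY.isStack (isPrestack_of_isStack hZ.isStack), ?_,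
    hasAtlas_fp hX.atlas hY.atlas hZ.diag f g⟩
  have h := repByAlgSpWith_diag_comp (g := FibCat.toSelf 𝒳) compLocal_top
    (repByAlgSpWith_diag_fpFst (n := f) (g := g) (repByAlgSp1_iff_top.1 (repByAlgSp1_diag g hY.diag hZ.diag)))
    (repByAlgSp1_iff_top.1 hX.diag)
  rw [comp_toSelf] at h
  exact repByAlgSp1_of_with h

variable [FibCat.IsFibGrpd 𝒳.p] [FibCat.IsFibGrpd 𝒴.p] [FibCat.IsFibGrpd 𝒵.p] [FibCat.IsFibGrpd 𝒲.p]

theorem hasAtlas_etale_of_cover {w : 𝒲 ⥤ᵇ 𝒳} (h : AlgSt.HasAtlas IsEtaleMor 𝒲)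
    (hw : AlgSt.RepByAlgSpWith IsEtaleMor w) (hws : AlgSt.RepByAlgSpWith IsSurjectiveMor w) :
    AlgSt.HasAtlas IsEtaleMor 𝒳 := by
  obtain ⟨V, x, h1, h2⟩ := h
  exact ⟨V, BasedFunctor.comp x w, repByAlgSpWith_comp compLocal_etaleMor h1 hw,
    repByAlgSpWith_comp compLocal_surjective h2 hws⟩

/-- Fibre products of stacks with etale atlases have etale atlases. -/
theorem hasAtlas_etale_fp (hZ : AlgSt.HasAtlas IsEtaleMor 𝒵) (hX : AlgSt.HasAtlas IsEtaleMor 𝒳)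
    (hΔ : AlgSt.RepByAlgSp1 (FibCat.diag (FibCat.toSelf 𝒴))) (g : 𝒵 ⥤ᵇ 𝒴) (f : 𝒳 ⥤ᵇ 𝒴) :
    AlgSt.HasAtlas IsEtaleMor (FibCat.fp g f) := by
  obtain ⟨A, a, ha, has⟩ := hZ
  obtain ⟨U, b, hb, hbs⟩ := hX
  haveI : FibCat.IsFibGrpd (FibCat.fp g f).p := isFibGrpd_fp
  haveI : FibCat.IsFibGrpd (FibCat.fp g (BasedFunctor.comp b f)).p := isFibGrpd_fp
  haveI : FibCat.IsFibGrpd (FibCat.fp b (FibCat.fpSnd g f)).p := isFibGrpd_fp
  haveI : FibCat.IsFibGrpd (FibCat.fp a (FibCat.fpFst g (BasedFunctor.comp b f))).p := isFibGrpd_fp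
  have he := isEquivOver_pasteF g f b
  refine hasAtlas_etale_of_cover (w := BasedFunctor.comp (pasteF g f b) (FibCat.fpSnd b (FibCat.fpSnd g f))) ?_
    (repByAlgSpWith_precomp he (repByAlgSpWith_fpSnd _ hb))
    (repByAlgSpWith_precomp he (repByAlgSpWith_fpSnd _ hbs))
  exact hasAtlas_etale_of_cover (w := FibCat.fpSnd a (FibCat.fpFst g (BasedFunctor.comp b f)))
    (isDM_of_repByAlgSp (repByAlgSp_fp a (repByAlgSp1_fpFst g (repByAlgSp1_of_diag hΔ (BasedFunctor.comp b f)))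
      (repByAlgSp_overCat A))).2
    (repByAlgSpWith_fpSnd _ ha) (repByAlgSpWith_fpSnd _ has)

end Groth.Agent.ASt
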