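import Groth.Agent.ASt.LocQDesc
import Groth.Agent.ASt.SpChart
import Groth.Agent.ASp.Univ
/-!
Chart squares with corners algebraic spaces.
-/

set_option backward.isDefEq.respectTransparency false
set_option backward.isDefEq.respectTransparency.types false
set_option linter.unusedSectionVars false

universe u

open CategoryTheory CategoryTheory.Limits AlgebraicGeometry Opposite Topology

namespace Groth.Agent.ASt

open _root_.AlgSp Groth.Agent.ASp

variable {S : Scheme.{u}}

/-- Charts compose. -/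
noncomputable def spChartComp {F : Sp S} {T V : Over S} (k : T ⟶ V) (p : (yon S).obj V ⟶ F) :
    spChart ((yon S).map k ≫ p) ≅ BasedFunctor.comp (AlgSt.overMap k) (spChart p) :=
  funIso (spIso (p := p) (q := (yon S).map k ≫ p) (j := 𝟙 T) (a := 𝟙 T ≫ k) rfl) rfl

/-- Charts compose with maps of sheaves. -/
noncomputable def spChartMap {F G : Sp S} {T : Over S} (p : (yon S).obj T ⟶ F) (a : F ⟶ G) :
    BasedFunctor.comp (spChart p) (AlgSt.ofSpMap a) ≅ spChart (p ≫ a) :=
  Iso.refl _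

theorem eq_of_spChart_iso {F : Sp S} {T : Over S} {q q' : (yon S).obj T ⟶ F} (α : spChart q ≅ spChart q') :
    q = q' := by
  apply ObjectProperty.hom_ext
  apply uliftYonedaEquiv.{u + 1}.injective
  let φ := α.hom.toNatTrans.app (ov (𝟙 T))
  have h1 : φ.hom = 𝟙 T := (map_app _ _ α.hom (ov (𝟙 T))).trans (by simp; rfl)
  have h2 : F.obj.map φ.hom.op (q'.hom.app (op T) ⟨𝟙 T⟩) = q.hom.app (op T) ⟨𝟙 T⟩ := φ.map_sec
  rw [h1] at h2
  exact ((ConcreteCategory.congr_hom (F.obj.map_id (op T)) _).symm.trans h2).symm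

/-- The scheme category as the category of its sheaf. -/
noncomputable def toOverCatComp {U V : Over S} (k : U ⟶ V) :
    BasedFunctor.comp (AlgSt.toOverCat U) (AlgSt.overMap k) ≅
      BasedFunctor.comp (AlgSt.ofSpMap ((yon S).map k)) (AlgSt.toOverCat V) :=
  Iso.refl _

variable {P : MorphismProperty (Sp S)}

/-- A property of a morphism of spaces read on a square of schemes. -/
theorem exists_scheme_square (hP : IsSmoothLocalST P) {F G : Sp S} (hF : IsAlgSpace F) (hG : IsAlgSpace G)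
    {a : F ⟶ G} (ha : P a) :
    ∃ (T V : Over S) (p : (yon S).obj T ⟶ F) (r : (yon S).obj V ⟶ G) (k : T ⟶ V),
      RepWith @Etale p ∧ RepWith @Surjective p ∧ RepWith @Etale r ∧ RepWith @Surjective r ∧
      p ≫ a = (yon S).map k ≫ r ∧ P ((yon S).map k) := by
  obtain ⟨V, r, hre, hrs⟩ := hG.atlas
  have sq : IsPullback (pullback.fst a r) (pullback.snd a r) a r := IsPullback.of_hasPullback _ _
  have hF' : IsAlgSpace (pullback a r) := isAlgSpace_pullback hG.diag hF (IsAlgSpace.yon_obj V) _ _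
  obtain ⟨T, p, hpe, hps⟩ := hF'.atlas
  obtain ⟨k, hk⟩ := (yon S).map_surjective (p ≫ pullback.snd a r)
  refine ⟨T, V, p ≫ pullback.fst a r, r, k, repWith_comp hpe (repWith_of_isPullback sq.flip hre),
    repWith_comp hps (repWith_of_isPullback sq.flip hrs), hre, hrs, by rw [Category.assoc, sq.w, hk, Category.assoc], ?_⟩
  rw [hk]
  exact hP.precomp (IsAlgSpace.yon_obj T) hF' (IsAlgSpace.yon_obj V) _ _
    (locP_of_repWith (repWith_mono (fun _ _ g (hg : Etale g) => (haveI := hg; inferInstance : Smooth g)) hpe))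
    (hP.baseChange hF hG hF' (IsAlgSpace.yon_obj V) _ _ _ _ sq
      (locP_of_repWith (repWith_mono (fun _ _ g (hg : Etale g) => (haveI := hg; inferInstance : Smooth g)) hre)) ha)

theorem smooth_spChart {F : Sp S} {T : Over S} {p : (yon S).obj T ⟶ F} (hp : RepWith @Etale p) :
    AlgSt.RepByAlgSpWith (LocP @Smooth) (spChart p) :=
  repByAlgSpWith_spChart hp fun v (hv : Etale v.left) =>
    locP_of_repWith (repWith_yon_map (inferInstanceAs (Smooth v.left)))

theorem surjective_spChart {F : Sp S} {T : Over S} {p : (yon S).obj T ⟶ F} (hp : RepWith @Surjective p) :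
    AlgSt.RepByAlgSpWith IsSurjectiveMor (spChart p) :=
  repByAlgSpWith_spChart hp fun v hv => surjective_map_of_repWith (repWith_yon_map hv)

theorem locQ_ofSpMap (hP : IsSmoothLocalST P) {F G : Sp S} (hF : IsAlgSpace F) (hG : IsAlgSpace G)
    {a : F ⟶ G} (ha : P a) : AlgSt.LocQ P (AlgSt.ofSpMap a) := by
  obtain ⟨T, V, p, r, k, hpe, hps, hre, hrs, e, hk⟩ := exists_scheme_square hP hF hG ha
  exact ⟨T, V, spChart p, spChart r, k,
    (spChartMap p a).trans ((eqToIso (congrArg spChart e)).trans (spChartComp k r)),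
    smooth_spChart hpe, surjective_spChart hps, smooth_spChart hre, hk⟩

theorem prop_of_smooth_spChart {F : Sp S} (hF : IsAlgSpace F) {U : Over S} {q : (yon S).obj U ⟶ F}
    (h : AlgSt.RepByAlgSpWith (LocP @Smooth) (spChart q)) : LocP @Smooth q := by
  obtain ⟨V, p, hpe, hps⟩ := hF.atlas
  obtain ⟨hs, hA, hπ⟩ := (repByAlgSpWith_iff.1 h).2 V (spChart p)
  have sq : IsPullback (ObjectProperty.homMk (spSnd p q) :
        (⟨fib (spChart p) (spChart q), hs⟩ : Sp S) ⟶ (yon S).obj U)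
      (ObjectProperty.homMk (fibπ (spChart p) (spChart q))) q p :=
    IsPullback.of_map_of_faithful (sheafToPresheaf (J S) (Type (u + 1))) (isPullback_spChart p q)
  exact locP_of_fpqc (ι := PUnit) (IsAlgSpace.yon_obj U) hF (fun _ => hA) (fun _ => IsAlgSpace.yon_obj V)
    (fun _ => sq) (isFpqcCover_of_chart hF hpe hps) fun _ => hπ

theorem surjective_of_spChart {F : Sp S} (hF : IsAlgSpace F) {U : Over S} {q : (yon S).obj U ⟶ F}
    (h : AlgSt.RepByAlgSpWith IsSurjectiveMor (spChart q)) : Function.Surjective (Points.map q) := fun z => by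
  obtain ⟨V, p, hpe, hps⟩ := hF.atlas
  obtain ⟨v, rfl⟩ := surjective_map_of_repWith hps z
  obtain ⟨hs, hA, hπ⟩ := (repByAlgSpWith_iff.1 h).2 V (spChart p)
  have sq : IsPullback (ObjectProperty.homMk (spSnd p q) :
        (⟨fib (spChart p) (spChart q), hs⟩ : Sp S) ⟶ (yon S).obj U)
      (ObjectProperty.homMk (fibπ (spChart p) (spChart q))) q p :=
    IsPullback.of_map_of_faithful (sheafToPresheaf (J S) (Type (u + 1))) (isPullback_spChart p q)
  obtain ⟨w, rfl⟩ := hπ v
  exact ⟨_, by rw [← Points.map_comp, sq.w, Points.map_comp]⟩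

theorem prop_of_locQ_ofSpMap (hP : IsSmoothLocalST P) {F G : Sp S} (hF : IsAlgSpace F) (hG : IsAlgSpace G)
    {a : F ⟶ G} (h : AlgSt.LocQ P (AlgSt.ofSpMap a)) : P a := by
  obtain ⟨U, V, x, y, k, α, hx, hxs, hy, hk⟩ := h
  obtain ⟨q, ⟨β⟩⟩ := exists_spChart x
  obtain ⟨r, ⟨γ⟩⟩ := exists_spChart y
  have hq : LocP @Smooth q := prop_of_smooth_spChart hF (repByAlgSpWith_congr β hx)
  have hr : LocP @Smooth r := prop_of_smooth_spChart hG (repByAlgSpWith_congr γ hy)
  have e : q ≫ a = (yon S).map k ≫ r := eq_of_spChart_iso ((spChartMap q a).symm.trans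
    ((wR β.symm (AlgSt.ofSpMap a)).trans (α.trans ((wL (AlgSt.overMap k) γ).trans (spChartComp k r).symm))))
  exact (hP.locality hF hG a).2 fun z => by
    obtain ⟨v, hv⟩ := surjective_of_spChart hF (repByAlgSpWith_congr β hxs) z
    exact ⟨_, _, q, r, (yon S).map k, v, IsAlgSpace.yon_obj U, IsAlgSpace.yon_obj V, hq, hr, e, hv, hk⟩

variable {𝒳 𝒴 : AlgSt.Cat S} [h𝒳 : FibCat.IsFibGrpd 𝒳.p] [h𝒴 : FibCat.IsFibGrpd 𝒴.p] {f : 𝒳 ⥤ᵇ 𝒴}

theorem locQ_of_spSquare (hP : IsSmoothLocalST P) {F G : Sp S} (hF : IsAlgSpace F) (hG : IsAlgSpace G)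
    {x : AlgSt.ofSp F ⥤ᵇ 𝒳} {y : AlgSt.ofSp G ⥤ᵇ 𝒴} {a : F ⟶ G}
    (α : BasedFunctor.comp x f ≅ BasedFunctor.comp (AlgSt.ofSpMap a) y)
    (hx : AlgSt.RepByAlgSpWith (LocP @Smooth) x) (hxs : AlgSt.RepByAlgSpWith IsSurjectiveMor x)
    (hy : AlgSt.RepByAlgSpWith (LocP @Smooth) y) (ha : P a) : AlgSt.LocQ P f := by
  obtain ⟨T, V, p, r, k, hpe, hps, hre, hrs, e, hk⟩ := exists_scheme_square hP hF hG ha
  exact ⟨T, V, BasedFunctor.comp (spChart p) x, BasedFunctor.comp (spChart r) y, k,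
    (wL (spChart p) α).trans (wR ((spChartMap p a).trans ((eqToIso (congrArg spChart e)).trans (spChartComp k r))) y),
    repByAlgSpWith_comp compLocal_smooth (smooth_spChart hpe) hx,
    repByAlgSpWith_comp compLocal_surjective (surjective_spChart hps) hxs,
    repByAlgSpWith_comp compLocal_smooth (smooth_spChart hre) hy, hk⟩

end Groth.Agent.ASt
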