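import Groth.Agent.ASt.RepDesc
import Groth.Agent.ASt.LocQSp
/-!
Fibre products with algebraic spaces.
-/

set_option backward.isDefEq.respectTransparency false
set_option backward.isDefEq.respectTransparency.types false
set_option linter.unusedSectionVars false

universe u

open CategoryTheory CategoryTheory.Limits AlgebraicGeometry Opposite

namespace Groth.Agent.ASt

open _root_.AlgSp Groth.Agent.ASp

variable {S : Scheme.{u}}

/-- Functors between categories of sheaves are maps of sheaves. -/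
theorem exists_ofSpMap_iso {F W : Sp S} (G : AlgSt.ofSp F ⥤ᵇ AlgSt.ofSp W) :
    ∃ a : F ⟶ W, Nonempty (G ≅ AlgSt.ofSpMap a) := by
  have hb : ∀ x, (G.obj x).base = x.base := fun x => G.w_obj x
  have key : ∀ {x y : (AlgSt.ofSp F).obj} (m : x ⟶ y),
      (G.map m).hom = eqToHom (hb x) ≫ m.hom ≫ eqToHom (hb y).symm := fun {x y} m =>
    Functor.congr_hom G.w m
  have hcomp : ∀ {a b c : Over S} (f : a ⟶ b) (g : b ⟶ c) (s : W.obj.obj (op c)),
      W.obj.map f.op (W.obj.map g.op s) = W.obj.map (f ≫ g).op s := fun f g s => by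
    rw [op_comp, Functor.map_comp_apply]
  let v : ∀ x : (AlgSt.ofSp F).obj, W.obj.obj (op x.base) := fun x =>
    W.obj.map (eqToHom (hb x).symm).op (G.obj x).sec
  have hv : ∀ {x y : (AlgSt.ofSp F).obj} (m : x ⟶ y), W.obj.map m.hom.op (v y) = v x := fun {x y} m => by
    simp only [v]
    rw [← (G.map m).map_sec, hcomp]
    refine Eq.trans ?_ (hcomp _ _ _).symm
    congr 2
    rw [key m]
    simp
  let a : F ⟶ W := ObjectProperty.homMk
    { app := fun T => ↾fun s => v ⟨T.unop, s⟩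
      naturality := fun T T' g => by
        ext s
        exact (hv (⟨g.unop, rfl⟩ : (⟨T'.unop, F.obj.map g s⟩ : (AlgSt.ofSp F).obj) ⟶ ⟨T.unop, s⟩)).symm }
  refine ⟨a, ⟨BasedNatIso.mkNatIso (NatIso.ofComponents (fun x =>
    { hom := ⟨eqToHom (hb x), ?_⟩
      inv := ⟨eqToHom (hb x).symm, rfl⟩
      hom_inv_id := ?_
      inv_hom_id := ?_ }) fun {x y} m => ?_) fun x => ?_⟩⟩
  · change W.obj.map (eqToHom _).op (W.obj.map (eqToHom _).op _) = _
    rw [← Functor.map_comp_apply]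
    simp
  · apply Stk.EltObj.Hom.ext
    exact (eqToHom_trans (hb x) (hb x).symm).trans rfl
  · apply Stk.EltObj.Hom.ext
    exact (eqToHom_trans (hb x).symm (hb x)).trans rfl
  · apply Stk.EltObj.Hom.ext
    change (G.map m).hom ≫ eqToHom (hb y) = eqToHom (hb x) ≫ m.hom
    rw [key m]
    simp
  · exact IsHomLift.of_fac' (AlgSt.ofSp W).p _ _ (hb x) rfl
      (show eqToHom (hb x) = eqToHom (hb x) ≫ 𝟙 _ ≫ 𝟙 _ by simp)

variable {𝒳 𝒴 : AlgSt.Cat S} [h𝒳 : FibCat.IsFibGrpd 𝒳.p] [h𝒴 : FibCat.IsFibGrpd 𝒴.p]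

/-- The fibre product of an algebraic space and a representable morphism, with its projection. -/
theorem exists_fpSp {f : 𝒳 ⥤ᵇ 𝒴} (hf : AlgSt.RepByAlgSp1 f) (W : AlgSp.Space S) (w : AlgSt.ofSp W.obj ⥤ᵇ 𝒴) :
    ∃ (V : AlgSp.Space S) (a : V ⟶ W) (e : AlgSt.ofSp V.obj ⥤ᵇ FibCat.fp w f),
      FibCat.IsEquivOver e ∧
        Nonempty (BasedFunctor.comp e (FibCat.fpFst w f) ≅ AlgSt.ofSpMap a.hom) := by
  obtain ⟨V, e, he⟩ := repByAlgSp_fp w hf ⟨W, BasedFunctor.id _, isEquivOver_id⟩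
  obtain ⟨a, ha⟩ := exists_ofSpMap_iso (BasedFunctor.comp e (FibCat.fpFst w f))
  exact ⟨V, ObjectProperty.homMk a, e, he, ha⟩

omit h𝒳 h𝒴 in
/-- A property local on the base is read on the map of sheaves. -/
theorem prop_of_repByAlgSpWith_ofSpMap {P : MorphismProperty (Sp S)} [P.RespectsIso]
    (hP₂ : IsLocalOnBase IsFppfCover P) {F W : Sp S} (hF : IsAlgSpace F) (hW : IsAlgSpace W) {a : F ⟶ W}
    (h : AlgSt.RepByAlgSpWith P (AlgSt.ofSpMap a)) : P a := by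
  haveI := faithful_of_faithful_source (AlgSt.ofSpMap a)
  have h' := (repBySpWith_clFun_iff P _).2 h
  haveI : ∀ G : Sp S, IsIso (ofPshCl (BasedFunctor.id (AlgSt.ofSp G))) := fun G =>
    isIso_ofPshCl isEquivOver_id
  obtain ⟨V, p, hpe, hps⟩ := hW.atlas
  have sq : IsPullback (pullback.fst a p) (pullback.snd a p) a p := IsPullback.of_hasPullback _ _
  have e : a.hom ≫ ofPshCl (BasedFunctor.id (AlgSt.ofSp W)) =
      ofPshCl (BasedFunctor.id (AlgSt.ofSp F)) ≫ clFun (AlgSt.ofSpMap a) := by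
    ext T s
    rfl
  obtain ⟨hs, hA, hPq⟩ := @h' V (p.hom ≫ ofPshCl (BasedFunctor.id (AlgSt.ofSp W)))
    _ ((pullback.fst a p).hom ≫ ofPshCl (BasedFunctor.id (AlgSt.ofSp F))) (pullback.snd a p).hom
    ((sq.map (sheafToPresheaf (J S) (Type (u + 1)))).paste_horiz (IsPullback.of_horiz_isIso ⟨e.symm⟩))
  refine (hP₂ (ι := PUnit) (fun _ => (yon S).obj V) (fun _ => p) hW (fun _ => IsAlgSpace.yon_obj V)
    ⟨fun _ => ⟨locP_of_repWith (repWith_mono (fun _ _ g (hg : Etale g) => (haveI := hg; inferInstance : Flat g)) hpe),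
      locP_of_repWith (repWith_mono (fun _ _ g (hg : Etale g) => (haveI := hg; inferInstance : LocallyOfFinitePresentation g)) hpe)⟩,
      fun x => let ⟨t, ht⟩ := surjective_map_of_repWith hps x; ⟨PUnit.unit, t, ht⟩⟩ a hF (fun _ => _) (fun _ => _) (fun _ => _) (fun _ => hA)
    (fun _ => sq)).2 fun _ => hPq

/-- Locality on the base passes to the restriction to spaces. -/
theorem isLocalOnBase_onSpaces {P : MorphismProperty (Sp S)} (hP₂ : IsLocalOnBase IsFppfCover P) :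
    IsLocalOnBase IsFppfCover (onSpaces P) :=
  fun ι Y Yi g hY hYi hτ X a hX Xi p q hXi sq =>
    ⟨fun h i _ _ => (hP₂ Yi g hY hYi hτ a hX Xi p q hXi sq).1 (h hX hY) i,
      fun h _ _ => (hP₂ Yi g hY hYi hτ a hX Xi p q hXi sq).2 fun i => h i (hXi i) (hYi i)⟩

omit h𝒳 h𝒴 in
theorem repByAlgSpWith_ofSpMap {P : MorphismProperty (Sp S)}
    (hPb : ∀ ⦃X₁ Y₁ X₂ Y₂ : Sp S⦄, IsAlgSpace X₁ → IsAlgSpace Y₁ → IsAlgSpace X₂ →
      IsAlgSpace Y₂ → ∀ (a : X₁ ⟶ Y₁) (b : Y₂ ⟶ Y₁) (a' : X₂ ⟶ Y₂) (b' : X₂ ⟶ X₁),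
      IsPullback b' a' a b → P a → P a')
    {F W : Sp S} (hF : IsAlgSpace F) (hW : IsAlgSpace W) {a : F ⟶ W} (ha : P a) :
    AlgSt.RepByAlgSpWith P (AlgSt.ofSpMap a) := by
  haveI := respectsIso_onSpaces hPb
  haveI := faithful_of_faithful_source (AlgSt.ofSpMap a)
  haveI : ∀ G : Sp S, IsIso (ofPshCl (BasedFunctor.id (AlgSt.ofSp G))) := fun G =>
    isIso_ofPshCl isEquivOver_id
  refine repByAlgSpWith_onSpaces_iff.1 ((repBySpWith_clFun_iff (onSpaces P) _).1 fun U ξ F' fst snd sq => ?_)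
  let q : (yon S).obj U ⟶ W := ObjectProperty.homMk (ξ ≫ inv (ofPshCl (BasedFunctor.id (AlgSt.ofSp W))))
  have hA : IsAlgSpace (pullback a q) := isAlgSpace_pullback hW.diag hF (IsAlgSpace.yon_obj U) _ _
  have e : a.hom ≫ ofPshCl (BasedFunctor.id (AlgSt.ofSp W)) =
      ofPshCl (BasedFunctor.id (AlgSt.ofSp F)) ≫ clFun (AlgSt.ofSpMap a) := by
    ext T s
    rfl
  have sq' : IsPullback ((pullback.fst a q).hom ≫ ofPshCl (BasedFunctor.id (AlgSt.ofSp F))) (pullback.snd a q).hom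
      (clFun (AlgSt.ofSpMap a)) ξ := by
    have := ((IsPullback.of_hasPullback a q).map (sheafToPresheaf (J S) (Type (u + 1)))).paste_horiz
      (IsPullback.of_horiz_isIso (fst := ofPshCl (BasedFunctor.id (AlgSt.ofSp F))) ⟨e.symm⟩)
    simpa [q] using this
  let i := sq'.isoIsPullback _ _ sq
  obtain ⟨hs', hA'⟩ := ((isAlgSpaceP_obj_iff _).2 hA).of_iso i
  obtain ⟨j⟩ := arrowIso_of_hom (a := pullback.snd a q)
    (b := (ObjectProperty.homMk snd : (⟨F', hs'⟩ : Sp S) ⟶ (yon S).obj U))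
    i (IsPullback.isoIsPullback_hom_snd _ _ _ _).symm
  exact ⟨hs', hA', ((onSpaces P).arrow_mk_iso_iff j).1 fun _ _ =>
    hPb hF hW hA (IsAlgSpace.yon_obj U) a q _ _ (IsPullback.of_hasPullback a q) ha⟩

/-- A category representable over an algebraic space is an algebraic space. -/
theorem repByAlgSp_of_repByAlgSp1 {g : 𝒳 ⥤ᵇ 𝒴} (hg : AlgSt.RepByAlgSp1 g) (hY : AlgSt.RepByAlgSp 𝒴) :
    AlgSt.RepByAlgSp 𝒳 := by
  obtain ⟨hY1, hY2⟩ := repByAlgSp_iff.1 hY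
  have := faithful_of_repByAlgSp1 hg
  haveI : 𝒳.p.Faithful := ⟨fun {x y} a b e => g.toFunctor.map_injective (𝒴.p.map_injective
    (by simp [map_w, e]))⟩
  exact repByAlgSp_iff.2 ⟨inferInstance,
    Groth.Agent.ASp.isAlgSpaceP_of_repBySp ((repBySp_clFun_iff g).2 hg) hY2⟩

/-- Properties of the projection from a fibre product with an algebraic space, read on the map of spaces. -/
theorem exists_fpSp_prop_iff {P : MorphismProperty (Sp S)}
    (hPb : ∀ ⦃X₁ Y₁ X₂ Y₂ : Sp S⦄, IsAlgSpace X₁ → IsAlgSpace Y₁ → IsAlgSpace X₂ →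
      IsAlgSpace Y₂ → ∀ (a : X₁ ⟶ Y₁) (b : Y₂ ⟶ Y₁) (a' : X₂ ⟶ Y₂) (b' : X₂ ⟶ X₁),
      IsPullback b' a' a b → P a → P a')
    (hP₂ : IsLocalOnBase IsFppfCover P) (f : 𝒳 ⥤ᵇ 𝒴) (W : AlgSp.Space S) (w : AlgSt.ofSp W.obj ⥤ᵇ 𝒴) :
    (∃ (V : AlgSp.Space S) (a : V ⟶ W) (e : AlgSt.ofSp V.obj ⥤ᵇ FibCat.fp w f),
      FibCat.IsEquivOver e ∧
        Nonempty (BasedFunctor.comp e (FibCat.fpFst w f) ≅ AlgSt.ofSpMap a.hom) ∧ P a.hom) ↔
    AlgSt.RepByAlgSpWith P (FibCat.fpFst w f) := by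
  haveI : FibCat.IsFibGrpd (FibCat.fp w f).p := isFibGrpd_fp
  haveI := respectsIso_onSpaces hPb
  constructor
  · rintro ⟨V, a, e, he, ⟨α⟩, ha⟩
    obtain ⟨G, hG, ⟨β⟩, ⟨γ⟩⟩ := isEquivOver_symm he
    exact repByAlgSpWith_congr (wR γ (FibCat.fpFst w f) : BasedFunctor.comp (BasedFunctor.comp G e) _ ≅ _)
      (repByAlgSpWith_precomp (f := BasedFunctor.comp e (FibCat.fpFst w f)) (E := G) hG
        (repByAlgSpWith_congr (f := AlgSt.ofSpMap a.hom) (f' := BasedFunctor.comp e (FibCat.fpFst w f)) α.symm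
          (repByAlgSpWith_ofSpMap hPb V.property W.property ha)))
  · intro h
    obtain ⟨V, e, he⟩ : AlgSt.RepByAlgSp (FibCat.fp w f) :=
      repByAlgSp_of_repByAlgSp1 (repByAlgSp1_of_with h) ⟨W, BasedFunctor.id _, isEquivOver_id⟩
    obtain ⟨a, ⟨α⟩⟩ := exists_ofSpMap_iso (BasedFunctor.comp e (FibCat.fpFst w f))
    exact ⟨V, ObjectProperty.homMk a, e, he, ⟨α⟩, prop_of_repByAlgSpWith_ofSpMap (P := onSpaces P)
      (isLocalOnBase_onSpaces hP₂) V.property W.property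
      (repByAlgSpWith_onSpaces_iff.2 (repByAlgSpWith_congr α (repByAlgSpWith_precomp he h))) V.property W.property⟩

end Groth.Agent.ASt
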