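import Groth.Agent.ASt.DiagCancel
/-!
The calculus for arbitrary properties stable under base change.
-/

set_option backward.isDefEq.respectTransparency false
set_option backward.isDefEq.respectTransparency.types false
set_option linter.unusedSectionVars false

universe u

open CategoryTheory CategoryTheory.Limits AlgebraicGeometry Opposite

namespace Groth.Agent.ASt

open _root_.AlgSp

variable {S : Scheme.{u}} {𝒳 𝒴 𝒵 : AlgSt.Cat S} [h𝒳 : FibCat.IsFibGrpd 𝒳.p] [h𝒴 : FibCat.IsFibGrpd 𝒴.p]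
  [h𝒵 : FibCat.IsFibGrpd 𝒵.p] {f : 𝒳 ⥤ᵇ 𝒴} {g : 𝒴 ⥤ᵇ 𝒵}

/-- Cancellation along a representable second morphism. -/
theorem repByAlgSpWith_cancel {P : MorphismProperty (Sp S)} [P.RespectsIso]
    (hPb : ∀ ⦃X₁ Y₁ X₂ Y₂ : Sp S⦄, IsAlgSpace X₁ → IsAlgSpace Y₁ → IsAlgSpace X₂ →
      IsAlgSpace Y₂ → ∀ (a : X₁ ⟶ Y₁) (b : Y₂ ⟶ Y₁) (a' : X₂ ⟶ Y₂) (b' : X₂ ⟶ X₁),
      IsPullback b' a' a b → P a → P a')
    (hcancel : ∀ ⦃X Y Z : Sp S⦄, IsAlgSpace X → IsAlgSpace Y → IsAlgSpace Z →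
      ∀ (a : X ⟶ Y) (b : Y ⟶ Z), P b → P (a ≫ b) → P a)
    (hf : AlgSt.RepByAlgSp1 f) (hg : AlgSt.RepByAlgSpWith P g)
    (hfg : AlgSt.RepByAlgSpWith P (BasedFunctor.comp f g)) : AlgSt.RepByAlgSpWith P f := by
  rw [repByAlgSpWith_iff] at hg hfg
  obtain ⟨hg1, hg2⟩ := hg
  obtain ⟨hfa, hfs⟩ := repByAlgSp1_iff.1 hf
  refine repByAlgSpWith_iff.2 ⟨hfa, fun U y => ?_⟩
  let z : FibCat.overCat U ⥤ᵇ 𝒵 := BasedFunctor.comp y g
  let yv := y.obj (ov (𝟙 U))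
  let hyv : 𝒴.p.obj yv = U := y.w_obj (ov (𝟙 U))
  refine fibHas_congr (objFunIso y) ?_
  let ψ : z.obj (ov (𝟙 U)) ⟶ g.obj yv := 𝟙 _
  have hψ : 𝒵.p.map ψ = eqToHom (((z.w_obj (ov (𝟙 U))).trans (ov_base (𝟙 U))).trans
      (hyv.symm.trans (g.w_obj yv).symm)) := 𝒵.p.map_id _
  have sq := isPullback_sectionF f g z (𝟙 U) yv hyv ψ hψ
  obtain ⟨hs₁, hA₁, hP₁⟩ := hg2 U z
  obtain ⟨hs₂, hA₂, hP₂⟩ := hfg.2 U z
  obtain ⟨hs, hA⟩ := hfs U (objFun yv hyv)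
  let F₁ : Sp S := ⟨fib z g, hs₁⟩
  let F₂ : Sp S := ⟨fib z (BasedFunctor.comp f g), hs₂⟩
  let q : F₂ ⟶ F₁ := ObjectProperty.homMk (clFun (compF f g z))
  have hq : P q := by
    refine hcancel hA₂ hA₁ (IsAlgSpace.yon_obj U) q (ObjectProperty.homMk (fibπ z g)) hP₁ ?_
    have : (ObjectProperty.homMk (fibπ z (BasedFunctor.comp f g)) : F₂ ⟶ (yon S).obj U) =
        q ≫ ObjectProperty.homMk (fibπ z g) := ObjectProperty.hom_ext _ (clFun_compF_π f g z).symm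
    rwa [← this]
  exact ⟨hs, hA, hPb hA₂ hA₁ hA (IsAlgSpace.yon_obj U) q
    (ObjectProperty.homMk (uliftYonedaEquiv.{u + 1}.symm (fpEl (y := z) (f := g) (𝟙 U) yv hyv ψ hψ)) :
      (yon S).obj U ⟶ F₁)
    _ (ObjectProperty.homMk (clFun (sectionF f g z (𝟙 U) yv hyv ψ hψ)) : (⟨fib (objFun yv hyv) f, hs⟩ : Sp S) ⟶ F₂)
    (IsPullback.of_map_of_faithful (sheafToPresheaf (J S) (Type (u + 1))) sq) hq⟩

theorem repByAlgSpWith_diag_cancel {P : MorphismProperty (Sp S)} [P.RespectsIso]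
    (hPb : ∀ ⦃X₁ Y₁ X₂ Y₂ : Sp S⦄, IsAlgSpace X₁ → IsAlgSpace Y₁ → IsAlgSpace X₂ →
      IsAlgSpace Y₂ → ∀ (a : X₁ ⟶ Y₁) (b : Y₂ ⟶ Y₁) (a' : X₂ ⟶ Y₂) (b' : X₂ ⟶ X₁),
      IsPullback b' a' a b → P a → P a')
    (hcancel : ∀ ⦃X Y Z : Sp S⦄, IsAlgSpace X → IsAlgSpace Y → IsAlgSpace Z →
      ∀ (a : X ⟶ Y) (b : Y ⟶ Z), P b → P (a ≫ b) → P a)
    (hg : AlgSt.RepByAlgSpWith P (FibCat.diag g))
    (hfg : AlgSt.RepByAlgSpWith P (FibCat.diag (BasedFunctor.comp f g))) :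
    AlgSt.RepByAlgSpWith P (FibCat.diag f) := by
  have hJ := repByAlgSpWith_compJ f g hg
  have h1 := repByAlgSpWith_congr (diagCompJ f g).symm hfg
  haveI : FibCat.IsFibGrpd (FibCat.fp (compJ f g) (compJ f g)).p := isFibGrpd_fp
  exact repByAlgSpWith_cancel hPb hcancel
    (repByAlgSp1_of_comp (repByAlgSp1_of_with h1)
      (repByAlgSp1_of_with (repByAlgSpWith_diag_of_repByAlgSp1 (P := ⊤) (repByAlgSp1_of_with hJ)
        fun _ _ _ => trivial))) hJ h1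

section TestSchemes

variable {U : Over S} (w : FibCat.overCat U ⥤ᵇ FibCat.fp f f)

/-- The pair of sections of the base change along the first test morphism. -/
noncomputable def liftTest : FibCat.overCat U ⥤ᵇ
    FibCat.fp (FibCat.fpFst (testA w) f) (FibCat.fpFst (testA w) f) :=
  FibCat.fpLift
    (FibCat.fpLift (BasedFunctor.id _) (BasedFunctor.comp w (FibCat.fpFst f f)) (Iso.refl _))
    (FibCat.fpLift (BasedFunctor.id _) (BasedFunctor.comp w (FibCat.fpSnd f f)) (wL w (FibCat.fpIso f f)))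
    (Iso.refl _)

/-- It lies over the given test morphism. -/
noncomputable def liftTestIso : BasedFunctor.comp (liftTest w) (bcN (testA w) f) ≅ w :=
  fpIsoMk (Iso.refl _) (Iso.refl _) fun k => by
    change f.map (𝟙 (w.obj k).obj.fst) ≫ (w.obj k).obj.iso.hom =
      (𝟙 (f.obj (w.obj k).obj.fst) ≫ (testA w).map (𝟙 k) ≫ (w.obj k).obj.iso.hom) ≫
        f.map (𝟙 (w.obj k).obj.snd)
    simp
    exact (Category.id_comp _).symm

end TestSchemes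

theorem repByAlgSpWith_diag_iff_forall {P : MorphismProperty (Sp S)} [P.RespectsIso] :
    AlgSt.RepByAlgSpWith P (FibCat.diag f) ↔
      ∀ (T : Over S) (y : FibCat.overCat T ⥤ᵇ 𝒴), AlgSt.RepByAlgSpWith P (FibCat.diag (FibCat.fpFst y f)) := by
  refine ⟨fun h T y => repByAlgSpWith_diag_fpFst y f h, fun h => repByAlgSpWith_iff.2 ⟨inferInstance, fun U w => ?_⟩⟩
  haveI : FibCat.IsFibGrpd (FibCat.fp (FibCat.fpFst (testA w) f) (FibCat.fpFst (testA w) f)).p := isFibGrpd_fp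
  have h1 := (repByAlgSpWith_iff.1 (h U (testA w))).2 U (liftTest w)
  haveI : (FibCat.diag (FibCat.fpFst (testA w) f)).toFunctor.Faithful := faithful_diag _
  exact fibHas_congr (liftTestIso w) ((fibHas_iff_of_bijective (bcDiagF (testA w) f (liftTest w))
    (fpHom_bcDiagF _ _ _) (bijective_bcDiagF _ _ _)).1 h1)

theorem repByAlgSpWith_iff_of_square {P : MorphismProperty (Sp S)} {𝒳' 𝒴' : AlgSt.Cat S}
    [FibCat.IsFibGrpd 𝒳'.p] [FibCat.IsFibGrpd 𝒴'.p] {f' : 𝒳' ⥤ᵇ 𝒴'} {a : 𝒳' ⥤ᵇ 𝒳} {b : 𝒴' ⥤ᵇ 𝒴}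
    (ha : FibCat.IsEquivOver a) (hb : FibCat.IsEquivOver b)
    (e : BasedFunctor.comp f' b ≅ BasedFunctor.comp a f) :
    AlgSt.RepByAlgSpWith P f ↔ AlgSt.RepByAlgSpWith P f' := by
  constructor
  · intro h
    obtain ⟨G, hG, ⟨α⟩, -⟩ := isEquivOver_symm hb
    have h1 := repByAlgSpWith_postcomp G hG (repByAlgSpWith_congr e.symm (repByAlgSpWith_precomp ha h))
    exact repByAlgSpWith_congr (wL f' α : BasedFunctor.comp f' (BasedFunctor.comp b G) ≅ _) h1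
  · intro h
    obtain ⟨G, hG, -, ⟨β⟩⟩ := isEquivOver_symm ha
    have h1 := repByAlgSpWith_precomp hG (repByAlgSpWith_congr e (repByAlgSpWith_postcomp b hb h))
    exact repByAlgSpWith_congr (wR β f) h1

end Groth.Agent.ASt
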