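import Groth.Agent.ASt.DiagLft
/-!
The graph of a morphism over a base, given with a 2-isomorphism.
-/

set_option backward.isDefEq.respectTransparency false
set_option backward.isDefEq.respectTransparency.types false
set_option linter.unusedSectionVars false

universe v u

open CategoryTheory CategoryTheory.Limits AlgebraicGeometry

namespace Groth.Agent.ASt

open _root_.AlgSp

variable {S : Scheme.{u}} {𝒳 𝒴 𝒵 : AlgSt.Cat S} [h𝒳 : FibCat.IsFibGrpd 𝒳.p] [h𝒴 : FibCat.IsFibGrpd 𝒴.p]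
  [h𝒵 : FibCat.IsFibGrpd 𝒵.p]
variable {F F' : 𝒳 ⥤ᵇ 𝒵} (G : 𝒴 ⥤ᵇ 𝒵) (α : F ≅ F')

/-- Exchange of the factors together with a change of the left functor. -/
noncomputable def swapChange : FibCat.fp G F' ⥤ᵇ FibCat.fp F G :=
  FibCat.fpLift (FibCat.fpSnd G F') (FibCat.fpFst G F') (wL (FibCat.fpSnd G F') α ≪≫ (FibCat.fpIso G F').symm)

/-- Its inverse. -/
noncomputable def swapChange' : FibCat.fp F G ⥤ᵇ FibCat.fp G F' :=
  FibCat.fpLift (FibCat.fpSnd F G) (FibCat.fpFst F G) ((FibCat.fpIso F G).symm ≪≫ wL (FibCat.fpFst F G) α)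

theorem isEquivOver_swapChange : FibCat.IsEquivOver (swapChange G α) := by
  haveI : FibCat.IsFibGrpd (FibCat.fp F G).p := isFibGrpd_fp
  haveI : FibCat.IsFibGrpd (FibCat.fp G F').p := isFibGrpd_fp
  refine ⟨swapChange' G α, ⟨fpIsoMk (Iso.refl _) (Iso.refl _) fun m => ?_⟩,
    ⟨fpIsoMk (Iso.refl _) (Iso.refl _) fun m => ?_⟩⟩
  · have h : α.inv.toNatTrans.app m.obj.snd ≫ α.hom.toNatTrans.app m.obj.snd = 𝟙 _ :=
      congrArg (fun k => k.toNatTrans.app m.obj.snd) α.inv_hom_id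
    change G.map (𝟙 _) ≫ m.obj.iso.hom = ((m.obj.iso.hom ≫ α.inv.toNatTrans.app m.obj.snd) ≫
      α.hom.toNatTrans.app m.obj.snd) ≫ F'.map (𝟙 _)
    rw [G.toFunctor.map_id, F'.toFunctor.map_id, Category.assoc m.obj.iso.hom, h]
    simp
  · have h : α.hom.toNatTrans.app m.obj.fst ≫ α.inv.toNatTrans.app m.obj.fst = 𝟙 _ :=
      congrArg (fun k => k.toNatTrans.app m.obj.fst) α.hom_inv_id
    change F.map (𝟙 _) ≫ m.obj.iso.hom = (α.hom.toNatTrans.app m.obj.fst ≫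
      (α.inv.toNatTrans.app m.obj.fst ≫ m.obj.iso.hom)) ≫ G.map (𝟙 _)
    rw [F.toFunctor.map_id, G.toFunctor.map_id, ← Category.assoc (α.hom.toNatTrans.app m.obj.fst), h]
    simp

/-- The graph `x ↦ (x, g x)` inherits the properties of the diagonal. -/
theorem repByAlgSpWith_graphIso {P : MorphismProperty (Sp S)} {p : 𝒳 ⥤ᵇ 𝒵} {q : 𝒴 ⥤ᵇ 𝒵} (g : 𝒳 ⥤ᵇ 𝒴)
    (e : BasedFunctor.comp (BasedFunctor.id 𝒳) p ≅ BasedFunctor.comp g q)
    (hΔ : AlgSt.RepByAlgSpWith P (FibCat.diag q)) :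
    AlgSt.RepByAlgSpWith P (FibCat.fpLift (BasedFunctor.id 𝒳) g e) := by
  haveI : FibCat.IsFibGrpd (FibCat.fp q (BasedFunctor.comp g q)).p := isFibGrpd_fp
  haveI : FibCat.IsFibGrpd (FibCat.fp p q).p := isFibGrpd_fp
  refine repByAlgSpWith_congr (fpIsoMk (A := BasedFunctor.comp (graph g q) (swapChange q (F := p) e))
    (B := FibCat.fpLift (BasedFunctor.id 𝒳) g e) (Iso.refl _) (Iso.refl _) fun m => ?_)
    (repByAlgSpWith_postcomp (swapChange q (F := p) e) (isEquivOver_swapChange q e) (repByAlgSpWith_graph g hΔ))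
  change p.map (𝟙 _) ≫ e.hom.toNatTrans.app m = (e.hom.toNatTrans.app m ≫ 𝟙 _) ≫ q.map (𝟙 _)
  rw [p.toFunctor.map_id, q.toFunctor.map_id]
  simp
  exact (Category.comp_id _).symm

end Groth.Agent.ASt
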