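import Groth.Agent.ASt.PtsMor
import Groth.Agent.ASt.DiagConv
/-!
Quasi-compact morphisms of algebraic stacks.
-/

set_option backward.isDefEq.respectTransparency false
set_option backward.isDefEq.respectTransparency.types false
set_option linter.unusedSectionVars false

universe u

open CategoryTheory CategoryTheory.Limits AlgebraicGeometry Opposite Topology

namespace Groth.Agent.ASt

open _root_.AlgSp Groth.Agent.ASp

variable {S : Scheme.{u}} {𝒳 𝒴 𝒵 𝒲 : AlgSt.Cat S} [h𝒳 : FibCat.IsFibGrpd 𝒳.p] [h𝒴 : FibCat.IsFibGrpd 𝒴.p]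
  [h𝒵 : FibCat.IsFibGrpd 𝒵.p] [h𝒲 : FibCat.IsFibGrpd 𝒲.p]

theorem surjective_map_of_vert {F : 𝒳 ⥤ᵇ 𝒴}
    (h : ∀ y, ∃ (x : 𝒳.obj) (_ : 𝒳.p.obj x = 𝒴.p.obj y), Nonempty (F.obj x ⟶ y)) :
    Function.Surjective (AlgSt.Points.map F) := fun z => by
  obtain ⟨p, rfl⟩ := AlgSt.Points.mk_surjective z
  obtain ⟨x, hx, ⟨m⟩⟩ := h p.obj
  let q : AlgSt.FPt 𝒳 := { K := p.K, str := p.str, obj := x, lies := hx.trans p.lies }
  exact ⟨AlgSt.Points.mk q, AlgSt.Points.sound ⟨q.map F, 𝟙 _, m, trivial⟩⟩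

theorem surjective_map_of_isEquivOver {F : 𝒳 ⥤ᵇ 𝒴} (hF : FibCat.IsEquivOver F) :
    Function.Surjective (AlgSt.Points.map F) := surjective_map_of_vert fun y => by
  obtain ⟨-, -, h⟩ := vert_of_isEquivOver hF
  obtain ⟨x, hx, e, -⟩ := h y
  exact ⟨x, hx, ⟨e.hom⟩⟩

section Push

variable (a : 𝒲 ⥤ᵇ 𝒵) (h : 𝒵 ⥤ᵇ 𝒴) (f : 𝒳 ⥤ᵇ 𝒴)

/-- Change of the first factor of a fibre product. -/
noncomputable def pushL : FibCat.fp (BasedFunctor.comp a h) f ⥤ᵇ FibCat.fp h f :=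
  FibCat.fpLift (BasedFunctor.comp (FibCat.fpFst (BasedFunctor.comp a h) f) a)
    (FibCat.fpSnd (BasedFunctor.comp a h) f) (FibCat.fpIso (BasedFunctor.comp a h) f)

theorem surjective_pushL (ha : AlgSt.IsSurjective a) : Function.Surjective (AlgSt.Points.map (pushL a h f)) := by
  haveI : FibCat.IsFibGrpd (FibCat.fp h f).p := isFibGrpd_fp
  haveI : FibCat.IsFibGrpd (FibCat.fp (BasedFunctor.comp a h) f).p := isFibGrpd_fp
  haveI : FibCat.IsFibGrpd (FibCat.fp a (FibCat.fpFst h f)).p := isFibGrpd_fp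
  intro w
  obtain ⟨u, hu⟩ := ha (AlgSt.Points.map (FibCat.fpFst h f) w)
  obtain ⟨e, -, he⟩ := points_surjective_fp a (FibCat.fpFst h f) u w hu
  let H : FibCat.fp a (FibCat.fpFst h f) ⥤ᵇ FibCat.fp (BasedFunctor.comp a h) f :=
    FibCat.fpLift (FibCat.fpFst a (FibCat.fpFst h f))
      (BasedFunctor.comp (FibCat.fpSnd a (FibCat.fpFst h f)) (FibCat.fpSnd h f))
      ((wR (FibCat.fpIso a (FibCat.fpFst h f)) h).trans
        (wL (FibCat.fpSnd a (FibCat.fpFst h f)) (FibCat.fpIso h f)))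
  let α : BasedFunctor.comp H (pushL a h f) ≅ FibCat.fpSnd a (FibCat.fpFst h f) :=
    fpIsoMk (FibCat.fpIso a (FibCat.fpFst h f)) (Iso.refl _) fun x => by
      change h.map x.obj.iso.hom ≫ x.obj.snd.obj.iso.hom =
        (h.map x.obj.iso.hom ≫ x.obj.snd.obj.iso.hom) ≫ f.map (𝟙 x.obj.snd.obj.snd)
      simp
  exact ⟨AlgSt.Points.map H e, by rw [map_map, map_congr α, he]⟩

/-- Change of the second factor of a fibre product. -/
noncomputable def pushR (b : 𝒲 ⥤ᵇ 𝒳) : FibCat.fp h (BasedFunctor.comp b f) ⥤ᵇ FibCat.fp h f :=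
  FibCat.fpLift (FibCat.fpFst h (BasedFunctor.comp b f))
    (BasedFunctor.comp (FibCat.fpSnd h (BasedFunctor.comp b f)) b) (FibCat.fpIso h (BasedFunctor.comp b f))

theorem surjective_pushR (b : 𝒲 ⥤ᵇ 𝒳) (hb : AlgSt.IsSurjective b) :
    Function.Surjective (AlgSt.Points.map (pushR h f b)) := by
  haveI : FibCat.IsFibGrpd (FibCat.fp h f).p := isFibGrpd_fp
  haveI : FibCat.IsFibGrpd (FibCat.fp h (BasedFunctor.comp b f)).p := isFibGrpd_fp
  haveI : FibCat.IsFibGrpd (FibCat.fp b (FibCat.fpSnd h f)).p := isFibGrpd_fp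
  intro w
  obtain ⟨u, hu⟩ := hb (AlgSt.Points.map (FibCat.fpSnd h f) w)
  obtain ⟨e, -, he⟩ := points_surjective_fp b (FibCat.fpSnd h f) u w hu
  let α : BasedFunctor.comp (pasteG h f b) (pushR h f b) ≅ FibCat.fpSnd b (FibCat.fpSnd h f) :=
    fpIsoMk (Iso.refl _) (FibCat.fpIso b (FibCat.fpSnd h f)) fun x => by
      change h.map (𝟙 x.obj.snd.obj.fst) ≫ x.obj.snd.obj.iso.hom =
        (x.obj.snd.obj.iso.hom ≫ f.map x.obj.iso.inv) ≫ f.map x.obj.iso.hom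
      simp [← Functor.map_comp]
  exact ⟨AlgSt.Points.map (pasteG h f b) e, by rw [map_map, map_congr α, he]⟩

end Push

/-- Fibre products do not see isomorphisms of the first morphism. -/
theorem surjective_changeL {h h' : 𝒵 ⥤ᵇ 𝒴} (α : h ≅ h') (f : 𝒳 ⥤ᵇ 𝒴) :
    Function.Surjective (AlgSt.Points.map (FibCat.fpLift (FibCat.fpFst h f) (FibCat.fpSnd h f)
      ((wL (FibCat.fpFst h f) α.symm).trans (FibCat.fpIso h f)) : FibCat.fp h f ⥤ᵇ FibCat.fp h' f)) := by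
  haveI : FibCat.IsFibGrpd (FibCat.fp h f).p := isFibGrpd_fp
  haveI : FibCat.IsFibGrpd (FibCat.fp h' f).p := isFibGrpd_fp
  refine surjective_map_of_vert fun x => ?_
  let w := (FibCat.fpLift (FibCat.fpFst h' f) (FibCat.fpSnd h' f)
    ((wL (FibCat.fpFst h' f) α).trans (FibCat.fpIso h' f)) : FibCat.fp h' f ⥤ᵇ FibCat.fp h f).obj x
  refine ⟨w, rfl, ⟨fpHomMk (𝟙 x.obj.fst) (𝟙 x.obj.snd) ?_⟩⟩
  change h'.map (𝟙 x.obj.fst) ≫ x.obj.iso.hom =
    (α.inv.toNatTrans.app x.obj.fst ≫ α.hom.toNatTrans.app x.obj.fst ≫ x.obj.iso.hom) ≫ f.map (𝟙 x.obj.snd)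
  rw [← Category.assoc (α.inv.toNatTrans.app x.obj.fst),
    show α.inv.toNatTrans.app x.obj.fst ≫ α.hom.toNatTrans.app x.obj.fst = 𝟙 _ from app_eq_of_eq α.inv_hom_id _]
  simp

theorem surjective_changeR {f f' : 𝒳 ⥤ᵇ 𝒴} (α : f ≅ f') (h : 𝒵 ⥤ᵇ 𝒴) :
    Function.Surjective (AlgSt.Points.map (FibCat.fpLift (FibCat.fpFst h f) (FibCat.fpSnd h f)
      ((FibCat.fpIso h f).trans (wL (FibCat.fpSnd h f) α)) : FibCat.fp h f ⥤ᵇ FibCat.fp h f')) := by
  haveI : FibCat.IsFibGrpd (FibCat.fp h f).p := isFibGrpd_fp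
  haveI : FibCat.IsFibGrpd (FibCat.fp h f').p := isFibGrpd_fp
  refine surjective_map_of_vert fun x => ?_
  let w := (FibCat.fpLift (FibCat.fpFst h f') (FibCat.fpSnd h f')
    ((FibCat.fpIso h f').trans (wL (FibCat.fpSnd h f') α.symm)) : FibCat.fp h f' ⥤ᵇ FibCat.fp h f).obj x
  refine ⟨w, rfl, ⟨fpHomMk (𝟙 x.obj.fst) (𝟙 x.obj.snd) ?_⟩⟩
  change h.map (𝟙 x.obj.fst) ≫ x.obj.iso.hom =
    ((x.obj.iso.hom ≫ α.inv.toNatTrans.app x.obj.snd) ≫ α.hom.toNatTrans.app x.obj.snd) ≫ f'.map (𝟙 x.obj.snd)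
  rw [Category.assoc x.obj.iso.hom,
    show α.inv.toNatTrans.app x.obj.snd ≫ α.hom.toNatTrans.app x.obj.snd = 𝟙 _ from app_eq_of_eq α.inv_hom_id _]
  simp

theorem isQuasiCompact_of_atlas [CompactSpace (AlgSt.Points 𝒳)] (h : AlgSt.HasAtlas (LocP @Smooth) 𝒳)
    (hst : Stk.IsStack (QuotSh.J Scheme.fppfPrecoverage S) 𝒳)
    (hd : AlgSt.RepByAlgSp1 (FibCat.diag (FibCat.toSelf 𝒳))) : AlgSt.IsQuasiCompact 𝒳 :=
  isQuasiCompact_of_compactSpace (K := Scheme.fppfPrecoverage) ⟨hst, hd, h⟩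

theorem isQuasiCompact_of_surjective (hY : AlgSt.IsAlgStack Scheme.fppfPrecoverage 𝒴) [CompactSpace (AlgSt.Points 𝒳)]
    {F : 𝒳 ⥤ᵇ 𝒴} (h : Function.Surjective (AlgSt.Points.map F)) : AlgSt.IsQuasiCompact 𝒴 := by
  haveI := h.compactSpace (continuous_map_stack hY F)
  exact isQuasiCompact_of_compactSpace hY

theorem isQuasiCompact_overCat (U : Over S) [IsAffine U.left] : AlgSt.IsQuasiCompact (FibCat.overCat U) := by
  haveI : CompactSpace (AlgSt.Points (FibCat.overCat U)) := (schemePts U).compactSpace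
  exact isQuasiCompact_of_compactSpace (isAlgStack_overCat U)

/-- Quasi-compactness of a representable morphism. -/
theorem repByAlgSpWith_isQuasiCompactMor_iff (hX : AlgSt.IsAlgStack Scheme.fppfPrecoverage 𝒳)
    (hY : AlgSt.IsAlgStack Scheme.fppfPrecoverage 𝒴) {f : 𝒳 ⥤ᵇ 𝒴} (hf : AlgSt.RepByAlgSp1 f) :
    AlgSt.RepByAlgSpWith AlgSp.IsQuasiCompactMor f ↔ AlgSt.IsQuasiCompactMor Scheme.fppfPrecoverage f := by
  constructor
  · intro h 𝒵 hZ hZc g
    haveI := hZ.isStack.1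
    haveI : FibCat.IsFibGrpd (FibCat.fp g f).p := isFibGrpd_fp
    obtain ⟨W, a, hW, ha, has⟩ := hZc
    haveI : FibCat.IsFibGrpd (FibCat.fp (BasedFunctor.comp a g) f).p := isFibGrpd_fp
    obtain ⟨hs, hA, Φ, -⟩ := exists_fibHomeo hf (BasedFunctor.comp a g)
    obtain ⟨_, _, hq⟩ := (repByAlgSpWith_iff.1 h).2 W (BasedFunctor.comp a g)
    haveI := compactSpace_of_isQuasiCompactSp (hq (IsAlgSpace.yon_obj W) isQuasiCompactSp_yon (𝟙 _) (𝟙 (⟨fib (BasedFunctor.comp a g) f, hs⟩ : Sp S))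
      (ObjectProperty.homMk (fibπ (BasedFunctor.comp a g) f)) (IsPullback.of_horiz_isIso ⟨by simp⟩))
    haveI : CompactSpace (AlgSt.Points (FibCat.fp (BasedFunctor.comp a g) f)) := Φ.symm.compactSpace
    exact isQuasiCompact_of_surjective (Groth.Agent.ASt.isAlgStack_fp (isPrestack_of_isStack hY.isStack) hY.diag hZ hX g f)
      (surjective_pushL a g f (isSurjective_of_repByAlgSpWith has))
  · intro h
    refine repByAlgSpWith_iff.2 ⟨faithful_of_repByAlgSp1 hf, fun V y => ?_⟩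
    obtain ⟨hs, hA⟩ := (repByAlgSp1_iff.1 hf).2 V y
    refine ⟨hs, hA, fun Z Z' hZ hZc g fst snd sq => ?_⟩
    have hZ' : IsAlgSpace Z' := isAlgSpace_of_isPullback (IsAlgSpace.yon_obj V).diag hA hZ sq
    haveI := compactSpace_of_isQuasiCompactSp hZc
    obtain ⟨W, q, hW, hqe, hqs⟩ := exists_affine_chart hZ
    obtain ⟨k, hk⟩ := (yon S).map_surjective (q ≫ g)
    haveI : FibCat.IsFibGrpd (FibCat.fp (BasedFunctor.comp (AlgSt.overMap k) y) f).p := isFibGrpd_fp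
    obtain ⟨hs', hA', Φ, -⟩ := exists_fibHomeo hf (BasedFunctor.comp (AlgSt.overMap k) y)
    haveI := compactSpace_of_isQuasiCompact
      (Groth.Agent.ASt.isAlgStack_fp (isPrestack_of_isStack hY.isStack) hY.diag (isAlgStack_overCat W) hX
        (BasedFunctor.comp (AlgSt.overMap k) y) f)
      (h _ (isAlgStack_overCat W) (isQuasiCompact_overCat W) (BasedFunctor.comp (AlgSt.overMap k) y))
    haveI : CompactSpace (Points (⟨fib (BasedFunctor.comp (AlgSt.overMap k) y) f, hs'⟩ : Sp S)) := Φ.compactSpace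
    have sqF : IsPullback
        (ObjectProperty.homMk (clFun (restrF k y f)) :
          (⟨fib (BasedFunctor.comp (AlgSt.overMap k) y) f, hs'⟩ : Sp S) ⟶ (⟨fib y f, hs⟩ : Sp S))
        (ObjectProperty.homMk (fibπ (BasedFunctor.comp (AlgSt.overMap k) y) f))
        (ObjectProperty.homMk (fibπ y f)) ((yon S).map k) :=
      IsPullback.of_map_of_faithful (sheafToPresheaf (J S) (Type (u + 1))) (isPullback_restrF k y)
    have sq' : IsPullback (sq.lift _ _ (by rw [sqF.w, hk, Category.assoc]))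
        (ObjectProperty.homMk (fibπ (BasedFunctor.comp (AlgSt.overMap k) y) f) :
          (⟨fib (BasedFunctor.comp (AlgSt.overMap k) y) f, hs'⟩ : Sp S) ⟶ (yon S).obj W) snd q :=
      IsPullback.of_right (by rw [sq.lift_fst, ← hk]; exact sqF) (sq.lift_snd _ _ _) sq
    haveI : CompactSpace (Points Z') :=
      (surjective_map_of_isPullback sq'.flip (surjective_map_of_repWith hqs)).compactSpace (Points.continuous_map _)
    exact isQuasiCompactSp_of_compactSpace hZ'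

theorem isQuasiCompactMor_fpFst (hX : AlgSt.IsAlgStack Scheme.fppfPrecoverage 𝒳)
    (hY : AlgSt.IsAlgStack Scheme.fppfPrecoverage 𝒴) (hW : AlgSt.IsAlgStack Scheme.fppfPrecoverage 𝒲)
    {f : 𝒳 ⥤ᵇ 𝒴} (g : 𝒲 ⥤ᵇ 𝒴) (hf : AlgSt.IsQuasiCompactMor Scheme.fppfPrecoverage f) :
    AlgSt.IsQuasiCompactMor Scheme.fppfPrecoverage (FibCat.fpFst g f) := by
  intro 𝒵' hZ hZc h
  haveI := hZ.isStack.1
  haveI : FibCat.IsFibGrpd (FibCat.fp g f).p := isFibGrpd_fp
  haveI : FibCat.IsFibGrpd (FibCat.fp (BasedFunctor.comp h g) f).p := isFibGrpd_fp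
  haveI : FibCat.IsFibGrpd (FibCat.fp h (FibCat.fpFst g f)).p := isFibGrpd_fp
  have hP := Groth.Agent.ASt.isAlgStack_fp (isPrestack_of_isStack hY.isStack) hY.diag hW hX g f
  haveI := compactSpace_of_isQuasiCompact
    (Groth.Agent.ASt.isAlgStack_fp (isPrestack_of_isStack hY.isStack) hY.diag hZ hX (BasedFunctor.comp h g) f)
    (hf 𝒵' hZ hZc (BasedFunctor.comp h g))
  let M : FibCat.fp (BasedFunctor.comp h g) f ⥤ᵇ FibCat.fp g f := pushL h g f
  let N : FibCat.fp (BasedFunctor.comp h g) f ⥤ᵇ FibCat.fp h (FibCat.fpFst g f) :=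
    FibCat.fpLift (FibCat.fpFst (BasedFunctor.comp h g) f) M (Iso.refl _)
  refine isQuasiCompact_of_surjective (F := N)
    (Groth.Agent.ASt.isAlgStack_fp (isPrestack_of_isStack hW.isStack) hW.diag hZ hP h _) (surjective_map_of_vert fun w => ?_)
  let H : FibCat.fp h (FibCat.fpFst g f) ⥤ᵇ FibCat.fp (BasedFunctor.comp h g) f :=
    FibCat.fpLift (FibCat.fpFst h (FibCat.fpFst g f))
      (BasedFunctor.comp (FibCat.fpSnd h (FibCat.fpFst g f)) (FibCat.fpSnd g f))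
      ((wR (FibCat.fpIso h (FibCat.fpFst g f)) g).trans
        (wL (FibCat.fpSnd h (FibCat.fpFst g f)) (FibCat.fpIso g f)))
  refine ⟨H.obj w, rfl, ⟨fpHomMk (𝟙 w.obj.fst)
    (fpHomMk (m := M.obj (H.obj w)) (n := w.obj.snd) w.obj.iso.hom (𝟙 w.obj.snd.obj.snd) ?_) ?_⟩⟩
  · change g.map w.obj.iso.hom ≫ w.obj.snd.obj.iso.hom =
      (g.map w.obj.iso.hom ≫ w.obj.snd.obj.iso.hom) ≫ f.map (𝟙 w.obj.snd.obj.snd)
    simp
  · change h.map (𝟙 w.obj.fst) ≫ w.obj.iso.hom = 𝟙 (h.obj w.obj.fst) ≫ w.obj.iso.hom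
    simp

theorem isQuasiCompactMor_compSt (hX : AlgSt.IsAlgStack Scheme.fppfPrecoverage 𝒳)
    (hY : AlgSt.IsAlgStack Scheme.fppfPrecoverage 𝒴) (hZ : AlgSt.IsAlgStack Scheme.fppfPrecoverage 𝒵)
    {f : 𝒳 ⥤ᵇ 𝒴} {g : 𝒴 ⥤ᵇ 𝒵} (hf : AlgSt.IsQuasiCompactMor Scheme.fppfPrecoverage f)
    (hg : AlgSt.IsQuasiCompactMor Scheme.fppfPrecoverage g) :
    AlgSt.IsQuasiCompactMor Scheme.fppfPrecoverage (BasedFunctor.comp f g) := by
  intro 𝒵' hZ' hZc h
  haveI := hZ'.isStack.1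
  haveI : FibCat.IsFibGrpd (FibCat.fp h g).p := isFibGrpd_fp
  have hA := Groth.Agent.ASt.isAlgStack_fp (isPrestack_of_isStack hZ.isStack) hZ.diag hZ' hY h g
  haveI : FibCat.IsFibGrpd (FibCat.fp h (BasedFunctor.comp f g)).p := isFibGrpd_fp
  haveI : FibCat.IsFibGrpd (FibCat.fp f (FibCat.fpSnd h g)).p := isFibGrpd_fp
  haveI : FibCat.IsFibGrpd (FibCat.fp (FibCat.fpSnd h g) f).p := isFibGrpd_fp
  haveI := compactSpace_of_isQuasiCompact
    (Groth.Agent.ASt.isAlgStack_fp (isPrestack_of_isStack hY.isStack) hY.diag hA hX (FibCat.fpSnd h g) f)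
    (hf _ hA (hg 𝒵' hZ' hZc h) (FibCat.fpSnd h g))
  refine isQuasiCompact_of_surjective (F := BasedFunctor.comp (swapF (FibCat.fpSnd h g) f) (pasteG h g f))
    (Groth.Agent.ASt.isAlgStack_fp (isPrestack_of_isStack hZ.isStack) hZ.diag hZ' hX h _) ?_
  have h1 := surjective_map_of_isEquivOver (isEquivOver_swapF (FibCat.fpSnd h g) f)
  have h2 : Function.Surjective (AlgSt.Points.map (pasteG h g f)) := surjective_map_of_vert fun x => by
    refine ⟨(pasteF h g f).obj x, fp_snd_base x, ⟨fpHomMk (𝟙 x.obj.fst) (𝟙 x.obj.snd) ?_⟩⟩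
    change h.map (𝟙 x.obj.fst) ≫ x.obj.iso.hom =
      (x.obj.iso.hom ≫ g.map (𝟙 (f.obj x.obj.snd))) ≫ g.map (f.map (𝟙 x.obj.snd))
    simp
    exact (Category.comp_id _).symm
  intro z
  obtain ⟨y, rfl⟩ := h2 z
  obtain ⟨x, rfl⟩ := h1 y
  exact ⟨x, (map_map _ _ _).symm⟩

theorem isQuasiCompactMor_congr (hX : AlgSt.IsAlgStack Scheme.fppfPrecoverage 𝒳)
    (hY : AlgSt.IsAlgStack Scheme.fppfPrecoverage 𝒴) {f f' : 𝒳 ⥤ᵇ 𝒴} (α : f ≅ f')
    (hf : AlgSt.IsQuasiCompactMor Scheme.fppfPrecoverage f) :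
    AlgSt.IsQuasiCompactMor Scheme.fppfPrecoverage f' := by
  intro 𝒵 hZ hZc g
  haveI := hZ.isStack.1
  haveI : FibCat.IsFibGrpd (FibCat.fp g f).p := isFibGrpd_fp
  haveI : FibCat.IsFibGrpd (FibCat.fp g f').p := isFibGrpd_fp
  haveI := compactSpace_of_isQuasiCompact
    (Groth.Agent.ASt.isAlgStack_fp (isPrestack_of_isStack hY.isStack) hY.diag hZ hX g f) (hf 𝒵 hZ hZc g)
  exact isQuasiCompact_of_surjective
    (Groth.Agent.ASt.isAlgStack_fp (isPrestack_of_isStack hY.isStack) hY.diag hZ hX g f') (surjective_changeR α g)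

theorem isQuasiCompactMor_of_isSurjective (hX : AlgSt.IsAlgStack Scheme.fppfPrecoverage 𝒳)
    (hY : AlgSt.IsAlgStack Scheme.fppfPrecoverage 𝒴) (hZ : AlgSt.IsAlgStack Scheme.fppfPrecoverage 𝒵)
    {f : 𝒳 ⥤ᵇ 𝒴} {q : 𝒴 ⥤ᵇ 𝒵} (hs : AlgSt.IsSurjective f)
    (h : AlgSt.IsQuasiCompactMor Scheme.fppfPrecoverage (BasedFunctor.comp f q)) :
    AlgSt.IsQuasiCompactMor Scheme.fppfPrecoverage q := by
  intro 𝒵' hZ' hZc g
  haveI := hZ'.isStack.1
  haveI : FibCat.IsFibGrpd (FibCat.fp g (BasedFunctor.comp f q)).p := isFibGrpd_fp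
  haveI : FibCat.IsFibGrpd (FibCat.fp g q).p := isFibGrpd_fp
  haveI := compactSpace_of_isQuasiCompact
    (Groth.Agent.ASt.isAlgStack_fp (isPrestack_of_isStack hZ.isStack) hZ.diag hZ' hX g _) (h 𝒵' hZ' hZc g)
  exact isQuasiCompact_of_surjective
    (Groth.Agent.ASt.isAlgStack_fp (isPrestack_of_isStack hZ.isStack) hZ.diag hZ' hY g q) (surjective_pushR g q f hs)

theorem isQuasiCompactMor_of_comp (hX : AlgSt.IsAlgStack Scheme.fppfPrecoverage 𝒳)
    (hY : AlgSt.IsAlgStack Scheme.fppfPrecoverage 𝒴) (hZ : AlgSt.IsAlgStack Scheme.fppfPrecoverage 𝒵)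
    {f : 𝒳 ⥤ᵇ 𝒴} {g : 𝒴 ⥤ᵇ 𝒵}
    (h : AlgSt.IsQuasiCompactMor Scheme.fppfPrecoverage (BasedFunctor.comp f g))
    (hg : AlgSt.IsQuasiSeparatedMor g) : AlgSt.IsQuasiCompactMor Scheme.fppfPrecoverage f := by
  haveI : FibCat.IsFibGrpd (FibCat.fp g (BasedFunctor.comp f g)).p := isFibGrpd_fp
  have hP := Groth.Agent.ASt.isAlgStack_fp (isPrestack_of_isStack hZ.isStack) hZ.diag hY hX g (BasedFunctor.comp f g)
  have hd : AlgSt.RepByAlgSpWith AlgSp.IsQuasiCompactMor (graph f g) :=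
    repByAlgSpWith_graph f (repByAlgSpWith_mono (fun _ _ _ _ _ h => h.1) hg)
  have h1 := (repByAlgSpWith_isQuasiCompactMor_iff hX hP (repByAlgSp1_of_with hd)).1 hd
  rw [← graph_fst f g]
  exact isQuasiCompactMor_compSt hX hP hY h1 (isQuasiCompactMor_fpFst hX hZ hY g h)

/-- Over a quasi-separated base, quasi-compact stacks are quasi-compact over the base. -/
theorem isQuasiCompactMor_toSelf [QuasiSeparatedSpace S] (hX : AlgSt.IsAlgStack Scheme.fppfPrecoverage 𝒳)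
    (hc : AlgSt.IsQuasiCompact 𝒳) : AlgSt.IsQuasiCompactMor Scheme.fppfPrecoverage (FibCat.toSelf 𝒳) := by
  intro 𝒵' hZ' hZc h
  haveI := hZ'.isStack.1
  obtain ⟨A, a, hA, -, has⟩ := hZc
  obtain ⟨B, b, hB, -, hbs⟩ := hc
  let hS := (isDM_of_repByAlgSp (repByAlgSp_selfOver (S := S))).1
  have hfp : AlgSt.IsAlgStack Scheme.fppfPrecoverage (FibCat.fp h (FibCat.toSelf 𝒳)) :=
    Groth.Agent.ASt.isAlgStack_fp (isPrestack_of_isStack hS.isStack) hS.diag hZ' hX h _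
  haveI : QuasiCompact A.hom := quasiCompact_of_compactSpace A.hom
  haveI : QuasiCompact B.hom := quasiCompact_of_compactSpace B.hom
  let P : Over S := Over.mk (pullback.fst A.hom B.hom ≫ A.hom)
  let p₁ : P ⟶ A := Over.homMk (pullback.fst A.hom B.hom) rfl
  let p₂ : P ⟶ B := Over.homMk (pullback.snd A.hom B.hom) pullback.condition.symm
  haveI : CompactSpace ↥P.left := QuasiCompact.compactSpace_of_compactSpace (pullback.fst A.hom B.hom)
  haveI : CompactSpace (AlgSt.Points (FibCat.overCat P)) := (schemePts P).compactSpace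
  let a' := BasedFunctor.comp a h
  let b' := BasedFunctor.comp b (FibCat.toSelf 𝒳)
  haveI : FibCat.IsFibGrpd (FibCat.fp a' b').p := isFibGrpd_fp
  haveI : FibCat.IsFibGrpd (FibCat.fp h b').p := isFibGrpd_fp
  haveI : FibCat.IsFibGrpd (FibCat.fp h (FibCat.toSelf 𝒳)).p := isFibGrpd_fp
  have key : ∀ k : (FibCat.overCat P).obj, (BasedFunctor.comp (AlgSt.overMap p₁) a').obj k =
      (BasedFunctor.comp (AlgSt.overMap p₂) b').obj k := fun k =>
    ((BasedFunctor.comp (AlgSt.overMap p₁) a').w_obj k).trans ((BasedFunctor.comp (AlgSt.overMap p₂) b').w_obj k).symm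
  let M : FibCat.overCat P ⥤ᵇ FibCat.fp a' b' := FibCat.fpLift (AlgSt.overMap p₁) (AlgSt.overMap p₂)
    (BasedNatIso.mkNatIso (NatIso.ofComponents (fun k => eqToIso (key k)) fun {k l} m => by
      have e1 : (BasedFunctor.comp (AlgSt.overMap p₁) a').map m = _ := map_w (BasedFunctor.comp (AlgSt.overMap p₁) a') m
      have e2 : (BasedFunctor.comp (AlgSt.overMap p₂) b').map m = _ := map_w (BasedFunctor.comp (AlgSt.overMap p₂) b') m
      rw [eqToIso.hom, eqToIso.hom]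
      refine (congrArg (fun t => t ≫ eqToHom (key l)) e1).trans
        (Eq.trans ?_ (congrArg (fun t => eqToHom (key k) ≫ t) e2).symm)
      simp) fun k => isHomLift_id_of_map (𝒳 := FibCat.selfOver (Over S)) _
        ((BasedFunctor.comp (AlgSt.overMap p₁) a').w_obj k) (e := key k) rfl)
  have hM : Function.Surjective (AlgSt.Points.map M) := surjective_map_of_vert fun w => by
    obtain ⟨T, ⟨⟨⟩⟩, u⟩ := id w.obj.fst
    have e : w.obj.snd.left = w.obj.fst.left := fp_snd_base w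
    let v : w.obj.fst.left ⟶ B := eqToHom e.symm ≫ w.obj.snd.hom
    let t : w.obj.fst.left ⟶ P := Over.homMk (pullback.lift w.obj.fst.hom.left v.left
      ((Over.w w.obj.fst.hom).trans (Over.w v).symm)) (by simp [P])
    refine ⟨ov t, rfl, ⟨fpHomMk (Over.homMk (𝟙 _) (Over.OverMorphism.ext (by simp [M, FibCat.fpLift, AlgSt.overMap, t, p₁])))
      (Over.homMk (eqToHom e.symm) (Over.OverMorphism.ext (by simp [M, FibCat.fpLift, AlgSt.overMap, t, p₂, v]))) ?_⟩⟩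
    exact (FibCat.selfOver (Over S)).p.map_injective (by
      simp [map_w, fp_iso_map, M, FibCat.fpLift, ov_p_map, BasedNatIso.mkNatIso, eqToHom_map]
      erw [Category.id_comp]
      exact eqToHom_trans _ _)
  haveI := hM.compactSpace (continuous_map_stack
    (Groth.Agent.ASt.isAlgStack_fp (isPrestack_of_isStack hS.isStack) hS.diag (isAlgStack_overCat A) (isAlgStack_overCat B) a' b') M)
  haveI := compactSpace_of_isQuasiCompact (Groth.Agent.ASt.isAlgStack_fp (isPrestack_of_isStack hS.isStack) hS.diag hZ'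
      (isAlgStack_overCat B) h b')
    (isQuasiCompact_of_surjective (Groth.Agent.ASt.isAlgStack_fp (isPrestack_of_isStack hS.isStack) hS.diag hZ'
      (isAlgStack_overCat B) h b') (surjective_pushL a h b' (isSurjective_of_repByAlgSpWith has)))
  exact isQuasiCompact_of_surjective hfp (surjective_pushR h (FibCat.toSelf 𝒳) b (isSurjective_of_repByAlgSpWith hbs))

end Groth.Agent.ASt
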