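import Groth.Agent.ASt.LocQDesc
import Groth.Agent.ASp.Univ
/-!
Descent of properties of representable morphisms.
-/

set_option backward.isDefEq.respectTransparency false
set_option backward.isDefEq.respectTransparency.types false
set_option linter.unusedSectionVars false

universe u

open CategoryTheory CategoryTheory.Limits AlgebraicGeometry Opposite Topology

namespace Groth.Agent.ASt

open _root_.AlgSp Groth.Agent.ASp

variable {S : Scheme.{u}} {𝒳 𝒴 𝒵 : AlgSt.Cat S} [h𝒳 : FibCat.IsFibGrpd 𝒳.p] [h𝒴 : FibCat.IsFibGrpd 𝒴.p]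
  [h𝒵 : FibCat.IsFibGrpd 𝒵.p] {P : MorphismProperty (Sp S)} {f : 𝒳 ⥤ᵇ 𝒴}

/-- A property local on the base is tested after an fppf change of the test scheme. -/
theorem fibHas_of_cover (hP₂ : IsLocalOnBase IsFppfCover P) (hf : AlgSt.RepByAlgSp1 f) {U T : Over S}
    (l : T ⟶ U) [Flat l.left] [LocallyOfFinitePresentation l.left] [Surjective l.left]
    (y : FibCat.overCat U ⥤ᵇ 𝒴) (h : FibHas P (BasedFunctor.comp (AlgSt.overMap l) y) f) : FibHas P y f := by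
  obtain ⟨hs, hA⟩ := (repByAlgSp1_iff.1 hf).2 U y
  obtain ⟨hs', hA', hP⟩ := h
  refine ⟨hs, hA, (hP₂ (ι := PUnit) (fun _ => (yon S).obj T) (fun _ => (yon S).map l) (IsAlgSpace.yon_obj U)
    (fun _ => IsAlgSpace.yon_obj T)
    ⟨fun _ => ⟨locP_of_prop_left (inferInstanceAs (Flat l.left)),
      locP_of_prop_left (inferInstanceAs (LocallyOfFinitePresentation l.left))⟩, fun x => ?_⟩
    _ hA (fun _ => _) (fun _ => _) (fun _ => _) (fun _ => hA')
    (fun _ => IsPullback.of_map_of_faithful (sheafToPresheaf (J S) (Type (u + 1))) (isPullback_restrF l y) :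
      ∀ _ : PUnit, IsPullback (ObjectProperty.homMk (clFun (restrF l y f)) :
          (⟨fib (BasedFunctor.comp (AlgSt.overMap l) y) f, hs'⟩ : Sp S) ⟶ (⟨fib y f, hs⟩ : Sp S))
        (ObjectProperty.homMk (fibπ (BasedFunctor.comp (AlgSt.overMap l) y) f))
        (ObjectProperty.homMk (fibπ y f)) ((yon S).map l))).2 fun _ => hP⟩
  obtain ⟨t, ht⟩ := surjective_map_of_repWith (repWith_yon_map (P := @Surjective) (g := l) (inferInstanceAs (Surjective l.left))) x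
  exact ⟨PUnit.unit, t, ht⟩

theorem fibHas_restr (hPb : ∀ ⦃X₁ Y₁ X₂ Y₂ : Sp S⦄, IsAlgSpace X₁ → IsAlgSpace Y₁ → IsAlgSpace X₂ →
      IsAlgSpace Y₂ → ∀ (a : X₁ ⟶ Y₁) (b : Y₂ ⟶ Y₁) (a' : X₂ ⟶ Y₂) (b' : X₂ ⟶ X₁),
      IsPullback b' a' a b → P a → P a')
    (hf : AlgSt.RepByAlgSp1 f) {U T : Over S} (l : T ⟶ U) (y : FibCat.overCat U ⥤ᵇ 𝒴) (h : FibHas P y f) :
    FibHas P (BasedFunctor.comp (AlgSt.overMap l) y) f := by
  obtain ⟨hs, hA, hP⟩ := h
  obtain ⟨hs', hA'⟩ := (repByAlgSp1_iff.1 hf).2 T (BasedFunctor.comp (AlgSt.overMap l) y)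
  exact ⟨hs', hA', hPb hA (IsAlgSpace.yon_obj U) hA' (IsAlgSpace.yon_obj T) _ _ _ _
    (IsPullback.of_map_of_faithful (sheafToPresheaf (J S) (Type (u + 1))) (isPullback_restrF l y) :
      IsPullback (ObjectProperty.homMk (clFun (restrF l y f)) :
          (⟨fib (BasedFunctor.comp (AlgSt.overMap l) y) f, hs'⟩ : Sp S) ⟶ (⟨fib y f, hs⟩ : Sp S))
        (ObjectProperty.homMk (fibπ (BasedFunctor.comp (AlgSt.overMap l) y) f))
        (ObjectProperty.homMk (fibπ y f)) ((yon S).map l)) hP⟩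

theorem exists_overMap_iso {W U : Over S} {a : FibCat.overCat W ⥤ᵇ 𝒴}
    (ha : AlgSt.RepByAlgSpWith (LocP @Smooth) a) (has : AlgSt.RepByAlgSpWith IsSurjectiveMor a)
    (x : FibCat.overCat U ⥤ᵇ 𝒴) :
    ∃ (V : Over S) (l : V ⟶ U) (u : V ⟶ W), Smooth l.left ∧ Surjective l.left ∧
      Nonempty (BasedFunctor.comp (AlgSt.overMap l) x ≅ BasedFunctor.comp (AlgSt.overMap u) a) := by
  obtain ⟨V, l, hl, hls, u, φ, hφ⟩ := exists_lift_atlas ha has x
  refine ⟨V, l, u, hl, hls, ⟨funIso (y := BasedFunctor.comp (AlgSt.overMap l) x)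
    (y' := BasedFunctor.comp (AlgSt.overMap u) a)
    (x.map (ovHom (𝟙 V) rfl : ov (𝟙 V ≫ l) ⟶ ov l) ≫ φ ≫
      a.map (ovHom (𝟙 V) (by simp) : ov u ⟶ ov (𝟙 V ≫ u))) ?_⟩⟩
  simp [map_w, hφ, ov_p_map]
  erw [Category.id_comp, Category.id_comp]
  exact eqToHom_trans _ _

/-- For representable morphisms the property read on squares is the property of all base changes. -/
theorem repByAlgSpWith_of_locQ (hP : IsSmoothLocalST P)
    (hPb : ∀ ⦃X₁ Y₁ X₂ Y₂ : Sp S⦄, IsAlgSpace X₁ → IsAlgSpace Y₁ → IsAlgSpace X₂ →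
      IsAlgSpace Y₂ → ∀ (a : X₁ ⟶ Y₁) (b : Y₂ ⟶ Y₁) (a' : X₂ ⟶ Y₂) (b' : X₂ ⟶ X₁),
      IsPullback b' a' a b → P a → P a')
    (hP₂ : IsLocalOnBase IsFppfCover P) [P.RespectsIso]
    (hY : AlgSt.IsAlgStack Scheme.fppfPrecoverage 𝒴) (hf : AlgSt.RepByAlgSp1 f) (h : AlgSt.LocQ P f) :
    AlgSt.RepByAlgSpWith P f := by
  refine repByAlgSpWith_iff.2 ⟨faithful_of_repByAlgSp1 hf, fun U y => ?_⟩
  obtain ⟨W, a, ha, has⟩ := hY.atlas
  obtain ⟨hs, hA, C, p, E, k, hpe, hps, hcomp, ⟨α⟩, -, hE⟩ := exists_chart_of_fib hf a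
  have h0 : FibHas P a f := ⟨hs, hA, smLoc_descend hP hA (IsAlgSpace.yon_obj C) (IsAlgSpace.yon_obj W)
    (locP_of_repWith (repWith_mono (fun _ _ g (hg : Etale g) => (haveI := hg; inferInstance : Smooth g)) hpe))
    (surjective_map_of_repWith hps) (hcomp ▸ smLoc_of_locQ hP hY.diag h ha
      (hE (P := LocP @Smooth) hpe fun v hv => locP_of_repWith (repWith_yon_map
        (haveI : Etale v.left := hv; inferInstance))) α)⟩
  obtain ⟨V, l, u, hl, hls, ⟨β⟩⟩ := exists_overMap_iso ha has y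
  exact fibHas_of_cover hP₂ hf l y (fibHas_congr β.symm (fibHas_restr hPb hf u a h0))

/-- Properties of representable morphisms descend along fppf morphisms of stacks. -/
theorem repByAlgSpWith_of_fppf (hP₂ : IsLocalOnBase IsFppfCover P) [P.RespectsIso]
    (hf : AlgSt.RepByAlgSp1 f) {z : 𝒵 ⥤ᵇ 𝒴} {W : Over S} (c : FibCat.overCat W ⥤ᵇ 𝒵)
    (hfl : AlgSt.RepByAlgSpWith (LocP @Flat) (BasedFunctor.comp c z))
    (hfp : AlgSt.RepByAlgSpWith (LocP @LocallyOfFinitePresentation) (BasedFunctor.comp c z))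
    (hsu : AlgSt.IsSurjective (BasedFunctor.comp c z))
    (h : AlgSt.RepByAlgSpWith P (FibCat.fpFst z f)) : AlgSt.RepByAlgSpWith P f := by
  haveI : FibCat.IsFibGrpd (FibCat.fp z f).p := isFibGrpd_fp
  refine repByAlgSpWith_iff.2 ⟨faithful_of_repByAlgSp1 hf, fun U y => ?_⟩
  obtain ⟨hs, hA, T, p, E, l, hpe, hps, hcomp, ⟨α⟩, -, -⟩ := exists_chart_of_fib (repByAlgSp1_of_with hfl) y
  obtain ⟨_, _, q1⟩ := (repByAlgSpWith_iff.1 hfl).2 U y
  obtain ⟨_, _, q2⟩ := (repByAlgSpWith_iff.1 hfp).2 U y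
  obtain ⟨_, _, q3⟩ :=
    (repByAlgSpWith_iff.1 (repByAlgSpWith_surjective_of_isSurjective (repByAlgSp1_of_with hfl) hsu)).2 U y
  haveI : Flat l.left := prop_chart hpe hcomp q1
  haveI : LocallyOfFinitePresentation l.left := prop_chart hpe hcomp q2
  haveI : Surjective l.left := surjective_left_of_map (by
    rw [← hcomp, show AlgSp.Points.map (p ≫ _) = AlgSp.Points.map _ ∘ AlgSp.Points.map p from
      funext (AlgSp.Points.map_comp p _)]
    exact q3.comp (surjective_map_of_repWith hps))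
  haveI : FibCat.IsFibGrpd (FibCat.fp y (BasedFunctor.comp c z)).p := isFibGrpd_fp
  let g' : FibCat.overCat T ⥤ᵇ 𝒵 :=
    BasedFunctor.comp (BasedFunctor.comp E (FibCat.fpSnd y (BasedFunctor.comp c z))) c
  have β : BasedFunctor.comp g' z ≅ BasedFunctor.comp (AlgSt.overMap l) y :=
    (wL E (FibCat.fpIso y (BasedFunctor.comp c z))).symm.trans (wR α y)
  have h1 : FibHas P g' (FibCat.fpFst z f) := (repByAlgSpWith_iff.1 h).2 T g'
  have h2 : FibHas P (BasedFunctor.comp g' z) f :=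
    (fibHas_iff_of_bijective (bcF z f g') (fpHom_bcF z g') (bijective_clF_bcF z f g')).1 h1
  exact fibHas_of_cover hP₂ hf l y (fibHas_congr β h2)

end Groth.Agent.ASt
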