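import Groth.Agent.ASt.LocNoeth
import Groth.Agent.ASt.RepDesc
import Groth.Agent.ASt.QcMor
/-!
Immersions into locally Noetherian algebraic stacks.
-/

set_option backward.isDefEq.respectTransparency false
set_option backward.isDefEq.respectTransparency.types false
set_option linter.unusedSectionVars false

universe u

open CategoryTheory CategoryTheory.Limits AlgebraicGeometry Opposite

namespace Groth.Agent.ASt

open _root_.AlgSp Groth.Agent.ASp

variable {S : Scheme.{u}}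

theorem isLocalOnBase_fppf_isQuasiCompactMor :
    IsLocalOnBase (IsFppfCover (S := S)) AlgSp.IsQuasiCompactMor := by
  intro ι Y Yi g hY hYi hτ X f hX Xi p q hXi hsq
  exact isLocalOnBase_isQuasiCompactMor Yi g hY hYi
    (isFpqcCover_of_fppf hY hYi (fun i => (hτ.1 i).1) (fun i => (hτ.1 i).2) hτ.2) f hX Xi p q hXi hsq

/-- An immersion into a locally Noetherian scheme is quasi-compact. -/
theorem isQuasiCompactMor_of_immersion {W : Over S} [IsLocallyNoetherian W.left] {F : Sp S}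
    {π : F ⟶ (yon S).obj W} (h : RepWith @IsImmersion π) : AlgSp.IsQuasiCompactMor π := by
  have sq := h.1.isPullback (𝟙 ((yon S).obj W))
  haveI : IsImmersion (h.1.snd (𝟙 ((yon S).obj W))).left := h.2 _ _ _ sq
  haveI : IsIso (h.1.fst (𝟙 ((yon S).obj W))) := sq.isIso_fst_of_isIso
  have hz : QuasiCompact (h.1.snd (𝟙 ((yon S).obj W))).left := by
    rw [← Scheme.Hom.liftCoborder_ι (h.1.snd (𝟙 ((yon S).obj W))).left]
    infer_instance
  refine ((AlgSp.IsQuasiCompactMor (S := S)).arrow_mk_iso_iff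
    (Arrow.isoMk (asIso (h.1.fst (𝟙 ((yon S).obj W)))) (Iso.refl _) (by simpa using sq.w))).1
    (isQuasiCompactMor_of_repWith (repWith_yon_map hz))

variable {𝒳 𝒴 : AlgSt.Cat S}

theorem immersion_locNoeth (h𝒳 : AlgSt.IsAlgStack Scheme.fppfPrecoverage 𝒳)
    (h𝒴 : AlgSt.IsAlgStack Scheme.fppfPrecoverage 𝒴) {j : 𝒳 ⥤ᵇ 𝒴} (hj : AlgSt.IsImm j)
    (hn : AlgSt.SmoothLocally (fun T ↦ IsLocallyNoetherian T) 𝒴) :
    AlgSt.SmoothLocally (fun T ↦ IsLocallyNoetherian T) 𝒳 ∧
      AlgSt.IsQuasiCompactMor Scheme.fppfPrecoverage j := by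
  haveI := h𝒳.isStack.1
  haveI := h𝒴.isStack.1
  have hj1 := repByAlgSp1_of_with hj
  obtain ⟨W, a, ha, has⟩ := h𝒴.atlas
  haveI : IsLocallyNoetherian W.left := hn W a ha
  obtain ⟨hs', hA', hπ⟩ := (repByAlgSpWith_iff.1 hj).2 W a
  constructor
  · obtain ⟨hs, hA, C, p, E, k, hpe, hps, hcomp, -, -, hE⟩ := exists_chart_of_fib hj1 a
    haveI : FibCat.IsFibGrpd (FibCat.fp a j).p := isFibGrpd_fp
    haveI : LocallyOfFiniteType k.left := prop_chart hpe hcomp
      (locP_of_repWith (repWith_mono (fun _ _ g (hg : IsImmersion g) =>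
        (haveI := hg; inferInstance : LocallyOfFiniteType g)) hπ))
    haveI : IsLocallyNoetherian C.left := LocallyOfFiniteType.isLocallyNoetherian k.left
    refine smoothLocally_of_chart isLocallyNoetherian_smLocal
      (x := BasedFunctor.comp E (FibCat.fpSnd a j))
      (repByAlgSpWith_comp compLocal_smooth
        (hE (P := LocP @Smooth) hpe fun v hv => locP_of_repWith (repWith_yon_map
          (haveI : Etale v.left := hv; inferInstance))) (repByAlgSpWith_fpSnd j ha))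
      (repByAlgSpWith_comp compLocal_surjective
        (hE (P := IsSurjectiveMor) hps fun v hv => surjective_map_of_repWith (repWith_yon_map hv))
        (repByAlgSpWith_fpSnd j has)) inferInstance
  · refine (repByAlgSpWith_isQuasiCompactMor_iff h𝒳 h𝒴 hj1).1
      (repByAlgSpWith_iff.2 ⟨faithful_of_repByAlgSp1 hj1, fun U y => ?_⟩)
    have hPb : ∀ ⦃X₁ Y₁ X₂ Y₂ : Sp S⦄, IsAlgSpace X₁ → IsAlgSpace Y₁ → IsAlgSpace X₂ →
        IsAlgSpace Y₂ → ∀ (a : X₁ ⟶ Y₁) (b : Y₂ ⟶ Y₁) (a' : X₂ ⟶ Y₂) (b' : X₂ ⟶ X₁),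
        IsPullback b' a' a b → AlgSp.IsQuasiCompactMor a → AlgSp.IsQuasiCompactMor a' :=
      fun _ _ _ _ _ _ _ _ _ _ _ _ sq h _ _ hZ hZc g fst snd sq' =>
        h hZ hZc _ _ _ (sq'.paste_horiz sq)
    obtain ⟨V, l, w, hl, hls, ⟨β⟩⟩ := exists_overMap_iso ha has y
    exact fibHas_of_cover isLocalOnBase_fppf_isQuasiCompactMor hj1 l y
      (fibHas_congr β.symm (fibHas_restr hPb hj1 w a ⟨hs', hA', isQuasiCompactMor_of_immersion hπ⟩))

end Groth.Agent.ASt
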