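import Groth.Agent.ASt.DiagLft
import Groth.Agent.ASt.DiagConv
/-!
The inertia is the base change of the diagonal along itself, its neutral section is the second diagonal.
-/

set_option backward.isDefEq.respectTransparency false
set_option backward.isDefEq.respectTransparency.types false
set_option linter.unusedSectionVars false

universe v u

open CategoryTheory CategoryTheory.Limits AlgebraicGeometry

namespace Groth.Agent.ASt

open _root_.AlgSp

variable {S : Scheme.{u}} {𝒳 𝒴 : AlgSt.Cat S} [h𝒳 : FibCat.IsFibGrpd 𝒳.p] [h𝒴 : FibCat.IsFibGrpd 𝒴.p]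
variable (f : 𝒳 ⥤ᵇ 𝒴)

/-- The diagonal applied to a morphism. -/
theorem diag_map_fst {x y : 𝒳.obj} (a : x ⟶ y) : ((FibCat.diag f).map a).hom.fst = a := rfl

theorem diag_map_snd {x y : 𝒳.obj} (a : x ⟶ y) : ((FibCat.diag f).map a).hom.snd = a := rfl

theorem map_aut_vert (o : (FibCat.inertia f).obj) : 𝒳.p.map o.aut.hom = 𝟙 _ := by
  have h := map_w f o.aut.hom
  rw [show f.map o.aut.hom = 𝟙 _ from o.map_aut, CategoryTheory.Functor.map_id] at h
  rw [← cancel_epi (eqToHom (f.w_obj o.pt)), ← cancel_mono (eqToHom (f.w_obj o.pt).symm)]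
  simpa using h.symm

/-- The pair of an automorphism and the identity, as an automorphism of the diagonal. -/
noncomputable def inertiaAut (o : (FibCat.inertia f).obj) :
    (FibCat.diag f).obj o.pt ≅ (FibCat.diag f).obj o.pt :=
  haveI : FibCat.IsFibGrpd (FibCat.fp f f).p := isFibGrpd_fp
  letI φ : (FibCat.diag f).obj o.pt ⟶ (FibCat.diag f).obj o.pt := fpHomMk o.aut.hom (𝟙 o.pt) (by
    change f.map o.aut.hom ≫ 𝟙 _ = 𝟙 _ ≫ f.map (𝟙 o.pt)
    rw [show f.map o.aut.hom = 𝟙 _ from o.map_aut, f.toFunctor.map_id])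
  haveI : IsIso φ := isIso_of_vert φ (e := rfl) ((map_aut_vert f o).trans (eqToHom_refl _ rfl).symm)
  asIso φ

/-- `(x, α) ↦ (x, x, (α, 𝟙))`. -/
noncomputable def inertiaFp : FibCat.inertia f ⥤ᵇ FibCat.fp (FibCat.diag f) (FibCat.diag f) where
  toFunctor :=
    { obj := fun o => fpMk o.pt o.pt rfl (inertiaAut f o)
        ((map_aut_vert f o).trans (eqToHom_refl _ rfl).symm)
      map := fun {o o'} m => fpHomMk m.hom m.hom (fp_hom_ext m.comm.symm
        ((Category.comp_id m.hom).trans (Category.id_comp m.hom).symm))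
      map_id := fun o => fp_hom_ext rfl rfl
      map_comp := fun m n => fp_hom_ext rfl rfl }
  w := rfl

theorem isEquivOver_inertiaFp : FibCat.IsEquivOver (inertiaFp f) := by
  haveI : FibCat.IsFibGrpd (FibCat.fp f f).p := isFibGrpd_fp
  haveI : FibCat.IsFibGrpd (FibCat.fp (FibCat.diag f) (FibCat.diag f)).p := isFibGrpd_fp
  haveI : (inertiaFp f).toFunctor.Faithful :=
    ⟨fun h => FibCat.InertiaObj.hom_ext (congrArg (fun k => k.hom.fst) h)⟩
  haveI : (inertiaFp f).toFunctor.Full := ⟨fun {o o'} k => by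
    have w1 : k.hom.fst ≫ o'.aut.hom = o.aut.hom ≫ k.hom.snd := congrArg (fun m => m.hom.fst) k.hom.w
    have w2 : k.hom.fst ≫ 𝟙 o'.pt = 𝟙 o.pt ≫ k.hom.snd := congrArg (fun m => m.hom.snd) k.hom.w
    have w3 : k.hom.fst = k.hom.snd := (Category.comp_id k.hom.fst).symm.trans (w2.trans (Category.id_comp k.hom.snd))
    exact ⟨⟨k.hom.fst, by rw [w1, ← w3]⟩, fp_hom_ext rfl w3⟩⟩
  refine isEquivOver_of_vert _ fun m => ?_
  let x := m.obj.fst
  let y := m.obj.snd
  let a : x ⟶ y := m.obj.iso.hom.hom.fst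
  let b : x ⟶ y := m.obj.iso.hom.hom.snd
  have hv : 𝒳.p.map a = eqToHom (fp_snd_base m).symm :=
    (fp_iso_map m).trans rfl
  have hw : f.map a ≫ 𝟙 _ = 𝟙 _ ≫ f.map b := m.obj.iso.hom.hom.w
  have hab : f.map a = f.map b := (Category.comp_id _).symm.trans (hw.trans (Category.id_comp _))
  have hbv : 𝒳.p.map b = eqToHom (fp_snd_base m).symm := (map_inj_w f hab.symm).trans hv
  haveI : IsIso a := isIso_of_vert a hv
  haveI : IsIso b := isIso_of_vert b hbv
  let o : (FibCat.inertia f).obj := ⟨x, asIso a ≪≫ (asIso b).symm, by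
    change f.map (a ≫ inv b) = 𝟙 _
    rw [f.toFunctor.map_comp, CategoryTheory.Functor.map_inv]
    simp [hab]⟩
  let φ : (inertiaFp f).obj o ⟶ m := fpHomMk (𝟙 x) b (fp_hom_ext
    (show 𝟙 x ≫ a = (a ≫ inv b) ≫ b by simp) (show 𝟙 x ≫ b = 𝟙 x ≫ b from rfl))
  have hφ : (FibCat.fp (FibCat.diag f) (FibCat.diag f)).p.map φ = eqToHom rfl :=
    (𝒳.p.map_id x).trans (eqToHom_refl _ rfl).symm
  haveI : IsIso φ := isIso_of_vert φ hφ
  exact ⟨o, rfl, asIso φ, hφ⟩

theorem isFibGrpd_inertia : FibCat.IsFibGrpd (FibCat.inertia f).p := by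
  haveI : FibCat.IsFibGrpd (FibCat.fp f f).p := isFibGrpd_fp
  haveI : FibCat.IsFibGrpd (FibCat.fp (FibCat.diag f) (FibCat.diag f)).p := isFibGrpd_fp
  obtain ⟨G, hG, -, -⟩ := isEquivOver_symm (isEquivOver_inertiaFp f)
  exact isFibGrpd_of_isEquivOver hG

theorem inertiaFp_fst :
    BasedFunctor.comp (inertiaFp f) (FibCat.fpFst (FibCat.diag f) (FibCat.diag f)) = FibCat.inertiaToBase f :=
  basedFunctor_ext rfl

theorem inertiaNeutral_toBase :
    BasedFunctor.comp (FibCat.inertiaNeutral f) (FibCat.inertiaToBase f) = BasedFunctor.id 𝒳 :=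
  basedFunctor_ext rfl

variable {P : MorphismProperty (Sp S)}

/-- The inertia has the properties of the diagonal. -/
theorem repByAlgSpWith_inertiaToBase (hΔ : AlgSt.RepByAlgSpWith P (FibCat.diag f)) :
    AlgSt.RepByAlgSpWith P (FibCat.inertiaToBase f) := by
  haveI : FibCat.IsFibGrpd (FibCat.fp f f).p := isFibGrpd_fp
  haveI : FibCat.IsFibGrpd (FibCat.fp (FibCat.diag f) (FibCat.diag f)).p := isFibGrpd_fp
  haveI := isFibGrpd_inertia f
  rw [← inertiaFp_fst]
  exact repByAlgSpWith_precomp (isEquivOver_inertiaFp f) (repByAlgSpWith_fpFst _ hΔ)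

/-- The neutral section has the properties of the diagonal of the inertia. -/
theorem repByAlgSpWith_inertiaNeutral [P.RespectsIso] (hP : CompLocal P)
    (hid : ∀ U : Over S, P (𝟙 ((yon S).obj U)))
    (hΔ : AlgSt.RepByAlgSpWith P (FibCat.diag (FibCat.inertiaToBase f))) :
    AlgSt.RepByAlgSpWith P (FibCat.inertiaNeutral f) := by
  haveI := isFibGrpd_inertia f
  exact repByAlgSpWith_section hP hid (eqToIso (inertiaNeutral_toBase f)) hΔ

/-- The second diagonal has the properties of the neutral section. -/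
theorem repByAlgSpWith_diag_diag (h : AlgSt.RepByAlgSpWith P (FibCat.inertiaNeutral f)) :
    AlgSt.RepByAlgSpWith P (FibCat.diag (FibCat.diag f)) := by
  haveI : FibCat.IsFibGrpd (FibCat.fp f f).p := isFibGrpd_fp
  haveI : FibCat.IsFibGrpd (FibCat.fp (FibCat.diag f) (FibCat.diag f)).p := isFibGrpd_fp
  haveI := isFibGrpd_inertia f
  refine repByAlgSpWith_congr (fpIsoMk (A := BasedFunctor.comp (FibCat.inertiaNeutral f) (inertiaFp f))
    (B := FibCat.diag (FibCat.diag f)) (Iso.refl _) (Iso.refl _) fun x => ?_)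
    (repByAlgSpWith_postcomp _ (isEquivOver_inertiaFp f) h)
  exact fp_hom_ext ((Category.id_comp _).trans (Category.comp_id _).symm)
    ((Category.id_comp _).trans (Category.comp_id _).symm)

end Groth.Agent.ASt
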