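import Groth.Agent.ASt.Calc
/-!
Invariance of representability under 2-isomorphisms and equivalences over the base; symmetry of fibre
products; fibres over a target fibred in setoids.
-/

set_option backward.isDefEq.respectTransparency false
set_option backward.isDefEq.respectTransparency.types false
set_option linter.unusedSectionVars false

universe v₄ u₄ v₃ u₃ v₂ u₂ v u

open CategoryTheory CategoryTheory.Limits AlgebraicGeometry Opposite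

namespace Groth.Agent.ASt

open _root_.AlgSp

variable {S : Scheme.{u}} {𝒳 𝒳' 𝒴 𝒴' 𝒵 : AlgSt.Cat S}

section IsoFunctor

variable [h𝒳 : FibCat.IsFibGrpd 𝒳.p] [h𝒴 : FibCat.IsFibGrpd 𝒴.p] {U : Over S}
variable (y : FibCat.overCat U ⥤ᵇ 𝒴) {f f' f'' : 𝒳 ⥤ᵇ 𝒴}

/-- Change of the functor along a 2-isomorphism. -/
noncomputable def changeR (α : f ≅ f') : FibCat.fp y f ⥤ᵇ FibCat.fp y f' :=
  FibCat.fpLift (FibCat.fpFst y f) (FibCat.fpSnd y f) (FibCat.fpIso y f ≪≫ wL (FibCat.fpSnd y f) α)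

theorem clF_changeR {T : Over S} (α : f ≅ f') (k : T ⟶ U) (x : 𝒳.obj) (hx : 𝒳.p.obj x = T)
    (φ : y.obj (ov k) ⟶ f.obj x) (hφ) {hφ'} :
    clF (changeR y α) T (fpEl k x hx φ hφ) = fpEl k x hx (φ ≫ α.hom.toNatTrans.app x) hφ' :=
  cl_eq_iff.2 ⟨fpHomMk (𝟙 _) (𝟙 _) (by
    simp [changeR, fpObj, fpMk, FibCat.fpLift, FibCat.fpIso, BasedNatIso.mkNatIso, wL, Stk.restr]
    rfl), ((FibCat.overCat U).p.map_id _).trans rfl⟩

theorem fpHom_changeR (α : f ≅ f') (T : Over S) (c : ClType (FibCat.fp y f) T) :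
    fpHom (clF (changeR y α) T c) = fpHom c := by
  obtain ⟨m, hm, rfl⟩ := cl_exists c
  rfl

theorem bijective_changeR (α : f ≅ f') (T : Over S) : Function.Bijective (clF (changeR y α) T) := by
  have aux : ∀ {f₁ f₂ : 𝒳 ⥤ᵇ 𝒴} (β : f₁ ≅ f₂) (c : ClType (FibCat.fp y f₁) T),
      clF (changeR y β.symm) T (clF (changeR y β) T c) = c := fun {f₁ f₂} β c => by
    obtain ⟨k, x, hx, φ, hφ, rfl⟩ := fpEl_exists c
    have hb : 𝒴.p.map (φ ≫ β.hom.toNatTrans.app x) = eqToHom (((y.w_obj (ov k)).trans (ov_base k)).trans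
        (hx.symm.trans (f₂.w_obj x).symm)) := by
      rw [Functor.map_comp, hφ, map_app _ _ β.hom x, eqToHom_trans]
    have hb' : 𝒴.p.map ((φ ≫ β.hom.toNatTrans.app x) ≫ β.symm.hom.toNatTrans.app x) =
        eqToHom (((y.w_obj (ov k)).trans (ov_base k)).trans (hx.symm.trans (f₁.w_obj x).symm)) := by
      rw [Functor.map_comp, hb, map_app _ _ β.symm.hom x, eqToHom_trans]
    rw [clF_changeR y β k x hx φ hφ (hφ' := hb), clF_changeR y β.symm k x hx _ hb (hφ' := hb')]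
    refine fpEl_eq_iff.2 ⟨𝟙 x, (𝒳.p.map_id x).trans rfl, ?_⟩
    have h0 : β.hom.toNatTrans.app x ≫ β.inv.toNatTrans.app x = 𝟙 _ :=
      congrArg (fun m => m.toNatTrans.app x) β.hom_inv_id
    simp [h0]
  exact Function.bijective_iff_has_inverse.2 ⟨_, aux α, fun c => aux α.symm c⟩

theorem faithful_of_natIso (α : f ≅ f') [f.toFunctor.Faithful] : f'.toFunctor.Faithful :=
  Functor.Faithful.of_iso (F := f.toFunctor) (F' := f'.toFunctor) ((BasedNatTrans.forgetful _ _).mapIso α)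

theorem repByAlgSpWith_congr {P : MorphismProperty (Sp S)} (α : f ≅ f') (hf : AlgSt.RepByAlgSpWith P f) :
    AlgSt.RepByAlgSpWith P f' := fun U y => by
  have := faithful_of_repByAlgSp1 (repByAlgSp1_of_with hf)
  have := faithful_of_natIso α
  exact exists_rep_transfer (changeR y α.symm) (fpHom_changeR y α.symm) (bijective_changeR y α.symm) (hf U y)

end IsoFunctor

section Precomp

variable [h𝒳 : FibCat.IsFibGrpd 𝒳.p] [h𝒳' : FibCat.IsFibGrpd 𝒳'.p] [h𝒴 : FibCat.IsFibGrpd 𝒴.p]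
variable {E : 𝒳' ⥤ᵇ 𝒳} {f : 𝒳 ⥤ᵇ 𝒴}

theorem fpHom_compF (E : 𝒳' ⥤ᵇ 𝒳) (f : 𝒳 ⥤ᵇ 𝒴) {U : Over S} (y : FibCat.overCat U ⥤ᵇ 𝒴) (T : Over S)
    (c : ClType (FibCat.fp y (BasedFunctor.comp E f)) T) : fpHom (clF (compF E f y) T c) = fpHom c := by
  obtain ⟨m, hm, rfl⟩ := cl_exists c
  rfl

theorem bijective_compF_of_isEquivOver (hE : FibCat.IsEquivOver E) [f.toFunctor.Faithful] {U : Over S}
    (y : FibCat.overCat U ⥤ᵇ 𝒴) (T : Over S) : Function.Bijective (clF (compF E f y) T) := by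
  obtain ⟨hfull, hfaith, hv⟩ := vert_of_isEquivOver hE
  constructor
  · intro c c' e
    obtain ⟨k, x, hx, φ, hφ, rfl⟩ := fpEl_exists c
    obtain ⟨k', x', hx', φ', hφ', rfl⟩ := fpEl_exists c'
    rw [clF_compF E f y k x hx φ hφ (hφ' := hφ), clF_compF E f y k' x' hx' φ' hφ' (hφ' := hφ')] at e
    obtain rfl : k = k' := (fpHom_fpEl _ _ _ _ _).symm.trans ((congrArg fpHom e).trans (fpHom_fpEl _ _ _ _ _))
    obtain ⟨a, ha, hae⟩ := fpEl_eq_iff.1 e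
    refine fpEl_eq_iff.2 ⟨E.toFunctor.preimage a, ?_, ?_⟩
    · simp [map_preimage, ha]
    · change φ ≫ f.map (E.map (E.toFunctor.preimage a)) = φ'
      rw [Functor.map_preimage]; exact hae
  · intro c
    obtain ⟨k, x, hx, φ, hφ, rfl⟩ := fpEl_exists c
    obtain ⟨x₀, hx₀, e, he⟩ := hv x
    have hei : 𝒳.p.map e.inv = eqToHom ((E.w_obj x₀).trans hx₀).symm := by
      rw [← cancel_epi (𝒳.p.map e.hom), ← Functor.map_comp]; simp [he]
    have hb : 𝒴.p.map (φ ≫ f.map e.inv) = eqToHom (((y.w_obj (ov k)).trans (ov_base k)).trans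
        ((hx₀.trans hx).symm.trans ((BasedFunctor.comp E f).w_obj x₀).symm)) := by
      simp [map_w, hφ, hei]
    refine ⟨fpEl (f := BasedFunctor.comp E f) k x₀ (hx₀.trans hx) (φ ≫ f.map e.inv) hb, ?_⟩
    rw [clF_compF E f y k x₀ (hx₀.trans hx) _ hb (hφ' := hb)]
    exact fpEl_eq_iff.2 ⟨e.hom, he, by simp [← Functor.map_comp]⟩

theorem repByAlgSpWith_precomp {P : MorphismProperty (Sp S)} (hE : FibCat.IsEquivOver E)
    (hf : AlgSt.RepByAlgSpWith P f) : AlgSt.RepByAlgSpWith P (BasedFunctor.comp E f) := fun U y => by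
  have := faithful_of_repByAlgSp1 (repByAlgSp1_of_with hf)
  obtain ⟨-, hfaith, -⟩ := vert_of_isEquivOver hE
  have : (BasedFunctor.comp E f).toFunctor.Faithful := inferInstanceAs (E.toFunctor ⋙ f.toFunctor).Faithful
  exact exists_rep_transfer (compF E f y) (fpHom_compF E f y) (bijective_compF_of_isEquivOver hE y) (hf U y)

end Precomp

section Postcomp

variable [h𝒳 : FibCat.IsFibGrpd 𝒳.p] [h𝒴 : FibCat.IsFibGrpd 𝒴.p] [h𝒴' : FibCat.IsFibGrpd 𝒴'.p]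
variable (E : 𝒴 ⥤ᵇ 𝒴') {f : 𝒳 ⥤ᵇ 𝒴} {U : Over S} (y : FibCat.overCat U ⥤ᵇ 𝒴)

/-- Comparison of fibres after composing with a functor. -/
noncomputable def postF (f : 𝒳 ⥤ᵇ 𝒴) : FibCat.fp y f ⥤ᵇ FibCat.fp (BasedFunctor.comp y E) (BasedFunctor.comp f E) :=
  FibCat.fpLift (FibCat.fpFst y f) (FibCat.fpSnd y f) (wR (FibCat.fpIso y f) E)

theorem fpHom_postF (T : Over S) (c : ClType (FibCat.fp y f) T) :
    fpHom (clF (postF E y f) T c) = fpHom c := by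
  obtain ⟨m, hm, rfl⟩ := cl_exists c
  rfl

theorem clF_postF {T : Over S} (k : T ⟶ U) (x : 𝒳.obj) (hx : 𝒳.p.obj x = T)
    (φ : y.obj (ov k) ⟶ f.obj x) (hφ) {hφ'} :
    clF (postF E y f) T (fpEl k x hx φ hφ) =
      fpEl (y := BasedFunctor.comp y E) (f := BasedFunctor.comp f E) k x hx (E.map φ) hφ' :=
  cl_eq_iff.2 ⟨fpHomMk (𝟙 _) (𝟙 _) (by
    simp [postF, fpObj, fpMk, FibCat.fpLift, FibCat.fpIso, BasedNatIso.mkNatIso, wR]), ((FibCat.overCat U).p.map_id _).trans rfl⟩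

theorem bijective_postF [E.toFunctor.Full] [E.toFunctor.Faithful] (T : Over S) :
    Function.Bijective (clF (postF E y f) T) := by
  have hmap : ∀ {k : T ⟶ U} {x : 𝒳.obj} (hx : 𝒳.p.obj x = T) (φ : y.obj (ov k) ⟶ f.obj x),
      𝒴.p.map φ = eqToHom (((y.w_obj (ov k)).trans (ov_base k)).trans (hx.symm.trans (f.w_obj x).symm)) →
      𝒴'.p.map (E.map φ) = eqToHom ((((BasedFunctor.comp y E).w_obj (ov k)).trans (ov_base k)).trans
        (hx.symm.trans ((BasedFunctor.comp f E).w_obj x).symm)) := fun hx φ hφ => by simp [map_w, hφ]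
  constructor
  · intro c c' e
    obtain ⟨k, x, hx, φ, hφ, rfl⟩ := fpEl_exists c
    obtain ⟨k', x', hx', φ', hφ', rfl⟩ := fpEl_exists c'
    rw [clF_postF E y k x hx φ hφ (hφ' := hmap hx φ hφ), clF_postF E y k' x' hx' φ' hφ' (hφ' := hmap hx' φ' hφ')] at e
    obtain rfl : k = k' := (fpHom_fpEl _ _ _ _ _).symm.trans ((congrArg fpHom e).trans (fpHom_fpEl _ _ _ _ _))
    obtain ⟨a, ha, hae⟩ := fpEl_eq_iff.1 e
    refine fpEl_eq_iff.2 ⟨a, ha, E.toFunctor.map_injective ?_⟩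
    rw [Functor.map_comp]; exact hae
  · intro c
    obtain ⟨k, x, hx, φ, hφ, rfl⟩ := fpEl_exists c
    have hφ₀ : 𝒴.p.map (E.toFunctor.preimage φ) = eqToHom (((y.w_obj (ov k)).trans (ov_base k)).trans
        (hx.symm.trans (f.w_obj x).symm)) := by
      have h1 := map_preimage E (a := y.obj (ov k)) (b := f.obj x) φ
      rw [h1]
      erw [hφ]
      simp
    refine ⟨fpEl (y := y) (f := f) k x hx (E.toFunctor.preimage φ) hφ₀, ?_⟩
    rw [clF_postF E y k x hx _ hφ₀ (hφ' := hmap hx _ hφ₀)]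
    exact fpEl_eq_iff.2 ⟨𝟙 x, (𝒳.p.map_id x).trans rfl, by simp⟩

theorem repByAlgSpWith_postcomp {P : MorphismProperty (Sp S)} (hE : FibCat.IsEquivOver E)
    (hf : AlgSt.RepByAlgSpWith P f) : AlgSt.RepByAlgSpWith P (BasedFunctor.comp f E) := fun U z => by
  have := faithful_of_repByAlgSp1 (repByAlgSp1_of_with hf)
  obtain ⟨G, hG, ⟨α⟩, ⟨β⟩⟩ := isEquivOver_symm hE
  obtain ⟨hfull, hfaith, -⟩ := vert_of_isEquivOver hE
  obtain ⟨hfull', hfaith', -⟩ := vert_of_isEquivOver hG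
  have : (BasedFunctor.comp f E).toFunctor.Faithful := inferInstanceAs (f.toFunctor ⋙ E.toFunctor).Faithful
  have : (BasedFunctor.comp (BasedFunctor.comp f E) G).toFunctor.Faithful :=
    inferInstanceAs ((BasedFunctor.comp f E).toFunctor ⋙ G.toFunctor).Faithful
  have : (BasedFunctor.comp f (BasedFunctor.id 𝒴)).toFunctor.Faithful := ‹f.toFunctor.Faithful›
  have : (BasedFunctor.comp f (BasedFunctor.comp E G)).toFunctor.Faithful :=
    inferInstanceAs (f.toFunctor ⋙ (E.toFunctor ⋙ G.toFunctor)).Faithful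
  refine exists_rep_transfer (postF G z (BasedFunctor.comp f E)) (fpHom_postF G z)
    (bijective_postF G z) ?_
  exact exists_rep_transfer (changeR (BasedFunctor.comp z G) (wL f α)) (fpHom_changeR _ _)
    (bijective_changeR _ _) (hf U (BasedFunctor.comp z G))

end Postcomp

section Swap

variable [h𝒳 : FibCat.IsFibGrpd 𝒳.p] [h𝒴 : FibCat.IsFibGrpd 𝒴.p] [h𝒵 : FibCat.IsFibGrpd 𝒵.p]
variable (F : 𝒳 ⥤ᵇ 𝒵) (G : 𝒴 ⥤ᵇ 𝒵)

/-- Exchange of the two factors of a fibre product. -/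
noncomputable def swapF : FibCat.fp F G ⥤ᵇ FibCat.fp G F :=
  FibCat.fpLift (FibCat.fpSnd F G) (FibCat.fpFst F G) (FibCat.fpIso F G).symm

theorem clF_swapF_swapF (T : Over S) (c : ClType (FibCat.fp F G) T) :
    clF (swapF G F) T (clF (swapF F G) T c) = c := by
  obtain ⟨m, hm, rfl⟩ := cl_exists c
  rw [clF_cl, clF_cl]
  refine cl_eq_iff.2 ⟨fpHomMk (𝟙 _) (𝟙 _) ?_, ?_⟩
  · simp [swapF, FibCat.fpLift, FibCat.fpIso, BasedNatIso.mkNatIso, FibCat.fpFst, FibCat.fpSnd]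
  · exact (𝒳.p.map_id m.obj.fst).trans rfl

theorem bijective_swapF (T : Over S) : Function.Bijective (clF (swapF F G) T) :=
  Function.bijective_iff_has_inverse.2 ⟨_, clF_swapF_swapF F G T, clF_swapF_swapF G F T⟩

theorem isAlgSpaceP_swap (h : IsAlgSpaceP (Cl (FibCat.fp F G))) : IsAlgSpaceP (Cl (FibCat.fp G F)) := by
  have := isIso_clFun_of_bijective (swapF F G) (bijective_swapF F G)
  exact h.of_iso (asIso (clFun (swapF F G)))

end Swap

section Setoid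

variable [h𝒳 : FibCat.IsFibGrpd 𝒳.p] [h𝒴 : FibCat.IsFibGrpd 𝒴.p]

theorem isPullback_fib [𝒴.p.Faithful] (f : 𝒳 ⥤ᵇ 𝒴) {U : Over S} (y : FibCat.overCat U ⥤ᵇ 𝒴) :
    IsPullback (clFun (FibCat.fpSnd y f)) (fibπ y f) (clFun f)
      (uliftYonedaEquiv.{u + 1}.symm (cl (y.obj (ov (𝟙 U))) (y.w_obj _) : ClType 𝒴 U) :
        (pyon S).obj U ⟶ Cl 𝒴) := by
  have key : ∀ {T : Over S} (k : T ⟶ U), clMap k (cl (y.obj (ov (𝟙 U))) (y.w_obj _) : ClType 𝒴 U) =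
      cl (y.obj (ov k)) ((y.w_obj (ov k)).trans (ov_base k)) := fun k =>
    clMap_cl k (y.map (toTop (ov k))) _ _ (map_toTop y (ov k))
  refine isPullback_of_pointwise ?_ (fun T a a' e1 e2 => ?_) (fun T b d e => ?_)
  · ext T c
    obtain ⟨k, x, hx, φ, hφ, rfl⟩ := fpEl_exists (y := y) (f := f) (T := T.unop) c
    simp only [NatTrans.comp_app, TypeCat.Fun.toFun_apply, ConcreteCategory.comp_apply]
    refine Eq.trans ?_ (secHomP_app (F := Cl 𝒴) _ _).symm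
    have hd : ((fibπ y f).app T (fpEl (y := y) (f := f) k x hx φ hφ)).down = k :=
      fpHom_fpEl (y := y) (f := f) k x hx φ hφ
    rw [hd]
    refine Eq.trans ?_ (key k).symm
    have := isIso_of_vert φ hφ
    exact cl_eq_iff.2 ⟨inv φ, by simp [hφ]⟩
  · obtain ⟨k, x, hx, φ, hφ, rfl⟩ := fpEl_exists (y := y) (f := f) (T := T) a
    obtain ⟨k', x', hx', φ', hφ', rfl⟩ := fpEl_exists (y := y) (f := f) (T := T) a'
    obtain rfl : k = k' := (fpHom_fpEl _ _ _ _ _).symm.trans ((congrArg ULift.down e2).trans (fpHom_fpEl _ _ _ _ _))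
    obtain ⟨v, hv⟩ := cl_eq_iff.1 (show cl x hx = cl x' hx' from e1)
    exact fpEl_eq_iff.2 ⟨v, hv, 𝒴.p.map_injective (by simp [map_w, hφ, hφ', hv])⟩
  · obtain ⟨k⟩ := d
    obtain ⟨x, hx, rfl⟩ := cl_exists (𝒳 := 𝒳) (T := T) b
    replace e : cl (f.obj x) ((f.w_obj x).trans hx) = cl (y.obj (ov k)) ((y.w_obj (ov k)).trans (ov_base k)) :=
      (e.trans (secHomP_app (F := Cl 𝒴) _ ⟨k⟩)).trans (key k)
    obtain ⟨φ, hφ⟩ := cl_eq_iff.1 e.symm
    exact ⟨fpEl (y := y) (f := f) k x hx φ hφ, rfl, congrArg ULift.up (fpHom_fpEl _ _ _ _ _)⟩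

theorem exists_test [𝒴.p.Faithful] {U : Over S} (ξ : (pyon S).obj U ⟶ Cl 𝒴) :
    ∃ y : FibCat.overCat U ⥤ᵇ 𝒴,
      ξ = uliftYonedaEquiv.{u + 1}.symm (cl (y.obj (ov (𝟙 U))) (y.w_obj _) : ClType 𝒴 U) := by
  obtain ⟨x, hx, he⟩ := cl_exists (𝒳 := 𝒴) (T := U) (uliftYonedaEquiv.{u + 1} ξ)
  refine ⟨objFun x hx, uliftYonedaEquiv.eq_symm_apply.2 (he.trans ?_)⟩
  exact ((cl_eq_iff (hx := (objFun x hx).w_obj (ov (𝟙 U))) (hy := hx)).2
    ⟨pullHom x hx (𝟙 U), (map_pullHom x hx (𝟙 U)).trans (by simp)⟩).symm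

theorem repBySp_clFun_iff [𝒴.p.Faithful] (f : 𝒳 ⥤ᵇ 𝒴) [f.toFunctor.Faithful] :
    RepBySp (clFun f) ↔ AlgSt.RepByAlgSp1 f := by
  rw [repByAlgSp1_iff]
  constructor
  · exact fun h => ⟨inferInstance, fun U y => h _ _ _ (isPullback_fib f y)⟩
  · rintro ⟨-, h⟩ U ξ F' fst snd sq
    obtain ⟨y, rfl⟩ := exists_test ξ
    exact (h U y).of_iso ((isPullback_fib f y).isoIsPullback _ _ sq)

theorem repBySpWith_clFun_iff [𝒴.p.Faithful] (P : MorphismProperty (Sp S)) [P.RespectsIso] (f : 𝒳 ⥤ᵇ 𝒴)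
    [f.toFunctor.Faithful] : RepBySpWith P (clFun f) ↔ AlgSt.RepByAlgSpWith P f := by
  rw [repByAlgSpWith_iff]
  constructor
  · exact fun h => ⟨inferInstance, fun U y => h _ _ _ (isPullback_fib f y)⟩
  · rintro ⟨-, h⟩ U ξ F' fst snd sq
    obtain ⟨y, rfl⟩ := exists_test ξ
    obtain ⟨hs, hA, hP⟩ := h U y
    let i := (isPullback_fib f y).isoIsPullback _ _ sq
    obtain ⟨hs', hA'⟩ := IsAlgSpaceP.of_iso ⟨hs, hA⟩ i
    obtain ⟨j⟩ := arrowIso_of_hom (a := (ObjectProperty.homMk (fibπ y f) : (⟨_, hs⟩ : Sp S) ⟶ (yon S).obj U))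
      (b := (ObjectProperty.homMk snd : (⟨F', hs'⟩ : Sp S) ⟶ (yon S).obj U)) i
      (IsPullback.isoIsPullback_hom_snd _ _ _ _).symm
    exact ⟨hs', hA', (P.arrow_mk_iso_iff j).1 hP⟩

theorem faithful_of_faithful_source [𝒳.p.Faithful] (f : 𝒳 ⥤ᵇ 𝒴) : f.toFunctor.Faithful :=
  ⟨fun h => 𝒳.p.map_injective (map_inj_w f h)⟩

theorem repBySp_of_isAlgSpaceP {F G : PSp S} (a : F ⟶ G) (hF : IsAlgSpaceP F) (hG : IsAlgSpaceP G) :
    RepBySp a := by
  intro U ξ F' fst snd sq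
  obtain ⟨hFs, hFa⟩ := hF
  obtain ⟨hGs, hGa⟩ := hG
  have hs : Presheaf.IsSheaf (J S) F' :=
    isSheaf_of_isPullback (F := ⟨F, hFs⟩) (G := ⟨G, hGs⟩) (H := (yon S).obj U) sq
  refine ⟨hs, Groth.Agent.ASp.isAlgSpace_of_isPullback hGa.diag hFa (IsAlgSpace.yon_obj U)
    (f := (ObjectProperty.homMk a : (⟨F, hFs⟩ : Sp S) ⟶ ⟨G, hGs⟩))
    (g := (ObjectProperty.homMk ξ : (yon S).obj U ⟶ ⟨G, hGs⟩))
    (fst := (ObjectProperty.homMk fst : (⟨F', hs⟩ : Sp S) ⟶ ⟨F, hFs⟩)) (snd := ObjectProperty.homMk snd)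
    (IsPullback.of_map_of_faithful (sheafToPresheaf (J S) (Type (u + 1))) sq)⟩

theorem repByAlgSp1_of_repByAlgSp (hX : AlgSt.RepByAlgSp 𝒳) (hY : AlgSt.RepByAlgSp 𝒴) (f : 𝒳 ⥤ᵇ 𝒴) :
    AlgSt.RepByAlgSp1 f := by
  obtain ⟨hX1, hX2⟩ := repByAlgSp_iff.1 hX
  obtain ⟨hY1, hY2⟩ := repByAlgSp_iff.1 hY
  have := faithful_of_faithful_source f
  exact (repBySp_clFun_iff f).1 (repBySp_of_isAlgSpaceP _ hX2 hY2)

variable [h𝒵 : FibCat.IsFibGrpd 𝒵.p]

theorem repByAlgSp_fp (g : 𝒵 ⥤ᵇ 𝒴) {f : 𝒳 ⥤ᵇ 𝒴} (hf : AlgSt.RepByAlgSp1 f) (hZ : AlgSt.RepByAlgSp 𝒵) :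
    AlgSt.RepByAlgSp (FibCat.fp g f) := by
  obtain ⟨hZ1, hZ2⟩ := repByAlgSp_iff.1 hZ
  have := faithful_of_repByAlgSp1 hf
  have : (FibCat.fpFst g f).toFunctor.Faithful := faithful_fpFst
  exact repByAlgSp_iff.2 ⟨inferInstance, Groth.Agent.ASp.isAlgSpaceP_of_repBySp
    ((repBySp_clFun_iff (FibCat.fpFst g f)).2 (repByAlgSp1_fpFst g hf)) hZ2⟩

end Setoid

end Groth.Agent.ASt
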