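import Groth.Agent.ASt.OpenSub
import Groth.Agent.ASp.EtaleCover
/-!
Algebraic stacks covered by open substacks which are spaces.
-/

set_option backward.isDefEq.respectTransparency false
set_option backward.isDefEq.respectTransparency.types false
set_option linter.unusedSectionVars false

universe u

open CategoryTheory CategoryTheory.Limits AlgebraicGeometry Opposite

namespace Groth.Agent.ASt

open _root_.AlgSp Groth.Agent.ASp

variable {S : Scheme.{u}} {𝒳 : AlgSt.Cat S} [h𝒳 : FibCat.IsFibGrpd 𝒳.p]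

theorem vert_eq_id_of_cover (hX : Stk.IsStack (QuotSh.J Scheme.fppfPrecoverage S) 𝒳) {ι : Type u}
    (Q : ι → 𝒳.obj → Prop) (hQ : ∀ i, AlgSt.IsOpenSubstack 𝒳 (Q i) Scheme.fppfPrecoverage)
    (hcov : ∀ z, ∃ i, z ∈ Set.range (AlgSt.Points.map (AlgSt.subIncl 𝒳 (Q i))))
    (hf : ∀ i, (AlgSt.fullSub 𝒳 (Q i)).p.Faithful) {x : 𝒳.obj} (s : x ⟶ x)
    (hs : 𝒳.p.map s = 𝟙 _) : s = 𝟙 x := by
  let T := 𝒳.p.obj x
  let y := objFun x (rfl : 𝒳.p.obj x = T)
  let a₀ : y.obj (ov (𝟙 T)) ⟶ y.obj (ov (𝟙 T)) :=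
    facMap (pullHom x rfl (𝟙 T)) (pullHom x rfl (𝟙 T) ≫ s) (𝟙 _) (by
      rw [Functor.map_comp, hs, Category.comp_id]; exact Category.id_comp _)
  have ha₀ : 𝒳.p.map a₀ = eqToHom ((y.w_obj _).trans (y.w_obj _).symm) := by
    rw [map_facMap]; rfl
  let α := funIso a₀ ha₀
  let R : Sieve T :=
    { arrows := fun V k => ∃ i, Q i (y.obj (ov k))
      downward_closed := by
        rintro A B k ⟨i, hi⟩ l
        exact ⟨i, pull_closed (hQ i).1 (hQ i).2.1.isStack.1 (y.map (ovHom l rfl : ov (l ≫ k) ⟶ ov k)) hi⟩ }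
  have hex : ∀ t : ↥T.left, ∃ (Z : Over S) (h : Z ⟶ T), IsOpenImmersion h.left ∧ R h ∧ t ∈ Set.range h.left := fun t => by
    obtain ⟨i, hi⟩ := hcov (AlgSt.Points.ofChart y t)
    obtain ⟨Z, h, hh, hh'⟩ := exists_openSubstack_chart (hQ i) y
    refine ⟨Z, h, hh, ⟨i, (hh' h).2 ⟨𝟙 Z, Category.id_comp h⟩⟩, ?_⟩
    rw [← preimage_range_eq (hQ i) y h hh']
    exact hi
  choose Z h hh hR ht using hex
  have hRJ : R ∈ QuotSh.J Scheme.fppfPrecoverage S T := by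
    let 𝒰 : T.left.OpenCover := Scheme.Cover.mkOfCovers ↥T.left (fun t => (Z t).left) (fun t => (h t).left)
      (fun t => ⟨t, ht t⟩) (fun t => hh t)
    change R ∈ (J S) T
    rw [GrothendieckTopology.mem_over_iff]
    refine GrothendieckTopology.superset_covering _ ?_
      (Precoverage.generate_mem_toGrothendieck
        (Scheme.zariskiPrecoverage_le_fppfPrecoverage _ 𝒰.mem₀))
    rw [Sieve.generate_le_iff]
    rintro _ _ ⟨t⟩
    exact ⟨Z t, h t, 𝟙 _, hR t, (Category.id_comp _).symm⟩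
  haveI : (Stk.resSieve R 𝒳).IsEquivalence := hX.2 R hRJ
  have hα : α.hom = 𝟙 y := (Stk.resSieve R 𝒳).map_injective (basedHom_ext fun g => by
    obtain ⟨i, hi⟩ := g.property
    let g' : (FibCat.overCat T).obj := g.obj
    have hi' : Q i (y.obj g') := hi
    have h1 : 𝒳.p.map (α.hom.toNatTrans.app g') = 𝟙 _ := by rw [map_app]; rfl
    let m : (⟨y.obj g', hi'⟩ : (AlgSt.fullSub 𝒳 (Q i)).obj) ⟶ ⟨y.obj g', hi'⟩ :=
      ObjectProperty.homMk (α.hom.toNatTrans.app g')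
    haveI := hf i
    have h2 : m = 𝟙 _ := (AlgSt.fullSub 𝒳 (Q i)).p.map_injective (by
      rw [CategoryTheory.Functor.map_id]
      exact h1)
    exact congrArg (fun q => q.hom) h2)
  have h3 := funIso_app a₀ ha₀ (ov (𝟙 T))
  have htop : toTop (ov (𝟙 T)) = 𝟙 (ov (𝟙 T)) := Over.OverMorphism.ext (by simp [toTop])
  rw [show (funIso a₀ ha₀).hom.toNatTrans.app (ov (𝟙 T)) = 𝟙 _ from app_eq_of_eq hα _, htop,
    CategoryTheory.Functor.map_id, Category.id_comp, Category.id_comp] at h3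
  have h4 : pullHom x rfl (𝟙 T) ≫ s = pullHom x rfl (𝟙 T) := by
    rw [← facMap_comp (pullHom x rfl (𝟙 T)) (pullHom x rfl (𝟙 T) ≫ s) (𝟙 _) (by
      rw [Functor.map_comp, hs, Category.comp_id]; exact Category.id_comp _)]
    exact (congrArg (· ≫ pullHom x rfl (𝟙 T)) h3.symm).trans (Category.id_comp _)
  haveI : IsIso (pullHom x (rfl : 𝒳.p.obj x = T) (𝟙 T)) := by
    have : IsIso (𝒳.p.map (pullHom x (rfl : 𝒳.p.obj x = T) (𝟙 T))) := by
      rw [map_pullHom]; infer_instance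
    exact isIso_of_isIso_map _
  exact (cancel_epi (pullHom x rfl (𝟙 T))).1 (h4.trans (Category.comp_id _).symm)

theorem faithful_of_openSubstack_cover (hX : Stk.IsStack (QuotSh.J Scheme.fppfPrecoverage S) 𝒳) {ι : Type u}
    (Q : ι → 𝒳.obj → Prop) (hQ : ∀ i, AlgSt.IsOpenSubstack 𝒳 (Q i) Scheme.fppfPrecoverage)
    (hcov : ∀ z, ∃ i, z ∈ Set.range (AlgSt.Points.map (AlgSt.subIncl 𝒳 (Q i))))
    (hf : ∀ i, (AlgSt.fullSub 𝒳 (Q i)).p.Faithful) : 𝒳.p.Faithful := by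
  refine ⟨fun {x y} m n e => ?_⟩
  have hs := vert_eq_id_of_cover hX Q hQ hcov hf (facMap n m (𝟙 _) (by rw [Category.id_comp]; exact e.symm))
    (map_facMap _ _ _ _)
  have := facMap_comp n m (𝟙 _) (by rw [Category.id_comp]; exact e.symm)
  rw [hs, Category.id_comp] at this
  exact this.symm

theorem repWith_of_repBySpWith_openImm {F G : Sp S} (a : F ⟶ G)
    (h : RepBySpWith (RepWith @IsOpenImmersion) a.hom) : RepWith @IsOpenImmersion a := by
  refine repWith_of_exists fun T g => ?_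
  obtain ⟨P, fst, snd, sq⟩ : ∃ (P : Sp S) (fst : P ⟶ F) (snd : P ⟶ (yon S).obj T), IsPullback fst snd a g :=
    ⟨_, _, _, IsPullback.of_hasPullback a g⟩
  obtain ⟨hs, -, hsnd⟩ := h g.hom fst.hom snd.hom (sq.map (sheafToPresheaf (J S) (Type (u + 1))))
  change RepWith @IsOpenImmersion snd at hsnd
  have sq1 := hsnd.1.isPullback (𝟙 ((yon S).obj T))
  have hw : IsOpenImmersion (hsnd.1.snd (𝟙 ((yon S).obj T))).left := hsnd.2 _ _ _ sq1
  generalize hsnd.1.fst (𝟙 ((yon S).obj T)) = k at sq1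
  generalize hsnd.1.snd (𝟙 ((yon S).obj T)) = w at sq1 hw
  haveI : IsIso k := sq1.isIso_fst_of_isIso
  refine ⟨_, k ≫ fst, w, IsPullback.of_iso sq (asIso k).symm (Iso.refl _) (Iso.refl _) (Iso.refl _)
    (by simp) (by simpa using (IsIso.eq_inv_comp k).1 (by simp [sq1.w])) (by simp) (by simp), hw⟩

/-- An algebraic stack covered by open substacks which are spaces is a space. -/
theorem repByAlgSp_of_openSubstack_cover (hX : AlgSt.IsAlgStack Scheme.fppfPrecoverage 𝒳) {ι : Type u}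
    (Q : ι → 𝒳.obj → Prop) (hQ : ∀ i, AlgSt.IsOpenSubstack 𝒳 (Q i) Scheme.fppfPrecoverage)
    (hcov : ∀ z, ∃ i, z ∈ Set.range (AlgSt.Points.map (AlgSt.subIncl 𝒳 (Q i))))
    (hsp : ∀ i, AlgSt.RepByAlgSp (AlgSt.fullSub 𝒳 (Q i))) : AlgSt.RepByAlgSp 𝒳 := by
  haveI : ∀ i, FibCat.IsFibGrpd (AlgSt.fullSub 𝒳 (Q i)).p := fun i => (hQ i).2.1.isStack.1
  haveI : 𝒳.p.Faithful := faithful_of_openSubstack_cover hX.isStack Q hQ hcov
    fun i => faithful_of_repByAlgSp (hsp i)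
  have hsF : Presheaf.IsSheaf (J S) (Cl 𝒳) := (isSheaf_iff_isSheaf_of_type _ _).2
    (isStack_ofPsh_iff.1 (isStack_of_isEquivOver (isEquivOver_toPsh (𝒳 := 𝒳)) hX.isStack))
  let F : Sp S := ⟨Cl 𝒳, hsF⟩
  have hs : ∀ i, ∃ h : Presheaf.IsSheaf (J S) (Cl (AlgSt.fullSub 𝒳 (Q i))),
      IsAlgSpace (⟨Cl (AlgSt.fullSub 𝒳 (Q i)), h⟩ : Sp S) := fun i => (repByAlgSp_iff.1 (hsp i)).2
  choose hsi hAi using hs
  let Fi : ι → Sp S := fun i => ⟨Cl (AlgSt.fullSub 𝒳 (Q i)), hsi i⟩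
  let f : ∀ i, Fi i ⟶ F := fun i => ObjectProperty.homMk (clFun (AlgSt.subIncl 𝒳 (Q i)))
  have hf : ∀ i, RepWith @IsOpenImmersion (f i) := fun i =>
    repWith_of_repBySpWith_openImm (f i) ((repBySpWith_clFun_iff _ _).2 (hQ i).2.2)
  refine repByAlgSp_iff.2 ⟨inferInstance, hsF, Groth.Agent.ASp.isAlgSpace_of_openCover Fi f hAi hf fun x => ?_⟩
  obtain ⟨U, g, t, rfl⟩ := exists_ofPt_eq x
  obtain ⟨z, hz, he⟩ := cl_exists (𝒳 := 𝒳) (T := U) ((J S).uliftYonedaEquiv.{u+1} g)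
  obtain ⟨i, hi⟩ := hcov (AlgSt.Points.ofChart (objFun z hz) t)
  obtain ⟨Z, h, hh, hh'⟩ := exists_openSubstack_chart (hQ i) (objFun z hz)
  haveI := hh
  obtain ⟨w, hw⟩ : t ∈ Set.range h.left := by rw [← preimage_range_eq (hQ i) _ h hh']; exact hi
  have hQh : Q i (pull z hz h) := (hh' h).2 ⟨𝟙 Z, Category.id_comp h⟩
  let g' : (yon S).obj Z ⟶ Fi i := (J S).uliftYonedaEquiv.{u+1}.symm
    (cl (𝒳 := AlgSt.fullSub 𝒳 (Q i)) ⟨pull z hz h, hQh⟩ (pull_base z hz h))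
  refine ⟨i, Points.ofPt g' w, ?_⟩
  have e : g' ≫ f i = (yon S).map h ≫ g := by
    apply (J S).uliftYonedaEquiv.{u+1}.injective
    rw [← GrothendieckTopology.uliftYonedaEquiv_naturality.{u+1}, he]
    change clF (AlgSt.subIncl 𝒳 (Q i)) Z ((J S).uliftYonedaEquiv.{u+1} g') = clMap h (cl z hz)
    rw [show (J S).uliftYonedaEquiv.{u+1} g' = _ from Equiv.apply_symm_apply _ _, clF_cl]
    exact (clMap_cl_pull h z hz).symm
  rw [Points.map_ofPt, e, ofPt_yon_map_comp, hw]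

/-- The same with an arbitrary index type. -/
theorem repByAlgSp_of_openSubstack_cover' {ι : Type*} (hX : AlgSt.IsAlgStack Scheme.fppfPrecoverage 𝒳)
    (Q : ι → 𝒳.obj → Prop) (hQ : ∀ i, AlgSt.IsOpenSubstack 𝒳 (Q i) Scheme.fppfPrecoverage)
    (hcov : ⋃ i, Set.range (AlgSt.Points.map (AlgSt.subIncl 𝒳 (Q i))) = Set.univ)
    (hsp : ∀ i, AlgSt.RepByAlgSp (AlgSt.fullSub 𝒳 (Q i))) : AlgSt.RepByAlgSp 𝒳 := by
  obtain ⟨W, a, -, has⟩ := hX.atlas
  choose i hi using fun w : ↥W.left =>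
    Set.mem_iUnion.1 (hcov.symm ▸ Set.mem_univ (AlgSt.Points.ofChart a w))
  refine repByAlgSp_of_openSubstack_cover hX (fun w => Q (i w)) (fun w => hQ _) (fun z => ?_) fun w => hsp _
  obtain ⟨w, rfl⟩ := surjective_chart has z
  exact ⟨w, hi w⟩

end Groth.Agent.ASt
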