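import Groth.Agent.ASt.DiagLft
/-!
`𝒳 ×_𝒴 𝒳' ⟶ 𝒳 ×_𝒵 𝒳'` as a base change of the diagonal of `𝒴 ⟶ 𝒵`.
-/

set_option backward.isDefEq.respectTransparency false
set_option backward.isDefEq.respectTransparency.types false
set_option linter.unusedSectionVars false

universe v u

open CategoryTheory CategoryTheory.Limits AlgebraicGeometry Opposite

namespace Groth.Agent.ASt

open _root_.AlgSp

variable {S : Scheme.{u}} {𝒳 𝒳' 𝒴 𝒵 : AlgSt.Cat S} [h𝒳 : FibCat.IsFibGrpd 𝒳.p] [h𝒳' : FibCat.IsFibGrpd 𝒳'.p]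
  [h𝒴 : FibCat.IsFibGrpd 𝒴.p] [h𝒵 : FibCat.IsFibGrpd 𝒵.p]
variable (f : 𝒳 ⥤ᵇ 𝒴) (f₂ : 𝒳' ⥤ᵇ 𝒴) (g : 𝒴 ⥤ᵇ 𝒵)

/-- `𝒳 ×_𝒴 𝒳' ⟶ 𝒳 ×_𝒵 𝒳'`. -/
noncomputable def pairJ : FibCat.fp f f₂ ⥤ᵇ FibCat.fp (BasedFunctor.comp f g) (BasedFunctor.comp f₂ g) :=
  FibCat.fpLift (FibCat.fpFst f f₂) (FibCat.fpSnd f f₂) (wR (FibCat.fpIso f f₂) g)

/-- `(x₁, x₂, e) ↦ (f x₁, f x₂, e)`. -/
noncomputable def pairN : FibCat.fp (BasedFunctor.comp f g) (BasedFunctor.comp f₂ g) ⥤ᵇ FibCat.fp g g :=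
  FibCat.fpLift (BasedFunctor.comp (FibCat.fpFst (BasedFunctor.comp f g) (BasedFunctor.comp f₂ g)) f)
    (BasedFunctor.comp (FibCat.fpSnd (BasedFunctor.comp f g) (BasedFunctor.comp f₂ g)) f₂)
    (FibCat.fpIso (BasedFunctor.comp f g) (BasedFunctor.comp f₂ g))

/-- The square of `pairJ` and the diagonal commutes. -/
noncomputable def pairTau : BasedFunctor.comp (pairJ f f₂ g) (pairN f f₂ g) ≅
    BasedFunctor.comp (BasedFunctor.comp (FibCat.fpSnd f f₂) f₂) (FibCat.diag g) :=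
  fpIsoMk (FibCat.fpIso f f₂) (Iso.refl _) fun x => by
    change g.map x.obj.iso.hom ≫ 𝟙 (g.obj (f₂.obj x.obj.snd)) =
      g.map x.obj.iso.hom ≫ g.map (𝟙 (f₂.obj x.obj.snd))
    simp

variable {U : Over S} (w : FibCat.overCat U ⥤ᵇ FibCat.fp (BasedFunctor.comp f g) (BasedFunctor.comp f₂ g))

/-- Fibres of `pairJ`. -/
noncomputable def pairJF : FibCat.fp w (pairJ f f₂ g) ⥤ᵇ FibCat.fp (BasedFunctor.comp w (pairN f f₂ g)) (FibCat.diag g) :=
  FibCat.fpLift (FibCat.fpFst w (pairJ f f₂ g))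
    (BasedFunctor.comp (FibCat.fpSnd w (pairJ f f₂ g)) (BasedFunctor.comp (FibCat.fpSnd f f₂) f₂))
    (wR (FibCat.fpIso w (pairJ f f₂ g)) (pairN f f₂ g) ≪≫ wL (FibCat.fpSnd w (pairJ f f₂ g)) (pairTau f f₂ g))

theorem dVert_pairJ {T : Over S} {k : T ⟶ U} {m : (FibCat.fp f f₂).obj} {hm : (FibCat.fp f f₂).p.obj m = T}
    {φ : w.obj (ov k) ⟶ (pairJ f f₂ g).obj m}
    (hφ : (FibCat.fp (BasedFunctor.comp f g) (BasedFunctor.comp f₂ g)).p.map φ = eqToHom (((w.w_obj (ov k)).trans (ov_base k)).trans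
      (hm.symm.trans ((pairJ f f₂ g).w_obj m).symm))) [IsIso φ.hom.snd] :
    DVert (g := g) (BasedFunctor.comp w (pairN f f₂ g)) k (f.map φ.hom.fst ≫ m.obj.iso.hom ≫ f₂.map (inv φ.hom.snd)) := by
  constructor
  · have h1 : 𝒳.p.map φ.hom.fst = eqToHom _ := hφ
    have h2 := fp_map_snd φ
    change 𝒴.p.map (f.map φ.hom.fst ≫ m.obj.iso.hom ≫ f₂.map (inv φ.hom.snd)) = _
    simp only [Functor.map_comp, map_w, fp_iso_map, Functor.map_inv, h1, h2]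
    simp
  · change g.map (f.map φ.hom.fst ≫ m.obj.iso.hom ≫ f₂.map (inv φ.hom.snd)) = (w.obj (ov k)).obj.iso.hom
    have e : g.map (f.map φ.hom.fst) ≫ g.map m.obj.iso.hom =
        (w.obj (ov k)).obj.iso.hom ≫ g.map (f₂.map φ.hom.snd) := φ.hom.w
    rw [g.map_comp, g.map_comp, ← Category.assoc, e, Category.assoc, ← g.map_comp, ← f₂.map_comp,
      IsIso.hom_inv_id, f₂.map_id, g.map_id]
    exact Category.comp_id _

theorem clF_pairJF {T : Over S} {k : T ⟶ U} {m : (FibCat.fp f f₂).obj} (hm : (FibCat.fp f f₂).p.obj m = T)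
    (φ : w.obj (ov k) ⟶ (pairJ f f₂ g).obj m) (hφ) [IsIso φ.hom.snd] :
    clF (pairJF f f₂ g w) T (fpEl k m hm φ hφ) =
      diagEl (BasedFunctor.comp w (pairN f f₂ g)) (dVert_pairJ f f₂ g w (hm := hm) hφ) := by
  have hv : 𝒳'.p.map (inv φ.hom.snd) = eqToHom ((fp_snd_base m).trans (hm.trans
      (((fp_snd_base (w.obj (ov k))).trans ((w.w_obj (ov k)).trans (ov_base k))).symm))) := by
    have h1 : 𝒳.p.map φ.hom.fst = eqToHom _ := hφ
    have h2 := fp_map_snd φ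
    rw [Functor.map_inv]
    simp [h2, h1]
  refine cl_eq_iff.2 ⟨fpHomMk (𝟙 _) (f₂.map (inv φ.hom.snd)) ?_,
    ((FibCat.overCat U).p.map_id _).trans rfl⟩
  have e1 : (BasedFunctor.comp w (pairN f f₂ g)).map (𝟙 (ov k)) = 𝟙 ((pairN f f₂ g).obj (w.obj (ov k))) :=
    (BasedFunctor.comp w (pairN f f₂ g)).toFunctor.map_id _
  change (BasedFunctor.comp w (pairN f f₂ g)).map (𝟙 (ov k)) ≫
      dHom (BasedFunctor.comp w (pairN f f₂ g)) (dVert_pairJ f f₂ g w (hm := hm) hφ) =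
    ((pairN f f₂ g).map φ ≫ (pairTau f f₂ g).hom.toNatTrans.app m) ≫ (FibCat.diag g).map (f₂.map (inv φ.hom.snd))
  refine ((congrArg (fun r => r ≫ _) e1).trans (Category.id_comp _)).trans (fp_hom_ext ?_ ?_)
  · change f.map φ.hom.fst ≫ m.obj.iso.hom ≫ f₂.map (inv φ.hom.snd) =
      (f.map φ.hom.fst ≫ m.obj.iso.hom) ≫ f₂.map (inv φ.hom.snd)
    exact (Category.assoc _ _ _).symm
  · change 𝟙 (f₂.obj (w.obj (ov k)).obj.snd) = (f₂.map φ.hom.snd ≫ 𝟙 (f₂.obj m.obj.snd)) ≫ f₂.map (inv φ.hom.snd)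
    refine Eq.trans ?_ (congrArg (fun r => r ≫ f₂.map (inv φ.hom.snd)) (Category.comp_id (f₂.map φ.hom.snd))).symm
    rw [← f₂.map_comp, IsIso.hom_inv_id, f₂.map_id]

theorem fpHom_pairJF (T : Over S) (c : ClType (FibCat.fp w (pairJ f f₂ g)) T) :
    fpHom (clF (pairJF f f₂ g w) T c) = fpHom c := by
  obtain ⟨m, hm, rfl⟩ := cl_exists c
  rfl

theorem bijective_pairJF (T : Over S) : Function.Bijective (clF (pairJF f f₂ g w) T) := by
  constructor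
  · intro c c' e
    obtain ⟨k, m, hm, φ, hφ, rfl⟩ := fpEl_exists c
    obtain ⟨k', m', hm', φ', hφ', rfl⟩ := fpEl_exists c'
    have := isIso_fp_snd φ hφ
    have := isIso_fp_snd φ' hφ'
    rw [clF_pairJF f f₂ g w hm φ hφ, clF_pairJF f f₂ g w hm' φ' hφ'] at e
    obtain rfl : k = k' := (fpHom_diagEl _ _).symm.trans ((congrArg fpHom e).trans (fpHom_diagEl _ _))
    have he := (diagEl_eq_iff _ _ _).1 e
    have := isIso_fp_fst φ hφ
    have hh : f.map (inv φ.hom.fst ≫ φ'.hom.fst) ≫ m'.obj.iso.hom =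
        m.obj.iso.hom ≫ f₂.map (inv φ.hom.snd ≫ φ'.hom.snd) := by
      rw [← cancel_epi (f.map φ.hom.fst), ← cancel_mono (f₂.map (inv φ'.hom.snd))]
      simp only [Category.assoc, ← f.map_comp, ← f₂.map_comp, ← f.map_comp_assoc, ← f₂.map_comp_assoc, IsIso.hom_inv_id_assoc, IsIso.hom_inv_id,
        Category.comp_id]
      exact he.symm
    refine fpEl_eq_iff.2 ⟨fpHomMk (inv φ.hom.fst ≫ φ'.hom.fst) (inv φ.hom.snd ≫ φ'.hom.snd) hh, ?_,
      fp_hom_ext (IsIso.hom_inv_id_assoc _ _) (IsIso.hom_inv_id_assoc _ _)⟩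
    have h1 : 𝒳.p.map φ.hom.fst = eqToHom _ := hφ
    have h2 : 𝒳.p.map φ'.hom.fst = eqToHom _ := hφ'
    change 𝒳.p.map (inv φ.hom.fst ≫ φ'.hom.fst) = _
    simp [h1, h2]
  · intro c
    obtain ⟨k, v, h, rfl⟩ := diagEl_exists (g := g) (BasedFunctor.comp w (pairN f f₂ g)) c
    let x₁ := (w.obj (ov k)).obj.fst
    let x₂ := (w.obj (ov k)).obj.snd
    have hiv : IsIso v := isIso_of_vert v h.map
    let m : (FibCat.fp f f₂).obj := fpMk (F := f) (G := f₂) x₁ x₂ (fp_snd_base _) (@asIso _ _ _ _ v hiv)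
      (h.map.trans rfl)
    let φ : w.obj (ov k) ⟶ (pairJ f f₂ g).obj m := fpHomMk (𝟙 x₁) (𝟙 x₂) (by
      change g.map (f.map (𝟙 x₁)) ≫ g.map v = (w.obj (ov k)).obj.iso.hom ≫ g.map (f₂.map (𝟙 x₂))
      have e : g.map v = (w.obj (ov k)).obj.iso.hom := h.comp
      rw [e, f.map_id, g.map_id, f₂.map_id, g.map_id]
      exact (Category.id_comp _).trans (Category.comp_id _).symm)
    have hm : (FibCat.fp f f₂).p.obj m = T := (w.w_obj (ov k)).trans (ov_base k)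
    have hφ : (FibCat.fp (BasedFunctor.comp f g) (BasedFunctor.comp f₂ g)).p.map φ =
        eqToHom (((w.w_obj (ov k)).trans (ov_base k)).trans (hm.symm.trans ((pairJ f f₂ g).w_obj m).symm)) :=
      (𝒳.p.map_id x₁).trans rfl
    have := isIso_fp_snd φ hφ
    refine ⟨fpEl k m hm φ hφ, (clF_pairJF f f₂ g w hm φ hφ).trans ((diagEl_eq_iff _ _ _).2 ?_)⟩
    change f.map (𝟙 x₁) ≫ v ≫ f₂.map (inv (𝟙 x₂)) = v
    rw [f.map_id, Category.id_comp]
    simp only [IsIso.inv_id]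
    exact (congrArg (fun r => v ≫ r) (f₂.map_id x₂)).trans (Category.comp_id v)

/-- `𝒳 ×_𝒴 𝒳' ⟶ 𝒳 ×_𝒵 𝒳'` inherits the property of the diagonal of `g`. -/
theorem repByAlgSpWith_pairJ {P : MorphismProperty (Sp S)} (hΔ : AlgSt.RepByAlgSpWith P (FibCat.diag g)) :
    AlgSt.RepByAlgSpWith P (pairJ f f₂ g) := fun _ w => by
  have : (pairJ f f₂ g).toFunctor.Faithful :=
    ⟨fun h => fp_hom_ext (congrArg (fun k => k.hom.fst) h) (congrArg (fun k => k.hom.snd) h)⟩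
  exact exists_rep_transfer (pairJF f f₂ g w) (fpHom_pairJF f f₂ g w) (bijective_pairJF f f₂ g w) (hΔ _ _)


/-- The comparison of fibre products over two bases, for any 2-isomorphism with the canonical components. -/
theorem repByAlgSpWith_fpComparison {P : MorphismProperty (Sp S)}
    (e : BasedFunctor.comp (FibCat.fpFst f f₂) (BasedFunctor.comp f g) ≅
      BasedFunctor.comp (FibCat.fpSnd f f₂) (BasedFunctor.comp f₂ g))
    (he : ∀ x, e.hom.toNatTrans.app x = g.map x.obj.iso.hom)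
    (hΔ : AlgSt.RepByAlgSpWith P (FibCat.diag g)) :
    AlgSt.RepByAlgSpWith P (FibCat.fpLift (FibCat.fpFst f f₂) (FibCat.fpSnd f f₂) e) := by
  haveI : FibCat.IsFibGrpd (FibCat.fp f f₂).p := isFibGrpd_fp
  haveI : FibCat.IsFibGrpd (FibCat.fp (BasedFunctor.comp f g) (BasedFunctor.comp f₂ g)).p := isFibGrpd_fp
  refine repByAlgSpWith_congr (fpIsoMk (A := pairJ f f₂ g)
    (B := FibCat.fpLift (FibCat.fpFst f f₂) (FibCat.fpSnd f f₂) e) (Iso.refl _) (Iso.refl _) fun x => ?_)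
    (repByAlgSpWith_pairJ f f₂ g hΔ)
  change g.map (f.map (𝟙 _)) ≫ e.hom.toNatTrans.app x = g.map x.obj.iso.hom ≫ g.map (f₂.map (𝟙 _))
  rw [he, f.toFunctor.map_id, f₂.toFunctor.map_id, g.toFunctor.map_id, g.toFunctor.map_id]
  exact (Category.id_comp _).trans (Category.comp_id _).symm

end Groth.Agent.ASt
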