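import Groth.Agent.ASt.SpChart
/-!
Quasi-compactness of algebraic stacks in terms of points.
-/

set_option backward.isDefEq.respectTransparency false
set_option backward.isDefEq.respectTransparency.types false
set_option linter.unusedSectionVars false

universe u

open CategoryTheory CategoryTheory.Limits AlgebraicGeometry Opposite Topology

namespace Groth.Agent.ASt

open _root_.AlgSp Groth.Agent.ASp

variable {S : Scheme.{u}} {𝒳 : AlgSt.Cat S} [h𝒳 : FibCat.IsFibGrpd 𝒳.p]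

theorem isSurjective_of_surjective_ofChart {U : Over S} {x : FibCat.overCat U ⥤ᵇ 𝒳}
    (h : Function.Surjective (AlgSt.Points.ofChart x)) : AlgSt.IsSurjective x := fun z => by
  obtain ⟨t, rfl⟩ := h z
  exact ⟨_, (ofChart_comp (BasedFunctor.id (FibCat.overCat U)) x t).symm⟩

theorem surjective_ofChart_of_isSurjective {U : Over S} {x : FibCat.overCat U ⥤ᵇ 𝒳}
    (h : AlgSt.IsSurjective x) : Function.Surjective (AlgSt.Points.ofChart x) := fun z => by
  obtain ⟨w, rfl⟩ := h z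
  obtain ⟨t, rfl⟩ := surjective_ofChart_id U w
  exact ⟨t, ofChart_comp (BasedFunctor.id (FibCat.overCat U)) x t⟩

variable {K : Precoverage Scheme.{u}}

theorem continuous_ofChart_stack (hX : AlgSt.IsAlgStack K 𝒳) {U : Over S} (z : FibCat.overCat U ⥤ᵇ 𝒳) :
    Continuous (AlgSt.Points.ofChart z) :=
  let ⟨_, _, ha, has⟩ := hX.atlas
  continuous_ofChart ha has z

theorem continuous_map_stack {𝒴 : AlgSt.Cat S} [FibCat.IsFibGrpd 𝒴.p] (hY : AlgSt.IsAlgStack K 𝒴)
    (f : 𝒳 ⥤ᵇ 𝒴) : Continuous (AlgSt.Points.map f) :=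
  let ⟨_, _, ha, has⟩ := hY.atlas
  continuous_map ha has f

theorem compactSpace_of_surjective_chart (hX : AlgSt.IsAlgStack K 𝒳) {U : Over S} [CompactSpace ↥U.left]
    {z : FibCat.overCat U ⥤ᵇ 𝒳} (h : Function.Surjective (AlgSt.Points.ofChart z)) :
    CompactSpace (AlgSt.Points 𝒳) :=
  h.compactSpace (continuous_ofChart_stack hX z)

theorem compactSpace_of_isQuasiCompact (hX : AlgSt.IsAlgStack K 𝒳) (h : AlgSt.IsQuasiCompact 𝒳) :
    CompactSpace (AlgSt.Points 𝒳) := by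
  obtain ⟨U, x, hU, -, hxs⟩ := h
  exact compactSpace_of_surjective_chart hX (surjective_chart hxs)

theorem isQuasiCompact_of_compactSpace (hX : AlgSt.IsAlgStack K 𝒳) [CompactSpace (AlgSt.Points 𝒳)] :
    AlgSt.IsQuasiCompact 𝒳 := by
  obtain ⟨W, a, ha, has⟩ := hX.atlas
  let 𝒰 := W.left.affineCover
  obtain ⟨t, ht⟩ := isCompact_univ.elim_finite_subcover (fun i => AlgSt.Points.ofChart a '' Set.range (𝒰.f i))
    (fun i => isOpenMap_ofChart_of_smooth ha _ (𝒰.f i).isOpenEmbedding.isOpen_range)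
    (fun x _ => by
      obtain ⟨u, rfl⟩ := surjective_chart has x
      exact Set.mem_iUnion.2 ⟨𝒰.idx u, u, 𝒰.covers u, rfl⟩)
  let V : Scheme.{u} := ∐ fun i : t => 𝒰.X i
  let φ : V ⟶ W.left := Sigma.desc fun i : t => 𝒰.f i
  let φ' : Over.mk (φ ≫ W.hom) ⟶ W := Over.homMk φ rfl
  have hφ : Smooth φ := by
    rw [IsZariskiLocalAtSource.iff_of_openCover (P := @Smooth) (sigmaOpenCover fun i : t => 𝒰.X i)]
    intro i
    have hU : Smooth (𝒰.f (i : t).1) := by
      have : IsOpenImmersion (𝒰.f (i : t).1) := 𝒰.map_prop _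
      infer_instance
    have e : (sigmaOpenCover fun i : t => 𝒰.X i).f i ≫ φ = 𝒰.f (i : t).1 := Sigma.ι_desc _ _
    rw [e]
    exact hU
  have hc : AlgSt.RepByAlgSpWith (LocP @Smooth) (BasedFunctor.comp (AlgSt.overMap φ') a) :=
    repByAlgSpWith_comp compLocal_smooth (repByAlgSpWith_overMap_locP (M := @Smooth) (σ := φ') hφ) ha
  refine ⟨Over.mk (φ ≫ W.hom), _, inferInstanceAs (IsAffine V), hc,
    repByAlgSpWith_surjective_of_isSurjective (repByAlgSp1_of_with hc)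
      (isSurjective_of_surjective_ofChart fun x => ?_)⟩
  obtain ⟨i, hi, _, ⟨v, rfl⟩, rfl⟩ := Set.mem_iUnion₂.1 (ht (Set.mem_univ x))
  refine ⟨Sigma.ι (fun i : t => 𝒰.X i) ⟨i, hi⟩ v, (ofChart_overMap φ' a _).trans ?_⟩
  congr 1
  show φ (Sigma.ι (fun i : t => 𝒰.X i) ⟨i, hi⟩ v) = _
  rw [← Scheme.Hom.comp_apply]
  exact congrArg (fun g : 𝒰.X i ⟶ W.left => g v) (Sigma.ι_desc (fun i : t => 𝒰.f i) ⟨i, hi⟩)

theorem isEquivOver_toOverCat (U : Over S) : FibCat.IsEquivOver (AlgSt.toOverCat U) :=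
  ⟨AlgSt.ofOverCat U, ⟨eqToIso (basedFunctor_ext rfl)⟩, ⟨eqToIso (basedFunctor_ext rfl)⟩⟩

end Groth.Agent.ASt
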