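import Groth.Agent.ASt.LocQ
/-!
Calculus of properties of morphisms of algebraic stacks read on chart squares.
-/

set_option backward.isDefEq.respectTransparency false
set_option backward.isDefEq.respectTransparency.types false
set_option linter.unusedSectionVars false

universe u

open CategoryTheory CategoryTheory.Limits AlgebraicGeometry Opposite Topology

namespace Groth.Agent.ASt

open _root_.AlgSp Groth.Agent.ASp

variable {S : Scheme.{u}} {𝒳 𝒴 𝒵 : AlgSt.Cat S} [h𝒳 : FibCat.IsFibGrpd 𝒳.p] [h𝒴 : FibCat.IsFibGrpd 𝒴.p]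
  [h𝒵 : FibCat.IsFibGrpd 𝒵.p]

theorem isEquivOver_pasteG {𝒲 : AlgSt.Cat S} [FibCat.IsFibGrpd 𝒲.p] (g : 𝒵 ⥤ᵇ 𝒴) (f : 𝒳 ⥤ᵇ 𝒴) (b : 𝒲 ⥤ᵇ 𝒳) :
    FibCat.IsEquivOver (pasteG g f b) := by
  haveI : FibCat.IsFibGrpd (FibCat.fp g (BasedFunctor.comp b f)).p := isFibGrpd_fp
  haveI : FibCat.IsFibGrpd (FibCat.fp g f).p := isFibGrpd_fp
  haveI : FibCat.IsFibGrpd (FibCat.fp b (FibCat.fpSnd g f)).p := isFibGrpd_fp
  refine ⟨pasteF g f b,
    ⟨fpIsoMk (Iso.refl _)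
      (fpIsoMk (A := BasedFunctor.comp (BasedFunctor.comp (pasteG g f b) (pasteF g f b)) (FibCat.fpSnd b (FibCat.fpSnd g f)))
        (B := BasedFunctor.comp (BasedFunctor.id _) (FibCat.fpSnd b (FibCat.fpSnd g f)))
        (Iso.refl _) (FibCat.fpIso b (FibCat.fpSnd g f)) fun x => ?_) fun x => ?_⟩,
    ⟨fpIsoMk (Iso.refl _) (Iso.refl _) fun x => ?_⟩⟩
  · change g.map (𝟙 x.obj.snd.obj.fst) ≫ x.obj.snd.obj.iso.hom =
      (x.obj.snd.obj.iso.hom ≫ f.map x.obj.iso.inv) ≫ f.map x.obj.iso.hom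
    simp [← Functor.map_comp]
  · change b.map (𝟙 x.obj.fst) ≫ x.obj.iso.hom = 𝟙 (b.obj x.obj.fst) ≫ x.obj.iso.hom
    simp
  · change g.map (𝟙 x.obj.fst) ≫ x.obj.iso.hom =
      (x.obj.iso.hom ≫ f.map (𝟙 (b.obj x.obj.snd))) ≫ f.map (b.map (𝟙 x.obj.snd))
    simp
    exact (Category.comp_id _).symm


/-- A morphism with smooth surjective charts. -/
structure ChartOf (f : 𝒳 ⥤ᵇ 𝒴) {V : Over S} (y : FibCat.overCat V ⥤ᵇ 𝒴) where
  /-- the chart -/
  C : Over S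
  /-- its map to the base change -/
  c : FibCat.overCat C ⥤ᵇ FibCat.fp y f
  smooth : AlgSt.RepByAlgSpWith (LocP @Smooth) c
  surj : AlgSt.RepByAlgSpWith IsSurjectiveMor c
  /-- its structure map -/
  k : C ⟶ V
  /-- compatibility -/
  α : BasedFunctor.comp c (FibCat.fpFst y f) ≅ AlgSt.overMap k

theorem nonempty_chartOf (hY : AlgSt.RepByAlgSp1 (FibCat.diag (FibCat.toSelf 𝒴)))
    (hX : AlgSt.HasAtlas (LocP @Smooth) 𝒳) (f : 𝒳 ⥤ᵇ 𝒴) {V : Over S} (y : FibCat.overCat V ⥤ᵇ 𝒴) :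
    Nonempty (ChartOf f y) := by
  obtain ⟨C, c, hc, hcs⟩ := hasAtlas_fp (isAlgStack_overCat V).atlas hX hY y f
  obtain ⟨k, ⟨γ⟩⟩ := exists_overMap (BasedFunctor.comp c (FibCat.fpFst y f))
  exact ⟨⟨C, c, hc, hcs, k, γ⟩⟩

namespace ChartOf

variable {f : 𝒳 ⥤ᵇ 𝒴} {V : Over S} {y : FibCat.overCat V ⥤ᵇ 𝒴} (D : ChartOf f y)

/-- The chart of the source. -/
noncomputable def x : FibCat.overCat D.C ⥤ᵇ 𝒳 := BasedFunctor.comp D.c (FibCat.fpSnd y f)

/-- The square. -/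
noncomputable def sq : BasedFunctor.comp D.x f ≅ BasedFunctor.comp (AlgSt.overMap D.k) y :=
  (wL D.c (FibCat.fpIso y f)).symm.trans (wR D.α y)

theorem x_smooth (hy : AlgSt.RepByAlgSpWith (LocP @Smooth) y) : AlgSt.RepByAlgSpWith (LocP @Smooth) D.x :=
  repByAlgSpWith_comp compLocal_smooth D.smooth (repByAlgSpWith_fpSnd f hy)

theorem x_surj (hys : AlgSt.RepByAlgSpWith IsSurjectiveMor y) : AlgSt.RepByAlgSpWith IsSurjectiveMor D.x := by
  haveI : FibCat.IsFibGrpd (FibCat.fp y f).p := isFibGrpd_fp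
  exact repByAlgSpWith_comp compLocal_surjective D.surj (repByAlgSpWith_fpSnd f hys)

theorem locQ {P : MorphismProperty (Sp S)} (hy : AlgSt.RepByAlgSpWith (LocP @Smooth) y)
    (hys : AlgSt.RepByAlgSpWith IsSurjectiveMor y) (hk : P ((yon S).map D.k)) : AlgSt.LocQ P f :=
  ⟨D.C, V, D.x, y, D.k, D.sq, D.x_smooth hy, D.x_surj hys, hy, hk⟩

theorem prop {P : MorphismProperty (Sp S)} (hP : IsSmoothLocalST P)
    (hY : AlgSt.RepByAlgSp1 (FibCat.diag (FibCat.toSelf 𝒴))) (hy : AlgSt.RepByAlgSpWith (LocP @Smooth) y)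
    (hf : AlgSt.LocQ P f) : P ((yon S).map D.k) :=
  smLoc_of_locQ hP hY hf hy D.smooth D.α

theorem surjective_k (hf : AlgSt.IsSurjective f) : Surjective D.k.left := by
  haveI : FibCat.IsFibGrpd (FibCat.fp y f).p := isFibGrpd_fp
  refine ⟨fun v => ?_⟩
  obtain ⟨u, hu⟩ := hf (AlgSt.Points.map y (schemePts V v))
  obtain ⟨e, he, -⟩ := points_surjective_fp y f (schemePts V v) u hu.symm
  obtain ⟨w, rfl⟩ := isSurjective_of_repByAlgSpWith D.surj e
  obtain ⟨s, rfl⟩ := (schemePts D.C).surjective w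
  rw [map_map, map_congr D.α, map_schemePts,
    ← show AlgSt.Points.ofChart (BasedFunctor.id (FibCat.overCat V)) (D.k.left s) =
      AlgSt.Points.ofChart (AlgSt.overMap D.k) s from (ofChart_overMap D.k _ s).symm, schemePts_apply] at he
  exact ⟨s, injective_ofChart_id V he⟩

section Comp

variable {g : 𝒴 ⥤ᵇ 𝒵} {W : Over S} {w : FibCat.overCat W ⥤ᵇ 𝒵} (E : ChartOf g w) (D' : ChartOf f E.x)

/-- A chart of a composite from charts of the two morphisms. -/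
noncomputable def compChart : FibCat.overCat D'.C ⥤ᵇ FibCat.fp w (BasedFunctor.comp f g) :=
  BasedFunctor.comp (BasedFunctor.comp D'.c
    (BasedFunctor.comp (swapF E.x f) (pushR f (FibCat.fpSnd w g) E.c))) (pasteG w g f)

theorem compChart_smooth : AlgSt.RepByAlgSpWith (LocP @Smooth) (compChart E D') := by
  haveI : FibCat.IsFibGrpd (FibCat.fp w g).p := isFibGrpd_fp
  haveI : FibCat.IsFibGrpd (FibCat.fp E.x f).p := isFibGrpd_fp
  haveI : FibCat.IsFibGrpd (FibCat.fp f E.x).p := isFibGrpd_fp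
  haveI : FibCat.IsFibGrpd (FibCat.fp f (BasedFunctor.comp E.c (FibCat.fpSnd w g))).p := isFibGrpd_fp
  haveI : FibCat.IsFibGrpd (FibCat.fp f (FibCat.fpSnd w g)).p := isFibGrpd_fp
  haveI : FibCat.IsFibGrpd (FibCat.fp w (BasedFunctor.comp f g)).p := isFibGrpd_fp
  obtain ⟨G, ⟨a⟩, ⟨b⟩⟩ := isEquivOver_pasteF w g f
  refine repByAlgSpWith_postcomp _ ?_ (repByAlgSpWith_comp compLocal_smooth D'.smooth
    (repByAlgSpWith_precomp (isEquivOver_swapF E.x f) (repByAlgSpWith_pushR f (FibCat.fpSnd w g) E.c E.smooth)))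
  exact isEquivOver_pasteG w g f

/-- Compatibility of the chart of a composite. -/
noncomputable def compChartIso :
    BasedFunctor.comp (compChart E D') (FibCat.fpFst w (BasedFunctor.comp f g)) ≅ AlgSt.overMap (D'.k ≫ E.k) :=
  ((wL (BasedFunctor.comp D'.c (FibCat.fpFst E.x f)) E.α).trans (wR D'.α (AlgSt.overMap E.k))).trans
    (overMapComp D'.k E.k)

end Comp

end ChartOf

theorem locQ_comp {P : MorphismProperty (Sp S)} (hP : IsSmoothLocalST P)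
    (hc : ∀ {A B C : Over S} (a : A ⟶ B) (b : B ⟶ C), P ((yon S).map a) → P ((yon S).map b) → P ((yon S).map (a ≫ b)))
    (hX : AlgSt.IsAlgStack Scheme.fppfPrecoverage 𝒳) (hY : AlgSt.IsAlgStack Scheme.fppfPrecoverage 𝒴)
    (hZ : AlgSt.IsAlgStack Scheme.fppfPrecoverage 𝒵) {f : 𝒳 ⥤ᵇ 𝒴} {g : 𝒴 ⥤ᵇ 𝒵}
    (hf : AlgSt.LocQ P f) (hg : AlgSt.LocQ P g) : AlgSt.LocQ P (BasedFunctor.comp f g) := by
  obtain ⟨W, w, hw, hws⟩ := hZ.atlas
  obtain ⟨E⟩ := nonempty_chartOf hZ.diag hY.atlas g w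
  obtain ⟨D⟩ := nonempty_chartOf hY.diag hX.atlas f E.x
  exact ⟨D.C, W, D.x, w, D.k ≫ E.k,
    ((wR D.sq g).trans ((wL (AlgSt.overMap D.k) E.sq).trans (wR (overMapComp D.k E.k) w))),
    D.x_smooth (E.x_smooth hw), D.x_surj (E.x_surj hws), hw,
    hc D.k E.k (D.prop hP hY.diag (E.x_smooth hw) hf) (E.prop hP hZ.diag hw hg)⟩

/-- Charts on which a composite has the property of the morphism read on squares. -/
theorem exists_charts_comp {P : MorphismProperty (Sp S)} (hP : IsSmoothLocalST P)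
    (hX : AlgSt.IsAlgStack Scheme.fppfPrecoverage 𝒳) (hY : AlgSt.IsAlgStack Scheme.fppfPrecoverage 𝒴)
    (hZ : AlgSt.IsAlgStack Scheme.fppfPrecoverage 𝒵) {f : 𝒳 ⥤ᵇ 𝒴} {g : 𝒴 ⥤ᵇ 𝒵}
    (h : AlgSt.LocQ P (BasedFunctor.comp f g)) :
    ∃ (W : Over S) (w : FibCat.overCat W ⥤ᵇ 𝒵) (E : ChartOf g w) (D : ChartOf f E.x),
      AlgSt.RepByAlgSpWith (LocP @Smooth) w ∧ AlgSt.RepByAlgSpWith IsSurjectiveMor w ∧
      P ((yon S).map (D.k ≫ E.k)) := by
  obtain ⟨W, w, hw, hws⟩ := hZ.atlas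
  obtain ⟨E⟩ := nonempty_chartOf hZ.diag hY.atlas g w
  obtain ⟨D⟩ := nonempty_chartOf hY.diag hX.atlas f E.x
  exact ⟨W, w, E, D, hw, hws,
    smLoc_of_locQ hP hZ.diag h hw (ChartOf.compChart_smooth E D) (ChartOf.compChartIso E D)⟩

theorem prop_left_of_locP {M : MorphismProperty Scheme.{u}} [IsEtLocal M] {A B : Over S} {k : A ⟶ B}
    (h : LocP M ((yon S).map k)) : M k.left :=
  h (𝟙 _) (𝟙 _) k (AlgSp.repWith_id _ A) (AlgSp.repWith_id _ B) (by simp)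

theorem locP_of_prop_left {M : MorphismProperty Scheme.{u}} [IsEtLocal M] {A B : Over S} {k : A ⟶ B}
    (h : M k.left) : LocP M ((yon S).map k) :=
  locP_of_repWith (repWith_yon_map h)

end Groth.Agent.ASt
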