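import Groth.Agent.ASt.SmLocally
import Groth.Agent.ASt.StQc
import Groth.Agent.FpqcDesc.Noeth
import Groth.Agent.ASp.SmST
/-!
Locally Noetherian algebraic stacks.
-/

set_option backward.isDefEq.respectTransparency false
set_option backward.isDefEq.respectTransparency.types false
set_option linter.unusedSectionVars false

universe u

open CategoryTheory CategoryTheory.Limits AlgebraicGeometry Opposite Topology TopologicalSpace

namespace Groth.Agent.ASt

open _root_.AlgSp Groth.Agent.ASp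

theorem isLocallyNoetherian_smLocal (U : Scheme.{u}) (R : Presieve U) (hR : R ∈ Scheme.precoverage @Smooth U) :
    IsLocallyNoetherian U ↔ ∀ ⦃V : Scheme.{u}⦄ (g : V ⟶ U), R g → IsLocallyNoetherian V := by
  refine ⟨fun _ V g hg => ?_, fun h => ?_⟩
  · haveI : Smooth g := hR.2 hg
    exact LocallyOfFiniteType.isLocallyNoetherian g
  · have h1 : ∀ x : ↥U, ∃ (V : Scheme.{u}) (g : V ⟶ U), R g ∧ x ∈ Set.range g := fun x => by
      have := hR.1
      rw [Scheme.jointlySurjectivePrecoverage, Precoverage.mem_comap_iff] at this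
      obtain ⟨Z, g, ⟨hg⟩, w, hw⟩ := (Types.mem_jointlySurjectivePrecoverage_iff.1 this) x
      exact ⟨_, _, hg, w, hw⟩
    choose V g hg hx using h1
    let T : Scheme.{u} := ∐ V
    haveI : IsLocallyNoetherian T := (isLocallyNoetherian_iff_openCover (sigmaOpenCover V)).2 fun i => h _ (hg i)
    let t : T ⟶ U := Limits.Sigma.desc g
    haveI : Smooth t := by
      rw [IsZariskiLocalAtSource.iff_of_openCover (P := @Smooth) (sigmaOpenCover V)]
      intro i
      have e : (sigmaOpenCover V).f i ≫ t = g i := Sigma.ι_desc _ _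
      rw [e]
      exact hR.2 (hg i)
    haveI : Surjective t := ⟨fun x => by
      obtain ⟨w, hw⟩ := hx x
      refine ⟨Sigma.ι V x w, ?_⟩
      rw [← Scheme.Hom.comp_apply, Sigma.ι_desc]
      exact hw⟩
    exact Groth.Agent.NoethDesc.of_fppf t

variable {S : Scheme.{u}} {𝒳 : AlgSt.Cat S} [h𝒳 : FibCat.IsFibGrpd 𝒳.p]

theorem exists_isOpen_noetherianSpace (hX : AlgSt.IsAlgStack Scheme.fppfPrecoverage 𝒳)
    (h : AlgSt.SmoothLocally (fun T => IsLocallyNoetherian T) 𝒳) (x : AlgSt.Points 𝒳) :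
    ∃ U : Set (AlgSt.Points 𝒳), IsOpen U ∧ x ∈ U ∧ NoetherianSpace U := by
  obtain ⟨V, z, hz, hzs⟩ := hX.atlas
  haveI : IsLocallyNoetherian V.left := h V z hz
  obtain ⟨t, rfl⟩ := surjective_chart hzs x
  obtain ⟨A, hA, htA, -⟩ := exists_isAffineOpen_mem_and_subset (x := t) (U := (⊤ : V.left.Opens)) trivial
  haveI : IsNoetherianRing Γ(V.left, A) := IsLocallyNoetherian.component_noetherian ⟨A, hA⟩
  haveI := noetherianSpace_of_isAffineOpen A hA
  refine ⟨AlgSt.Points.ofChart z '' A, isOpenMap_ofChart_of_smooth hz _ A.2, ⟨t, htA, rfl⟩, ?_⟩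
  have := NoetherianSpace.range (α := A) (fun a => AlgSt.Points.ofChart z a.1)
    ((continuous_ofChart_stack hX z).comp continuous_subtype_val)
  rw [show AlgSt.Points.ofChart z '' A = Set.range fun a : A => AlgSt.Points.ofChart z a.1 from
    Set.image_eq_range _ _]
  exact this

theorem noetherianSpace_points (hX : AlgSt.IsAlgStack Scheme.fppfPrecoverage 𝒳) (hc : AlgSt.IsQuasiCompact 𝒳)
    (h : AlgSt.SmoothLocally (fun T => IsLocallyNoetherian T) 𝒳) : NoetherianSpace (AlgSt.Points 𝒳) := by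
  obtain ⟨V, z, hV, hz, hzs⟩ := hc
  haveI : IsLocallyNoetherian V.left := h V z hz
  haveI : IsNoetherianRing Γ(V.left, ⊤) := IsLocallyNoetherian.component_noetherian ⟨⊤, isAffineOpen_top V.left⟩
  haveI : NoetherianSpace ↥V.left :=
    noetherian_univ_iff.1 (noetherianSpace_of_isAffineOpen ⊤ (isAffineOpen_top V.left))
  exact noetherianSpace_of_surjective _ (continuous_ofChart_stack hX z) (surjective_chart hzs)

theorem quasiSober_points (hX : AlgSt.IsAlgStack Scheme.fppfPrecoverage 𝒳)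
    (h : AlgSt.SmoothLocally (fun T => IsLocallyNoetherian T) 𝒳) : QuasiSober (AlgSt.Points 𝒳) := by
  classical
  obtain ⟨V, z, hz, hzs⟩ := hX.atlas
  haveI : IsLocallyNoetherian V.left := h V z hz
  refine ⟨fun {Z} hZ hZc => ?_⟩
  let f := AlgSt.Points.ofChart z
  have hf : Continuous f := continuous_ofChart_stack hX z
  obtain ⟨x, hx⟩ := hZ.nonempty
  obtain ⟨t, rfl⟩ := surjective_chart hzs x
  obtain ⟨A, hA, htA, -⟩ := exists_isAffineOpen_mem_and_subset (x := t) (U := (⊤ : V.left.Opens)) trivial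
  haveI : IsNoetherianRing Γ(V.left, A) := IsLocallyNoetherian.component_noetherian ⟨A, hA⟩
  haveI : NoetherianSpace ↥A := noetherianSpace_of_isAffineOpen A hA
  let g : A → AlgSt.Points 𝒳 := fun a => f a.1
  have hg : Continuous g := hf.comp continuous_subtype_val
  obtain ⟨C, hCf, hCcl, hCirr, hCe⟩ := NoetherianSpace.exists_finite_set_isClosed_irreducible (hZc.preimage hg)
  have h1 : Z ∩ f '' A ⊆ ⋃ c ∈ C, closure (g '' c) := by
    rintro _ ⟨hzZ, a, ha, rfl⟩
    have : (⟨a, ha⟩ : A) ∈ g ⁻¹' Z := hzZ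
    rw [hCe] at this
    obtain ⟨c, hc, hac⟩ := this
    exact Set.mem_biUnion hc (subset_closure ⟨⟨a, ha⟩, hac, rfl⟩)
  have h2 : Z ⊆ ⋃ c ∈ C, closure (g '' c) := by
    refine (subset_closure_inter_of_isPreirreducible_of_isOpen hZ.isPreirreducible (isOpenMap_ofChart_of_smooth hz _ A.2)
      ⟨f t, hx, t, htA, rfl⟩).trans ?_
    exact closure_minimal h1 (hCf.isClosed_biUnion fun _ _ => isClosed_closure)
  obtain ⟨W, hW, hZW⟩ := isIrreducible_iff_sUnion_isClosed.1 hZ (hCf.toFinset.image fun c => closure (g '' c))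
    (by simp) (by simpa using h2)
  obtain ⟨c, hc, rfl⟩ := Finset.mem_image.1 hW
  have hc' : c ∈ C := hCf.mem_toFinset.1 hc
  obtain ⟨η, hη⟩ := (quasiSober_iff ↥A).1 (inferInstanceAs (QuasiSober A.toScheme)) (hCirr c hc') (hCcl c hc')
  refine ⟨g η, le_antisymm (hZc.closure_subset_iff.2 (Set.singleton_subset_iff.2 ?_)) ?_⟩
  · have : η ∈ g ⁻¹' Z := by rw [hCe]; exact ⟨c, hc', hη.mem⟩
    exact this
  · refine hZW.trans (closure_minimal ?_ isClosed_closure)
    rw [← hη.def]
    exact (image_closure_subset_closure_image hg).trans (by rw [Set.image_singleton])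

end Groth.Agent.ASt
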