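import Groth.Agent.ASt.LocQ
import Groth.Agent.ASt.SpChart
/-!
Smooth local properties of algebraic stacks read on one chart.
-/

set_option backward.isDefEq.respectTransparency false
set_option backward.isDefEq.respectTransparency.types false
set_option linter.unusedSectionVars false

universe u

open CategoryTheory CategoryTheory.Limits AlgebraicGeometry Opposite Topology

namespace Groth.Agent.ASt

open _root_.AlgSp Groth.Agent.ASp

variable {S : Scheme.{u}} {𝒳 : AlgSt.Cat S} [h𝒳 : FibCat.IsFibGrpd 𝒳.p]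

theorem exists_smooth_cover {U₁ U₂ : Over S} {x₁ : FibCat.overCat U₁ ⥤ᵇ 𝒳} {x₂ : FibCat.overCat U₂ ⥤ᵇ 𝒳}
    (h₁ : AlgSt.RepByAlgSpWith (LocP @Smooth) x₁) (h₂ : AlgSt.RepByAlgSpWith (LocP @Smooth) x₂)
    (h₂s : AlgSt.RepByAlgSpWith IsSurjectiveMor x₂) :
    ∃ (W : Over S) (w₁ : W ⟶ U₁) (w₂ : W ⟶ U₂), Smooth w₁.left ∧ Surjective w₁.left ∧ Smooth w₂.left ∧
      Nonempty (BasedFunctor.comp (AlgSt.overMap w₁) x₁ ≅ BasedFunctor.comp (AlgSt.overMap w₂) x₂) := by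
  obtain ⟨hs, hA, W, p, E, w₁, hpe, hps, hcomp, ⟨α⟩, -, hE⟩ := exists_chart_of_fib (repByAlgSp1_of_with h₂) x₁
  haveI : FibCat.IsFibGrpd (FibCat.fp x₁ x₂).p := isFibGrpd_fp
  obtain ⟨w₂, ⟨β⟩⟩ := exists_overMap (BasedFunctor.comp E (FibCat.fpSnd x₁ x₂))
  have hEsm := hE (P := LocP @Smooth) hpe fun v hv => locP_of_repWith (repWith_yon_map
    (haveI : Etale v.left := hv; inferInstance))
  obtain ⟨_, _, q1⟩ := (repByAlgSpWith_iff.1 h₂).2 U₁ x₁
  obtain ⟨_, _, q3⟩ := (repByAlgSpWith_iff.1 h₂s).2 U₁ x₁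
  refine ⟨W, w₁, w₂, prop_chart hpe hcomp q1, surjective_left_of_map (by
    rw [← hcomp, show AlgSp.Points.map (p ≫ _) = AlgSp.Points.map _ ∘ AlgSp.Points.map p from
      funext (AlgSp.Points.map_comp p _)]
    exact q3.comp (surjective_map_of_repWith hps)),
    prop_of_repByAlgSpWith_overMap
      (repByAlgSpWith_congr β (repByAlgSpWith_comp compLocal_smooth hEsm (repByAlgSpWith_fpSnd x₂ h₁))),
    ⟨(wR α.symm x₁).trans ((wL E (FibCat.fpIso x₁ x₂)).trans (wR β x₂))⟩⟩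

variable {P : Scheme.{u} → Prop}
  (hP : ∀ (U : Scheme.{u}) (R : Presieve U), R ∈ Scheme.precoverage @Smooth U →
    (P U ↔ ∀ ⦃V : Scheme.{u}⦄ (g : V ⟶ U), R g → P V))

include hP

theorem prop_of_smooth_surjective {U W : Scheme.{u}} (f : W ⟶ U) [Smooth f] [Surjective f] (h : P W) : P U := by
  have hR : Presieve.singleton f ∈ Scheme.precoverage @Smooth U :=
    (Scheme.singleton_mem_precoverage_iff (P := @Smooth) f).2 ⟨f.surjective, inferInstance⟩
  exact (hP U _ hR).2 (by rintro V g ⟨⟩; exact h)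

theorem prop_of_smooth {U W : Scheme.{u}} (f : W ⟶ U) [Smooth f] (h : P U) : P W := by
  let g : Fin 2 → Σ V : Scheme.{u}, V ⟶ U := ![⟨W, f⟩, ⟨U, 𝟙 U⟩]
  have hR : (Presieve.ofArrows (fun i => (g i).1) (fun i => (g i).2)) ∈ Scheme.precoverage @Smooth U := by
    rw [Scheme.ofArrows_mem_precoverage_iff]
    refine ⟨fun x => ⟨1, x, rfl⟩, fun i => ?_⟩
    fin_cases i
    · exact inferInstanceAs (Smooth f)
    · exact inferInstanceAs (Smooth (𝟙 U))
  exact (hP U _ hR).1 h f (Presieve.ofArrows.mk (Y := fun i => (g i).1) (f := fun i => (g i).2) (0 : Fin 2))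

theorem smoothLocally_of_chart {U : Over S} {x : FibCat.overCat U ⥤ᵇ 𝒳}
    (hx : AlgSt.RepByAlgSpWith (LocP @Smooth) x) (hxs : AlgSt.RepByAlgSpWith IsSurjectiveMor x) (h : P U.left) :
    AlgSt.SmoothLocally P 𝒳 := fun U' x' hx' => by
  obtain ⟨W, w₁, w₂, h₁, h₁s, h₂, -⟩ := exists_smooth_cover hx' hx hxs
  exact prop_of_smooth_surjective hP w₁.left (prop_of_smooth hP w₂.left h)

end Groth.Agent.ASt
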