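import Groth.Agent.ASt.FpSp
/-!
Descent along the source for representable morphisms.
-/

set_option backward.isDefEq.respectTransparency false
set_option backward.isDefEq.respectTransparency.types false
set_option linter.unusedSectionVars false

universe u

open CategoryTheory CategoryTheory.Limits AlgebraicGeometry Opposite

namespace Groth.Agent.ASt

open _root_.AlgSp Groth.Agent.ASp

variable {S : Scheme.{u}} {𝒳 𝒴 𝒵 : AlgSt.Cat S} [h𝒳 : FibCat.IsFibGrpd 𝒳.p] [h𝒴 : FibCat.IsFibGrpd 𝒴.p]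
  [h𝒵 : FibCat.IsFibGrpd 𝒵.p] {f : 𝒳 ⥤ᵇ 𝒴} {g : 𝒴 ⥤ᵇ 𝒵}

/-- A property local on the source is read after a surjective morphism in the topology. -/
theorem repByAlgSpWith_of_source {P Q : MorphismProperty (Sp S)} [P.RespectsIso] [Q.RespectsIso]
    (hQ : CompLocal Q)
    (hloc : ∀ ⦃X F Y : Sp S⦄, IsAlgSpace X → IsAlgSpace F → IsAlgSpace Y → ∀ (q : X ⟶ F) (a : F ⟶ Y),
      Q q → IsSurjectiveMor q → P (q ≫ a) → P a)
    (hg : AlgSt.RepByAlgSp1 g) (hf : AlgSt.RepByAlgSpWith Q f) (hfs : AlgSt.RepByAlgSpWith IsSurjectiveMor f)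
    (h : AlgSt.RepByAlgSpWith P (BasedFunctor.comp f g)) : AlgSt.RepByAlgSpWith P g := by
  rw [repByAlgSpWith_iff] at hf hfs h ⊢
  haveI := faithful_of_repByAlgSp1 hg
  refine ⟨inferInstance, fun U z => ?_⟩
  obtain ⟨hs, hA⟩ := (repByAlgSp1_iff.1 hg).2 U z
  obtain ⟨hs', hA', hP⟩ := h.2 U z
  let F : Sp S := ⟨fib z g, hs⟩
  let X : Sp S := ⟨fib z (BasedFunctor.comp f g), hs'⟩
  let q : X ⟶ F := ObjectProperty.homMk (clFun (compF f g z))
  obtain ⟨V, p, hpe, hps⟩ := hA.atlas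
  obtain ⟨y, a, sq⟩ := exists_isPullback_compF (f := f) z p.hom
  obtain ⟨h1, h2, h3⟩ := hf.2 V y
  obtain ⟨_, _, h3'⟩ := hfs.2 V y
  have hq : Q q := hQ.loc hA' hA q p hpe hps (ObjectProperty.homMk a : (⟨fib y f, h1⟩ : Sp S) ⟶ X)
    (ObjectProperty.homMk (fibπ y f)) h2
    (IsPullback.of_map_of_faithful (sheafToPresheaf (J S) (Type (u + 1))) sq) h3
  have hqs : IsSurjectiveMor q := compLocal_surjective.loc hA' hA q p hpe hps
    (ObjectProperty.homMk a : (⟨fib y f, h1⟩ : Sp S) ⟶ X) (ObjectProperty.homMk (fibπ y f)) h2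
    (IsPullback.of_map_of_faithful (sheafToPresheaf (J S) (Type (u + 1))) sq) h3'
  refine ⟨hs, hA, hloc hA' hA (IsAlgSpace.yon_obj U) q
    (ObjectProperty.homMk (fibπ z g) : F ⟶ (yon S).obj U) hq hqs ?_⟩
  have : (ObjectProperty.homMk (fibπ z (BasedFunctor.comp f g)) : X ⟶ (yon S).obj U) =
      q ≫ ObjectProperty.homMk (fibπ z g) := ObjectProperty.hom_ext _ (clFun_compF_π f g z).symm
  exact this ▸ hP

/-- Two properties of one representable morphism. -/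
theorem repByAlgSpWith_inf {P Q : MorphismProperty (Sp S)} [P.RespectsIso] [Q.RespectsIso]
    (hP : AlgSt.RepByAlgSpWith P f) (hQ : AlgSt.RepByAlgSpWith Q f) : AlgSt.RepByAlgSpWith (P ⊓ Q) f := by
  rw [repByAlgSpWith_iff] at hP hQ ⊢
  refine ⟨hP.1, fun U y => ?_⟩
  obtain ⟨hs, hA, hp⟩ := hP.2 U y
  obtain ⟨_, _, hq⟩ := hQ.2 U y
  exact ⟨hs, hA, hp, hq⟩

end Groth.Agent.ASt
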