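import Groth.Agent.DecSec.OpenImage
import Groth.Agent.DecSec.GerbePoint
import Groth.Agent.DecSec.GerbeCrit2
import Groth.Agent.ASt.FpAtlas
import Groth.Agent.ASt.QcMor
import Groth.Agent.ASt.SubCover
import Groth.Agent.ASp.DecentPt
import Groth.Agent.ASp.YonExt
import Groth.Agent.S12821
import Groth.Agent.S12844
/-!
The largest open substack on which a representable morphism has a property.
-/

set_option backward.isDefEq.respectTransparency false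
set_option backward.isDefEq.respectTransparency.types false
set_option linter.unusedSectionVars false

universe u

open CategoryTheory CategoryTheory.Limits AlgebraicGeometry Opposite

namespace Groth.Agent.ASt

open _root_.AlgSp Groth.Agent.ASp

variable {S : Scheme.{u}}

section Pts

theorem injective_toSpPoint {F : Sp S} : Function.Injective (DecSec.toSpPoint (F := F)) := by
  intro x y h
  obtain ⟨p, rfl⟩ := AlgSt.Points.mk_surjective x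
  obtain ⟨q, rfl⟩ := AlgSt.Points.mk_surjective y
  obtain ⟨Ω, _, w, a, b, hab⟩ := AlgSp.Points.mk_eq_mk_iff.1 h
  let r : AlgSt.FPt (AlgSt.ofSp F) :=
    { K := Ω, str := w
      obj := ⟨Over.mk w, F.obj.map a.op (F.obj.map (eqToHom (p.lies : p.obj.base = _).symm).op p.obj.sec)⟩
      lies := rfl }
  exact AlgSt.Points.sound ⟨r, (⟨a ≫ eqToHom (p.lies : p.obj.base = _).symm, (presheaf_map_map _ _ _).symm⟩ : r.obj ⟶ p.obj),
    (⟨b ≫ eqToHom (q.lies : q.obj.base = _).symm, (presheaf_map_map _ _ _).symm.trans hab.symm⟩ : r.obj ⟶ q.obj), trivial⟩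

/-- The points of the category of a space are the points of the space. -/
noncomputable def spPts (F : Sp S) : AlgSt.Points (AlgSt.ofSp F) ≃ AlgSp.Points F :=
  Equiv.ofBijective DecSec.toSpPoint ⟨injective_toSpPoint, DecSec.surjective_toSpPoint⟩

theorem spPts_map {F G : Sp S} (g : F ⟶ G) (x : AlgSt.Points (AlgSt.ofSp F)) :
    spPts G (AlgSt.Points.map (AlgSt.ofSpMap g) x) = AlgSp.Points.map g (spPts F x) := by
  obtain ⟨p, rfl⟩ := AlgSt.Points.mk_surjective x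
  exact congrArg (fun v => AlgSp.Points.mk ⟨p.K, p.str, v⟩)
    (NatTrans.naturality_apply g.hom (eqToHom (p.lies : p.obj.base = _).symm).op p.obj.sec).symm

variable {𝒳 : AlgSt.Cat S} [h𝒳 : FibCat.IsFibGrpd 𝒳.p]

/-- The points map of a functor on a space. -/
noncomputable def spMapPts {F : Sp S} (X : AlgSt.ofSp F ⥤ᵇ 𝒳) (v : AlgSp.Points F) : AlgSt.Points 𝒳 :=
  AlgSt.Points.map X ((spPts F).symm v)

theorem spMapPts_map {F G : Sp S} (g : F ⟶ G) (X : AlgSt.ofSp G ⥤ᵇ 𝒳) (v : AlgSp.Points F) :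
    spMapPts X (AlgSp.Points.map g v) = spMapPts (BasedFunctor.comp (AlgSt.ofSpMap g) X) v := by
  have h : (spPts G).symm (AlgSp.Points.map g v) = AlgSt.Points.map (AlgSt.ofSpMap g) ((spPts F).symm v) := by
    apply (spPts G).injective
    rw [spPts_map, Equiv.apply_symm_apply, Equiv.apply_symm_apply]
  rw [spMapPts, h, map_map]
  rfl

theorem spMapPts_congr {F : Sp S} {X X' : AlgSt.ofSp F ⥤ᵇ 𝒳} (α : X ≅ X') (v : AlgSp.Points F) :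
    spMapPts X v = spMapPts X' v :=
  map_congr α _

theorem range_spMapPts {F : Sp S} (X : AlgSt.ofSp F ⥤ᵇ 𝒳) :
    Set.range (spMapPts X) = Set.range (AlgSt.Points.map X) :=
  (spPts F).symm.surjective.range_comp _

theorem ofSpMap_injective {F G : Sp S} {a b : F ⟶ G} (α : AlgSt.ofSpMap a ≅ AlgSt.ofSpMap b) : a = b := by
  ext T s
  have h := (exists_hom_iff (A := AlgSt.ofSpMap a) (B := AlgSt.ofSpMap b)).1 ⟨α.hom⟩ ⟨T.unop, s⟩
  simpa [secOf, AlgSt.ofSpMap, Stk.ofPshMap] using h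

theorem ofSpMap_comp {E F G : Sp S} (a : E ⟶ F) (b : F ⟶ G) :
    BasedFunctor.comp (AlgSt.ofSpMap a) (AlgSt.ofSpMap b) = AlgSt.ofSpMap (a ≫ b) :=
  basedFunctor_ext rfl

/-- An open immersion is determined by its image. -/
theorem exists_factor_openImm {F G W : Sp S} {j : W ⟶ G} (hj : RepWith @IsOpenImmersion j) (g : F ⟶ G)
    (h : Set.range (AlgSp.Points.map g) ⊆ Set.range (AlgSp.Points.map j)) : ∃ k : F ⟶ W, k ≫ j = g := by
  haveI : Mono j := mono_of_repWith (P := @IsOpenImmersion)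
    (fun g hg => haveI : IsOpenImmersion g := hg; inferInstance) hj
  haveI : IsIso (pullback.snd j g) := by
    refine isIso_of_yon _ fun T b => ?_
    obtain ⟨l, hl⟩ := exists_lift_openImm hj (b ≫ g) (fun t => h ⟨Points.ofPt b t, Points.map_ofPt _ _ _⟩)
    exact ⟨pullback.lift l b hl, pullback.lift_snd _ _ _,
      fun a ha => (cancel_mono (pullback.snd j g)).1 (by rw [ha, pullback.lift_snd])⟩
  exact ⟨inv (pullback.snd j g) ≫ pullback.fst j g, by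
    rw [Category.assoc, pullback.condition, IsIso.inv_hom_id_assoc]⟩

theorem range_subset_of_factor {F G W : Sp S} {j : W ⟶ G} {g : F ⟶ G} (h : ∃ k : F ⟶ W, k ≫ j = g) :
    Set.range (AlgSp.Points.map g) ⊆ Set.range (AlgSp.Points.map j) := by
  obtain ⟨k, rfl⟩ := h
  rintro _ ⟨v, rfl⟩
  exact ⟨_, (Points.map_comp _ _ _).symm⟩

theorem range_map_of_isPullback {A B C D : Sp S} {fst : A ⟶ B} {snd : A ⟶ C} {f : B ⟶ D} {g : C ⟶ D}
    (sq : IsPullback fst snd f g) :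
    Set.range (AlgSp.Points.map snd) = AlgSp.Points.map g ⁻¹' Set.range (AlgSp.Points.map f) := by
  ext c
  constructor
  · rintro ⟨x, rfl⟩
    exact ⟨AlgSp.Points.map fst x, by rw [← Points.map_comp, sq.w, Points.map_comp]⟩
  · rintro ⟨b, hb⟩
    obtain ⟨z, -, hz⟩ := points_exists_of_isPullback sq b c hb
    exact ⟨z, hz⟩

end Pts

section Push

variable {𝒲 𝒳 𝒴 𝒵 : AlgSt.Cat S} [h𝒳 : FibCat.IsFibGrpd 𝒳.p] [h𝒴 : FibCat.IsFibGrpd 𝒴.p]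
  [h𝒵 : FibCat.IsFibGrpd 𝒵.p] [h𝒲 : FibCat.IsFibGrpd 𝒲.p]

/-- Base change of a fibre product along a morphism commuting up to isomorphism. -/
noncomputable def bcPush {q : 𝒲 ⥤ᵇ 𝒴} {G : 𝒲 ⥤ᵇ 𝒵} {z : 𝒵 ⥤ᵇ 𝒴} (γ : q ≅ BasedFunctor.comp G z) (f : 𝒳 ⥤ᵇ 𝒴) :
    FibCat.fp q f ⥤ᵇ FibCat.fp z f :=
  FibCat.fpLift (BasedFunctor.comp (FibCat.fpFst q f) G) (FibCat.fpSnd q f)
    ((wL (FibCat.fpFst q f) γ).symm.trans (FibCat.fpIso q f))

/-- The iterated fibre product. -/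
noncomputable def bcPair {q : 𝒲 ⥤ᵇ 𝒴} {G : 𝒲 ⥤ᵇ 𝒵} {z : 𝒵 ⥤ᵇ 𝒴} (γ : q ≅ BasedFunctor.comp G z) (f : 𝒳 ⥤ᵇ 𝒴) :
    FibCat.fp q f ⥤ᵇ FibCat.fp G (FibCat.fpFst z f) :=
  FibCat.fpLift (FibCat.fpFst q f) (bcPush γ f) (Iso.refl _)

theorem isEquivOver_bcPair {q : 𝒲 ⥤ᵇ 𝒴} {G : 𝒲 ⥤ᵇ 𝒵} {z : 𝒵 ⥤ᵇ 𝒴} (γ : q ≅ BasedFunctor.comp G z)
    (f : 𝒳 ⥤ᵇ 𝒴) : FibCat.IsEquivOver (bcPair γ f) := by
  haveI : FibCat.IsFibGrpd (FibCat.fp q f).p := isFibGrpd_fp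
  haveI : FibCat.IsFibGrpd (FibCat.fp z f).p := isFibGrpd_fp
  haveI : FibCat.IsFibGrpd (FibCat.fp G (FibCat.fpFst z f)).p := isFibGrpd_fp
  let H : FibCat.fp G (FibCat.fpFst z f) ⥤ᵇ FibCat.fp q f :=
    FibCat.fpLift (FibCat.fpFst G (FibCat.fpFst z f))
      (BasedFunctor.comp (FibCat.fpSnd G (FibCat.fpFst z f)) (FibCat.fpSnd z f))
      ((wL (FibCat.fpFst G (FibCat.fpFst z f)) γ).trans ((wR (FibCat.fpIso G (FibCat.fpFst z f)) z).trans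
        (wL (FibCat.fpSnd G (FibCat.fpFst z f)) (FibCat.fpIso z f))))
  refine ⟨H, ⟨fpIsoMk (Iso.refl _) (Iso.refl _) fun x => ?_⟩,
    ⟨fpIsoMk (Iso.refl _)
      (fpIsoMk (A := BasedFunctor.comp (BasedFunctor.comp H (bcPair γ f)) (FibCat.fpSnd G (FibCat.fpFst z f)))
        (B := BasedFunctor.comp (BasedFunctor.id _) (FibCat.fpSnd G (FibCat.fpFst z f)))
        (FibCat.fpIso G (FibCat.fpFst z f)) (Iso.refl _) fun x => ?_) fun x => ?_⟩⟩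
  · change q.map (𝟙 x.obj.fst) ≫ x.obj.iso.hom =
      (γ.hom.toNatTrans.app x.obj.fst ≫ z.map (𝟙 (G.obj x.obj.fst)) ≫ γ.inv.toNatTrans.app x.obj.fst ≫ x.obj.iso.hom) ≫
        f.map (𝟙 x.obj.snd)
    have h : γ.hom.toNatTrans.app x.obj.fst ≫ γ.inv.toNatTrans.app x.obj.fst = 𝟙 _ := app_eq_of_eq γ.hom_inv_id _
    simp
    exact ((congrArg (γ.hom.toNatTrans.app x.obj.fst ≫ ·) (Category.id_comp _)).trans
      ((Category.assoc _ _ _).symm.trans ((congrArg (· ≫ x.obj.iso.hom) h).trans (Category.id_comp _)))).symm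
  · change z.map x.obj.iso.hom ≫ x.obj.snd.obj.iso.hom =
      (γ.inv.toNatTrans.app x.obj.fst ≫ γ.hom.toNatTrans.app x.obj.fst ≫ z.map x.obj.iso.hom ≫ x.obj.snd.obj.iso.hom) ≫
        f.map (𝟙 x.obj.snd.obj.snd)
    rw [← Category.assoc (γ.inv.toNatTrans.app x.obj.fst),
      show γ.inv.toNatTrans.app x.obj.fst ≫ γ.hom.toNatTrans.app x.obj.fst = 𝟙 _ from app_eq_of_eq γ.inv_hom_id _]
    simp
  · change G.map (𝟙 x.obj.fst) ≫ x.obj.iso.hom = 𝟙 (G.obj x.obj.fst) ≫ x.obj.iso.hom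
    simp

end Push

section Restrict

variable {𝒳 𝒴 : AlgSt.Cat S} [h𝒳 : FibCat.IsFibGrpd 𝒳.p] [h𝒴 : FibCat.IsFibGrpd 𝒴.p]

/-- The trace of an open substack on a space over the source. -/
theorem exists_trace {P : MorphismProperty (Sp S)}
    (hPb : ∀ ⦃X₁ Y₁ X₂ Y₂ : Sp S⦄, IsAlgSpace X₁ → IsAlgSpace Y₁ → IsAlgSpace X₂ →
      IsAlgSpace Y₂ → ∀ (a : X₁ ⟶ Y₁) (b : Y₂ ⟶ Y₁) (a' : X₂ ⟶ Y₂) (b' : X₂ ⟶ X₁),
      IsPullback b' a' a b → P a → P a')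
    (hP : IsLocalOnBase IsFppfCover P) {f : 𝒳 ⥤ᵇ 𝒴} (hf : AlgSt.RepByAlgSp1 f) {Z : AlgSp.Space S}
    {z : AlgSt.ofSp Z.obj ⥤ᵇ 𝒴} {V : AlgSp.Space S} {a : V ⟶ Z} {e : AlgSt.ofSp V.obj ⥤ᵇ FibCat.fp z f}
    (he : FibCat.IsEquivOver e) (α : BasedFunctor.comp e (FibCat.fpFst z f) ≅ AlgSt.ofSpMap a.hom)
    {Q₁ : 𝒳.obj → Prop} [FibCat.IsFibGrpd (AlgSt.fullSub 𝒳 Q₁).p] (hQ₁ : AlgSt.IsOpenImm (AlgSt.subIncl 𝒳 Q₁)) :
    ∃ (W₁ : AlgSp.Space S) (w₁ : W₁ ⟶ V), RepWith @IsOpenImmersion w₁.hom ∧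
      Set.range (AlgSp.Points.map w₁.hom) =
        spMapPts (BasedFunctor.comp e (FibCat.fpSnd z f)) ⁻¹' Set.range (AlgSt.Points.map (AlgSt.subIncl 𝒳 Q₁)) ∧
      (P (w₁ ≫ a).hom ↔ AlgSt.RepByAlgSpWith P (FibCat.fpFst z (BasedFunctor.comp (AlgSt.subIncl 𝒳 Q₁) f))) := by
  set i := AlgSt.subIncl 𝒳 Q₁
  haveI : FibCat.IsFibGrpd (FibCat.fp z f).p := isFibGrpd_fp
  haveI : FibCat.IsFibGrpd (FibCat.fp z (BasedFunctor.comp i f)).p := isFibGrpd_fp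
  haveI : FibCat.IsFibGrpd (FibCat.fp i (FibCat.fpSnd z f)).p := isFibGrpd_fp
  haveI := respectsIso_onSpaces hPb
  obtain ⟨W₁, a₁, e₁, he₁, ⟨α₁⟩⟩ := exists_fpSp (repByAlgSp1_comp (repByAlgSp1_of_with hQ₁) hf) Z z
  obtain ⟨G, hG, ⟨β⟩, ⟨γ⟩⟩ := isEquivOver_symm he
  obtain ⟨w₁, ⟨δ⟩⟩ := exists_ofSpMap_iso (BasedFunctor.comp (BasedFunctor.comp e₁ (pushR z f i)) G)
  have δe : BasedFunctor.comp (AlgSt.ofSpMap w₁) e ≅ BasedFunctor.comp e₁ (pushR z f i) :=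
    (wR δ.symm e : BasedFunctor.comp (AlgSt.ofSpMap w₁) e ≅ BasedFunctor.comp (BasedFunctor.comp (BasedFunctor.comp e₁ (pushR z f i)) G) e).trans
      (wL (BasedFunctor.comp e₁ (pushR z f i)) γ)
  have hrep : RepWith @IsOpenImmersion w₁ := by
    have h1 : AlgSt.RepByAlgSpWith (RepWith @IsOpenImmersion) (pushR z f i) :=
      (basedFunctor_ext rfl : BasedFunctor.comp (pasteF z f i) (FibCat.fpSnd i (FibCat.fpSnd z f)) = pushR z f i) ▸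
        repByAlgSpWith_precomp (isEquivOver_pasteF z f i) (repByAlgSpWith_fpSnd (FibCat.fpSnd z f) hQ₁)
    have h2 := repByAlgSpWith_congr δ (repByAlgSpWith_postcomp G hG (repByAlgSpWith_precomp he₁ h1))
    haveI := faithful_of_faithful_source (AlgSt.ofSpMap w₁)
    have h3 := (repBySpWith_clFun_iff (RepWith @IsOpenImmersion) _).2 h2
    haveI : ∀ F : Sp S, IsIso (ofPshCl (BasedFunctor.id (AlgSt.ofSp F))) := fun F => isIso_ofPshCl isEquivOver_id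
    have e' : w₁.hom ≫ ofPshCl (BasedFunctor.id (AlgSt.ofSp V.obj)) =
        ofPshCl (BasedFunctor.id (AlgSt.ofSp W₁.obj)) ≫ clFun (AlgSt.ofSpMap w₁) := by
      ext T s
      rfl
    refine repWith_of_repBySpWith_openImm w₁ fun U ξ F' fst snd sq => ?_
    exact @h3 U (ξ ≫ ofPshCl (BasedFunctor.id (AlgSt.ofSp V.obj))) F'
      (fst ≫ ofPshCl (BasedFunctor.id (AlgSt.ofSp W₁.obj))) snd
      (sq.paste_horiz (IsPullback.of_horiz_isIso ⟨e'.symm⟩))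
  refine ⟨W₁, ObjectProperty.homMk w₁, hrep, ?_, ?_⟩
  · ext v
    show v ∈ Set.range (AlgSp.Points.map w₁) ↔ spMapPts (BasedFunctor.comp e (FibCat.fpSnd z f)) v ∈ Set.range (AlgSt.Points.map i)
    constructor
    · rintro ⟨u, rfl⟩
      refine ⟨spMapPts (BasedFunctor.comp e₁ (FibCat.fpSnd z (BasedFunctor.comp i f))) u, ?_⟩
      rw [spMapPts_map, spMapPts, map_map, spMapPts]
      exact map_congr (wR δe.symm (FibCat.fpSnd z f) :
        BasedFunctor.comp (BasedFunctor.comp e₁ (pushR z f i)) (FibCat.fpSnd z f) ≅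
          BasedFunctor.comp (BasedFunctor.comp (AlgSt.ofSpMap w₁) e) (FibCat.fpSnd z f)) _
    · rintro ⟨x, hx⟩
      let y := AlgSt.Points.map e ((spPts V.obj).symm v)
      obtain ⟨c, -, hc⟩ := points_surjective_fp i (FibCat.fpSnd z f) x y (by
        rw [hx, spMapPts, ← map_map])
      obtain ⟨c', rfl⟩ := surjective_map_of_isEquivOver (isEquivOver_pasteF z f i) c
      obtain ⟨c'', rfl⟩ := surjective_map_of_isEquivOver he₁ c'
      refine ⟨spPts W₁.obj c'', ?_⟩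
      rw [← spPts_map, ← (spPts V.obj).apply_symm_apply v]
      refine congrArg _ ?_
      have hinj : Function.Injective (AlgSt.Points.map e) := Function.LeftInverse.injective
        (g := AlgSt.Points.map G) fun t => by rw [map_map, map_congr β]; obtain ⟨p, rfl⟩ := AlgSt.Points.mk_surjective t; rfl
      apply hinj
      rw [map_map, map_congr δe]
      simp only [← map_map]
      rw [map_map, map_map] at hc
      rw [map_map]
      exact hc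
  · have hw : w₁ ≫ a.hom = a₁.hom := ofSpMap_injective
      ((eqToIso (ofSpMap_comp w₁ a.hom).symm).trans ((wL (AlgSt.ofSpMap w₁) α.symm).trans
        ((wR δe (FibCat.fpFst z f) : BasedFunctor.comp (BasedFunctor.comp (AlgSt.ofSpMap w₁) e) _ ≅ _).trans
          α₁)))
    show P (w₁ ≫ a.hom) ↔ _
    rw [hw]
    refine ⟨fun h => (exists_fpSp_prop_iff hPb hP _ Z z).1 ⟨W₁, a₁, e₁, he₁, ⟨α₁⟩, h⟩, fun h => ?_⟩
    exact prop_of_repByAlgSpWith_ofSpMap (P := onSpaces P) (isLocalOnBase_onSpaces hP) W₁.property Z.property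
      (repByAlgSpWith_onSpaces_iff.2 (repByAlgSpWith_congr α₁ (repByAlgSpWith_precomp he₁ h))) W₁.property Z.property

end Restrict

section Max

/-- `w` is the largest open subspace of the source on which `f` has `P`. -/
def IsMaxOpen (P : MorphismProperty (Sp S)) {X Y : AlgSp.Space S} (f : X ⟶ Y) {W : AlgSp.Space S} (w : W ⟶ X) :
    Prop :=
  RepWith @IsOpenImmersion w.hom ∧ P (w ≫ f).hom ∧
    ∀ (W₁ : AlgSp.Space S) (w₁ : W₁ ⟶ X), RepWith @IsOpenImmersion w₁.hom → P (w₁ ≫ f).hom →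
      ∃ k : W₁ ⟶ W, k ≫ w = w₁

theorem IsMaxOpen.range_subset {P : MorphismProperty (Sp S)} {X Y W W₁ : AlgSp.Space S} {f : X ⟶ Y} {w : W ⟶ X}
    (h : IsMaxOpen P f w) {w₁ : W₁ ⟶ X} (h₁ : RepWith @IsOpenImmersion w₁.hom) (h₁P : P (w₁ ≫ f).hom) :
    Set.range (AlgSp.Points.map w₁.hom) ⊆ Set.range (AlgSp.Points.map w.hom) := by
  obtain ⟨k, hk⟩ := h.2.2 W₁ w₁ h₁ h₁P
  exact range_subset_of_factor ⟨k.hom, congrArg (fun m => m.hom) hk⟩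

theorem IsMaxOpen.range_eq {P : MorphismProperty (Sp S)} {X Y W W₁ : AlgSp.Space S} {f : X ⟶ Y} {w : W ⟶ X}
    (h : IsMaxOpen P f w) {w₁ : W₁ ⟶ X} (h₁ : IsMaxOpen P f w₁) :
    Set.range (AlgSp.Points.map w₁.hom) = Set.range (AlgSp.Points.map w.hom) :=
  Set.Subset.antisymm (h.range_subset h₁.1 h₁.2.1) (h₁.range_subset h.1 h.2.1)

variable {𝒳 𝒴 : AlgSt.Cat S} [h𝒳 : FibCat.IsFibGrpd 𝒳.p] [h𝒴 : FibCat.IsFibGrpd 𝒴.p] {P : MorphismProperty (Sp S)}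
  (hPb : ∀ ⦃X₁ Y₁ X₂ Y₂ : Sp S⦄, IsAlgSpace X₁ → IsAlgSpace Y₁ → IsAlgSpace X₂ →
      IsAlgSpace Y₂ → ∀ (a : X₁ ⟶ Y₁) (b : Y₂ ⟶ Y₁) (a' : X₂ ⟶ Y₂) (b' : X₂ ⟶ X₁),
      IsPullback b' a' a b → P a → P a')
  (hP : IsLocalOnBase IsFppfCover P) {f : 𝒳 ⥤ᵇ 𝒴} (hf : AlgSt.RepByAlgSp1 f) {Z : AlgSp.Space S}
  {z : AlgSt.ofSp Z.obj ⥤ᵇ 𝒴} {V : AlgSp.Space S} {a : V ⟶ Z} {e : AlgSt.ofSp V.obj ⥤ᵇ FibCat.fp z f}
  (he : FibCat.IsEquivOver e) (α : BasedFunctor.comp e (FibCat.fpFst z f) ≅ AlgSt.ofSpMap a.hom)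
  {W : AlgSp.Space S} {w : W ⟶ V}

include hPb hP hf he α in
theorem preimage_subset_of_max (hw : IsMaxOpen P a w) {Q₁ : 𝒳.obj → Prop} [FibCat.IsFibGrpd (AlgSt.fullSub 𝒳 Q₁).p]
    (hQ₁ : AlgSt.IsOpenImm (AlgSt.subIncl 𝒳 Q₁))
    (h : AlgSt.RepByAlgSpWith P (FibCat.fpFst z (BasedFunctor.comp (AlgSt.subIncl 𝒳 Q₁) f))) :
    spMapPts (BasedFunctor.comp e (FibCat.fpSnd z f)) ⁻¹' Set.range (AlgSt.Points.map (AlgSt.subIncl 𝒳 Q₁)) ⊆
      Set.range (AlgSp.Points.map w.hom) := by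
  obtain ⟨W₁, w₁, h₁, hr, hiff⟩ := exists_trace hPb hP hf he α hQ₁
  rw [← hr]
  exact hw.range_subset h₁ (hiff.2 h)

include hPb hP hf he α in
theorem rep_of_preimage_eq (hw : RepWith @IsOpenImmersion w.hom) (hwP : P (w ≫ a).hom) {Q₁ : 𝒳.obj → Prop}
    [FibCat.IsFibGrpd (AlgSt.fullSub 𝒳 Q₁).p] (hQ₁ : AlgSt.IsOpenImm (AlgSt.subIncl 𝒳 Q₁))
    (h : spMapPts (BasedFunctor.comp e (FibCat.fpSnd z f)) ⁻¹' Set.range (AlgSt.Points.map (AlgSt.subIncl 𝒳 Q₁)) =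
      Set.range (AlgSp.Points.map w.hom)) :
    AlgSt.RepByAlgSpWith P (FibCat.fpFst z (BasedFunctor.comp (AlgSt.subIncl 𝒳 Q₁) f)) := by
  obtain ⟨W₁, w₁, h₁, hr, hiff⟩ := exists_trace hPb hP hf he α hQ₁
  rw [h] at hr
  obtain ⟨k, hk⟩ := exists_factor_openImm hw w₁.hom hr.le
  obtain ⟨l, hl⟩ := exists_factor_openImm h₁ w.hom hr.ge
  haveI : Mono w.hom := mono_of_repWith (P := @IsOpenImmersion)
    (fun g hg => haveI : IsOpenImmersion g := hg; inferInstance) hw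
  haveI : Mono w₁.hom := mono_of_repWith (P := @IsOpenImmersion)
    (fun g hg => haveI : IsOpenImmersion g := hg; inferInstance) h₁
  haveI : IsIso k := ⟨l, (cancel_mono w₁.hom).1 (by rw [Category.assoc, hl, hk, Category.id_comp]),
    (cancel_mono w.hom).1 (by rw [Category.assoc, hk, hl, Category.id_comp])⟩
  haveI := respectsIso_onSpaces hPb
  have hQ : onSpaces P (w ≫ a).hom := fun _ _ => hwP
  have hR : onSpaces P (k ≫ (w ≫ a).hom) := (MorphismProperty.cancel_left_of_respectsIso (onSpaces P) k _).2 hQ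
  refine hiff.1 ?_
  have e1 : (w₁ ≫ a).hom = k ≫ (w ≫ a).hom := by
    show w₁.hom ≫ a.hom = k ≫ w.hom ≫ a.hom
    rw [← hk, Category.assoc]
  rw [e1]
  exact hR W₁.property Z.property

end Max

section Square

variable {𝒳 𝒴 : AlgSt.Cat S} [h𝒳 : FibCat.IsFibGrpd 𝒳.p] [h𝒴 : FibCat.IsFibGrpd 𝒴.p]

theorem clFun_congr' {𝒜 ℬ : AlgSt.Cat S} [FibCat.IsFibGrpd 𝒜.p] [FibCat.IsFibGrpd ℬ.p] {F G : 𝒜 ⥤ᵇ ℬ} (α : F ≅ G) :
    clFun F = clFun G := by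
  ext T c
  exact clF_congr α.hom T.unop c

theorem ofPshCl_ofSpMap {F G : Sp S} (t : F ⟶ G) :
    ofPshCl (BasedFunctor.id (AlgSt.ofSp F)) ≫ clFun (AlgSt.ofSpMap t) =
      t.hom ≫ ofPshCl (BasedFunctor.id (AlgSt.ofSp G)) := by
  ext T s
  rfl

/-- Base change of the presenting spaces along a morphism of spaces is a fibre product. -/
theorem exists_square {f : 𝒳 ⥤ᵇ 𝒴} (hf : AlgSt.RepByAlgSp1 f) {Z Z' : AlgSp.Space S} (g : Z' ⟶ Z)
    {z : AlgSt.ofSp Z.obj ⥤ᵇ 𝒴} {V : AlgSp.Space S} {a : V ⟶ Z} {e : AlgSt.ofSp V.obj ⥤ᵇ FibCat.fp z f}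
    (he : FibCat.IsEquivOver e) (α : BasedFunctor.comp e (FibCat.fpFst z f) ≅ AlgSt.ofSpMap a.hom)
    {q : AlgSt.ofSp Z'.obj ⥤ᵇ 𝒴} (γ : q ≅ BasedFunctor.comp (AlgSt.ofSpMap g.hom) z)
    {V' : AlgSp.Space S} {a' : V' ⟶ Z'} {e' : AlgSt.ofSp V'.obj ⥤ᵇ FibCat.fp q f}
    (he' : FibCat.IsEquivOver e') (α' : BasedFunctor.comp e' (FibCat.fpFst q f) ≅ AlgSt.ofSpMap a'.hom) :
    ∃ g' : V' ⟶ V, IsPullback g'.hom a'.hom a.hom g.hom ∧
      Nonempty (BasedFunctor.comp (AlgSt.ofSpMap g'.hom) e ≅ BasedFunctor.comp e' (bcPush γ f)) := by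
  haveI : FibCat.IsFibGrpd (FibCat.fp z f).p := isFibGrpd_fp
  haveI : FibCat.IsFibGrpd (FibCat.fp q f).p := isFibGrpd_fp
  let G := AlgSt.ofSpMap g.hom
  haveI : FibCat.IsFibGrpd (FibCat.fp G (FibCat.fpFst z f)).p := isFibGrpd_fp
  haveI := faithful_of_repByAlgSp1 hf
  haveI : (FibCat.fp z f).p.Faithful := faithful_fp
  obtain ⟨E, hE, ⟨β⟩, ⟨ε⟩⟩ := isEquivOver_symm he
  obtain ⟨t, ⟨δ⟩⟩ := exists_ofSpMap_iso (BasedFunctor.comp (BasedFunctor.comp e' (bcPush γ f)) E)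
  have δe : BasedFunctor.comp (AlgSt.ofSpMap t) e ≅ BasedFunctor.comp e' (bcPush γ f) :=
    (wR δ.symm e : BasedFunctor.comp (AlgSt.ofSpMap t) e ≅
        BasedFunctor.comp (BasedFunctor.comp (BasedFunctor.comp e' (bcPush γ f)) E) e).trans
      (wL (BasedFunctor.comp e' (bcPush γ f)) ε)
  refine ⟨ObjectProperty.homMk t, ?_, ⟨δe⟩⟩
  let K := BasedFunctor.comp e' (bcPair γ f)
  haveI hK : IsIso (clFun K) := isIso_clFun (isEquivOver_comp he' (isEquivOver_bcPair γ f))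
  haveI : IsIso (clFun e) := isIso_clFun he
  let η := fun F : Sp S => ofPshCl (BasedFunctor.id (AlgSt.ofSp F))
  haveI : ∀ F : Sp S, IsIso (η F) := fun F => isIso_ofPshCl isEquivOver_id
  have sq := isPullback_clFun_fp G (FibCat.fpFst z f)
  have sq' : IsPullback a'.hom.hom t.hom g.hom.hom a.hom.hom := by
    refine IsPullback.of_iso sq (asIso (η V'.obj ≫ clFun K)).symm (asIso (η Z'.obj)).symm
      (asIso (η V.obj ≫ clFun e)).symm (asIso (η Z.obj)).symm ?_ ?_ ?_ ?_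
    · simp only [Iso.symm_hom, asIso_inv]
      rw [IsIso.eq_inv_comp, ← Category.assoc, IsIso.comp_inv_eq, Category.assoc, clFun_comp_app,
        clFun_congr' (F := BasedFunctor.comp K (FibCat.fpFst G (FibCat.fpFst z f))) α', ofPshCl_ofSpMap]
    · simp only [Iso.symm_hom, asIso_inv]
      rw [IsIso.eq_inv_comp, ← Category.assoc, IsIso.comp_inv_eq, Category.assoc, clFun_comp_app,
        clFun_congr' (F := BasedFunctor.comp K (FibCat.fpSnd G (FibCat.fpFst z f))) δe.symm, ← clFun_comp_app,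
        ← Category.assoc, ofPshCl_ofSpMap, Category.assoc]
    · simp only [Iso.symm_hom, asIso_inv]
      rw [IsIso.eq_inv_comp, ← Category.assoc, IsIso.comp_inv_eq, ofPshCl_ofSpMap]
    · simp only [Iso.symm_hom, asIso_inv]
      rw [IsIso.eq_inv_comp, ← Category.assoc, IsIso.comp_inv_eq, Category.assoc, clFun_comp_app,
        clFun_congr' α, ofPshCl_ofSpMap]
  exact IsPullback.of_map (sheafToPresheaf (J S) (Type (u + 1)))
    ((cancel_mono (𝟙 _)).1 (Sheaf.hom_ext (by simpa using sq'.flip.w))) sq'.flip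

end Square


section Largest

variable {𝒳 𝒴 : AlgSt.Cat S} [h𝒳i : FibCat.IsFibGrpd 𝒳.p] [h𝒴i : FibCat.IsFibGrpd 𝒴.p]

/-- The largest open substack on which a representable morphism has a property. -/
theorem exists_largest_open_rep_chart (h𝒳 : AlgSt.IsAlgStack Scheme.fppfPrecoverage 𝒳)
    (h𝒴 : AlgSt.IsAlgStack Scheme.fppfPrecoverage 𝒴) (P Q R : MorphismProperty (Sp S))
    (hPb : ∀ ⦃X₁ Y₁ X₂ Y₂ : Sp S⦄, IsAlgSpace X₁ → IsAlgSpace Y₁ → IsAlgSpace X₂ →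
      IsAlgSpace Y₂ → ∀ (a : X₁ ⟶ Y₁) (b : Y₂ ⟶ Y₁) (a' : X₂ ⟶ Y₂) (b' : X₂ ⟶ X₁),
      IsPullback b' a' a b → P a → P a')
    (hQb : ∀ ⦃X₁ Y₁ X₂ Y₂ : Sp S⦄, IsAlgSpace X₁ → IsAlgSpace Y₁ → IsAlgSpace X₂ →
      IsAlgSpace Y₂ → ∀ (a : X₁ ⟶ Y₁) (b : Y₂ ⟶ Y₁) (a' : X₂ ⟶ Y₂) (b' : X₂ ⟶ X₁),
      IsPullback b' a' a b → Q a → Q a')
    (hP : IsLocalOnBase IsFppfCover P) (hQ : IsLocalOnBase IsFppfCover Q)
    (h₂ : ∀ (X Y : AlgSp.Space S) (g : X ⟶ Y), LocP @Smooth g.hom → R g.hom)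
    (h₃ : ∀ (X Y : AlgSp.Space S) (f : X ⟶ Y), Q f.hom → ∃ (W : AlgSp.Space S) (w : W ⟶ X), IsMaxOpen P f w)
    (h₄ : ∀ (X Y X' Y' : AlgSp.Space S) (f : X ⟶ Y) (g : Y' ⟶ Y) (f' : X' ⟶ Y') (g' : X' ⟶ X),
      IsPullback g'.hom f'.hom f.hom g.hom → Q f.hom → R g.hom →
      ∀ (W : AlgSp.Space S) (w : W ⟶ X), IsMaxOpen P f w →
        ∀ (W' : AlgSp.Space S) (w' : W' ⟶ X') (k : W' ⟶ W), IsPullback k.hom w'.hom w.hom g'.hom →
          IsMaxOpen P f' w')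
    (f : 𝒳 ⥤ᵇ 𝒴) (hf : AlgSt.RepByAlgSpWith Q f) :
    ∃ Q₀ : 𝒳.obj → Prop, AlgSt.IsOpenSubstack 𝒳 Q₀ Scheme.fppfPrecoverage ∧
      AlgSt.RepByAlgSpWith P (BasedFunctor.comp (AlgSt.subIncl 𝒳 Q₀) f) ∧
        (∀ Q₁ : 𝒳.obj → Prop, AlgSt.IsOpenSubstack 𝒳 Q₁ Scheme.fppfPrecoverage →
          AlgSt.RepByAlgSpWith P (BasedFunctor.comp (AlgSt.subIncl 𝒳 Q₁) f) → ∀ y, Q₁ y → Q₀ y) ∧
        ∃ (Zu : AlgSp.Space S) (z₀ : AlgSt.ofSp Zu.obj ⥤ᵇ 𝒴) (V : AlgSp.Space S) (a : V ⟶ Zu)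
          (e : AlgSt.ofSp V.obj ⥤ᵇ FibCat.fp z₀ f) (W : AlgSp.Space S) (w : W ⟶ V),
          AlgSt.RepByAlgSpWith IsSurjectiveMor z₀ ∧ FibCat.IsEquivOver e ∧
            Nonempty (BasedFunctor.comp e (FibCat.fpFst z₀ f) ≅ AlgSt.ofSpMap a.hom) ∧ Q a.hom ∧ IsMaxOpen P a w ∧
              spMapPts (BasedFunctor.comp e (FibCat.fpSnd z₀ f)) ⁻¹' Set.range (AlgSt.Points.map (AlgSt.subIncl 𝒳 Q₀)) =
                Set.range (AlgSp.Points.map w.hom) := by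
  have hf1 : AlgSt.RepByAlgSp1 f := repByAlgSp1_of_with hf
  have hSb : ∀ ⦃X₁ Y₁ X₂ Y₂ : Sp S⦄, IsAlgSpace X₁ → IsAlgSpace Y₁ → IsAlgSpace X₂ →
      IsAlgSpace Y₂ → ∀ (a : X₁ ⟶ Y₁) (b : Y₂ ⟶ Y₁) (a' : X₂ ⟶ Y₂) (b' : X₂ ⟶ X₁),
      IsPullback b' a' a b → LocP @Smooth a → LocP @Smooth a' :=
    fun _ _ _ _ hX₁ hY₁ _ hY₂ _ _ _ _ sq h => locP_of_isPullback sq.flip hX₁ hY₁ hY₂ h
  have hSl : IsLocalOnBase (IsFppfCover (S := S)) (LocP @Smooth) := DecSec.isLocalOnBase_fppf_locP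
  obtain ⟨U, y₀, hy, hys⟩ := h𝒴.atlas
  let Zu : AlgSp.Space S := ⟨(yon S).obj U, IsAlgSpace.yon_obj U⟩
  let z₀ : AlgSt.ofSp Zu.obj ⥤ᵇ 𝒴 := BasedFunctor.comp (AlgSt.toOverCat U) y₀
  have hz₀ : AlgSt.RepByAlgSpWith (LocP @Smooth) z₀ := repByAlgSpWith_precomp (isEquivOver_toOverCat U) hy
  haveI : FibCat.IsFibGrpd (FibCat.fp z₀ f).p := isFibGrpd_fp
  haveI : FibCat.IsFibGrpd (FibCat.fp z₀ z₀).p := isFibGrpd_fp
  obtain ⟨V, a, e, he, ⟨α⟩, haQ⟩ := (exists_fpSp_prop_iff hQb hQ f Zu z₀).2 (repByAlgSpWith_fpFst z₀ hf)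
  obtain ⟨W, w, hw⟩ := h₃ V Zu a haQ
  let ψ := BasedFunctor.comp e (FibCat.fpSnd z₀ f)
  have hwψ : AlgSt.RepByAlgSpWith (LocP @Smooth) (BasedFunctor.comp (AlgSt.ofSpMap w.hom) ψ) :=
    repByAlgSpWith_comp compLocal_smooth
      (repByAlgSpWith_ofSpMap hSb W.property V.property
        (locP_of_repWith (repWith_mono (fun _ _ g (hg : IsOpenImmersion g) => inferInstanceAs (Smooth g)) hw.1)))
      (repByAlgSpWith_precomp he (repByAlgSpWith_fpSnd f hz₀))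
  let O := Set.range (AlgSt.Points.map (BasedFunctor.comp (AlgSt.ofSpMap w.hom) ψ))
  have hO : IsOpen O := by
    rw [show O = AlgSt.Points.map (BasedFunctor.comp (AlgSt.ofSpMap w.hom) ψ) '' Set.univ from Set.image_univ.symm]
    exact Groth.Agent.S12821.result h𝒳 W _
      (repByAlgSpWith_mono (fun _ _ _ _ _ h U V p q k hp hq e => (haveI : Smooth k.left := h p q k hp hq e; inferInstance)) hwψ)
      (repByAlgSpWith_mono (fun _ _ _ _ _ h U V p q k hp hq e => (haveI : Smooth k.left := h p q k hp hq e; inferInstance)) hwψ)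
      _ isOpen_univ
  have hinv : spMapPts ψ ⁻¹' O = Set.range (AlgSp.Points.map w.hom) := by
    refine Set.Subset.antisymm (fun v hv => ?_) ?_
    swap
    · rintro _ ⟨u, rfl⟩
      show spMapPts ψ _ ∈ O
      rw [spMapPts_map]
      exact ⟨_, rfl⟩
    obtain ⟨u, hu⟩ : ∃ u : AlgSp.Points W.obj, spMapPts ψ (AlgSp.Points.map w.hom u) = spMapPts ψ v := by
      obtain ⟨x, hx⟩ := hv
      refine ⟨spPts W.obj x, ?_⟩
      rw [spMapPts_map, spMapPts, Equiv.symm_apply_apply]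
      exact hx
    -- the relation space
    obtain ⟨Z₂, p₁, e₂, he₂, ⟨β₁⟩, hp₁⟩ := (exists_fpSp_prop_iff hSb hSl z₀ Zu z₀).2 (repByAlgSpWith_fpFst z₀ hz₀)
    obtain ⟨p₂, ⟨β₂⟩⟩ := exists_ofSpMap_iso (BasedFunctor.comp e₂ (FibCat.fpSnd z₀ z₀))
    have hp₂ : LocP @Smooth p₂ := prop_of_repByAlgSpWith_ofSpMap hSl Z₂.property Zu.property
      (repByAlgSpWith_congr β₂ (repByAlgSpWith_precomp he₂ (repByAlgSpWith_fpSnd z₀ hz₀)))
    let q₀ := BasedFunctor.comp (FibCat.fpFst z₀ z₀) z₀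
    let q := BasedFunctor.comp e₂ q₀
    haveI : FibCat.IsFibGrpd (FibCat.fp q₀ f).p := isFibGrpd_fp
    haveI : FibCat.IsFibGrpd (FibCat.fp q f).p := isFibGrpd_fp
    let γ₁ : q ≅ BasedFunctor.comp (AlgSt.ofSpMap p₁.hom) z₀ :=
      (wR β₁ z₀ : BasedFunctor.comp (BasedFunctor.comp e₂ (FibCat.fpFst z₀ z₀)) z₀ ≅ _)
    let γ₂ : q ≅ BasedFunctor.comp (AlgSt.ofSpMap p₂) z₀ :=
      (wL e₂ (FibCat.fpIso z₀ z₀)).trans
        (wR β₂ z₀ : BasedFunctor.comp (BasedFunctor.comp e₂ (FibCat.fpSnd z₀ z₀)) z₀ ≅ _)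
    obtain ⟨V₂, a₂, e₃, he₃, ⟨α₂⟩⟩ := exists_fpSp hf1 Z₂ q
    obtain ⟨g₁, sq₁, ⟨δ₁⟩⟩ := exists_square hf1 p₁ he α γ₁ he₃ α₂
    obtain ⟨g₂, sq₂, ⟨δ₂⟩⟩ := exists_square hf1 (ObjectProperty.homMk p₂ : Z₂ ⟶ Zu) he α γ₂ he₃ α₂
    have hmax : ∀ (p : Z₂ ⟶ Zu) (g : V₂ ⟶ V), IsPullback g.hom a₂.hom a.hom p.hom → LocP @Smooth p.hom →
        ∃ (W' : AlgSp.Space S) (w' : W' ⟶ V₂), IsMaxOpen P a₂ w' ∧
          Set.range (AlgSp.Points.map w'.hom) = AlgSp.Points.map g.hom ⁻¹' Set.range (AlgSp.Points.map w.hom) := by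
      intro p g sq hp
      let W' : AlgSp.Space S :=
        ⟨pullback w.hom g.hom, isAlgSpace_pullback V.property.diag W.property V₂.property w.hom g.hom⟩
      exact ⟨W', ObjectProperty.homMk (pullback.snd w.hom g.hom),
        h₄ V Zu V₂ Z₂ a p a₂ g sq haQ (h₂ _ _ p hp) W w hw W' _ (ObjectProperty.homMk (pullback.fst w.hom g.hom))
          (IsPullback.of_hasPullback w.hom g.hom),
        range_map_of_isPullback (IsPullback.of_hasPullback w.hom g.hom)⟩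
    obtain ⟨W₁', w₁', hw₁', hr₁⟩ := hmax p₁ g₁ sq₁ hp₁
    obtain ⟨W₂', w₂', hw₂', hr₂⟩ := hmax _ g₂ sq₂ hp₂
    have hsame := hr₁.symm.trans ((hw₂'.range_eq hw₁').trans hr₂)
    -- a point of the relation space over the two given points
    haveI : FibCat.IsFibGrpd (FibCat.fp (FibCat.fpSnd z₀ f) (FibCat.fpSnd z₀ f)).p := isFibGrpd_fp
    let Pr₁ := FibCat.fpFst (FibCat.fpSnd z₀ f) (FibCat.fpSnd z₀ f)
    let Pr₂ := FibCat.fpSnd (FibCat.fpSnd z₀ f) (FibCat.fpSnd z₀ f)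
    let Dto : FibCat.fp (FibCat.fpSnd z₀ f) (FibCat.fpSnd z₀ f) ⥤ᵇ FibCat.fp z₀ z₀ :=
      FibCat.fpLift (BasedFunctor.comp Pr₁ (FibCat.fpFst z₀ f)) (BasedFunctor.comp Pr₂ (FibCat.fpFst z₀ f))
        ((wL Pr₁ (FibCat.fpIso z₀ f)).trans
          ((wR (FibCat.fpIso (FibCat.fpSnd z₀ f) (FibCat.fpSnd z₀ f)) f).trans (wL Pr₂ (FibCat.fpIso z₀ f)).symm))
    let M : FibCat.fp (FibCat.fpSnd z₀ f) (FibCat.fpSnd z₀ f) ⥤ᵇ FibCat.fp q₀ f :=
      FibCat.fpLift Dto (BasedFunctor.comp Pr₁ (FibCat.fpSnd z₀ f)) (wL Pr₁ (FibCat.fpIso z₀ f))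
    let B₁ := bcPush (q := q₀) (G := FibCat.fpFst z₀ z₀) (Iso.refl q₀) f
    let B₂ := bcPush (q := q₀) (G := FibCat.fpSnd z₀ z₀) (FibCat.fpIso z₀ z₀) f
    let ε₁ : BasedFunctor.comp M B₁ ≅ Pr₁ := fpIsoMk (Iso.refl _) (Iso.refl _) fun x => by
      change z₀.map (𝟙 x.obj.fst.obj.fst) ≫ x.obj.fst.obj.iso.hom =
        (𝟙 (z₀.obj x.obj.fst.obj.fst) ≫ x.obj.fst.obj.iso.hom) ≫ f.map (𝟙 x.obj.fst.obj.snd)
      simp
    let ε₂ : BasedFunctor.comp M B₂ ≅ Pr₂ :=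
      fpIsoMk (Iso.refl _) (FibCat.fpIso (FibCat.fpSnd z₀ f) (FibCat.fpSnd z₀ f)) fun x => by
        change z₀.map (𝟙 x.obj.snd.obj.fst) ≫ x.obj.snd.obj.iso.hom =
          ((((x.obj.snd.obj.iso.hom) ≫ f.map x.obj.iso.inv) ≫ x.obj.fst.obj.iso.inv) ≫ x.obj.fst.obj.iso.hom) ≫
            f.map x.obj.iso.hom
        simp [← Functor.map_comp]
    let κ₁ : BasedFunctor.comp (pushL e₂ q₀ f) B₁ ≅ bcPush γ₁ f :=
      fpIsoMk (wL (FibCat.fpFst q f) β₁) (Iso.refl _) fun x => by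
        change z₀.map (β₁.hom.toNatTrans.app x.obj.fst) ≫ z₀.map (β₁.inv.toNatTrans.app x.obj.fst) ≫ x.obj.iso.hom =
          (𝟙 (z₀.obj (e₂.obj x.obj.fst).obj.fst) ≫ x.obj.iso.hom) ≫ f.map (𝟙 x.obj.snd)
        rw [← Functor.map_comp_assoc,
          show β₁.hom.toNatTrans.app x.obj.fst ≫ β₁.inv.toNatTrans.app x.obj.fst = 𝟙 _ from app_eq_of_eq β₁.hom_inv_id _]
        simp
    let κ₂ : BasedFunctor.comp (pushL e₂ q₀ f) B₂ ≅ bcPush γ₂ f :=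
      fpIsoMk (wL (FibCat.fpFst q f) β₂) (Iso.refl _) fun x => by
        change z₀.map (β₂.hom.toNatTrans.app x.obj.fst) ≫
            (z₀.map (β₂.inv.toNatTrans.app x.obj.fst) ≫ (e₂.obj x.obj.fst).obj.iso.inv) ≫ x.obj.iso.hom =
          ((e₂.obj x.obj.fst).obj.iso.inv ≫ x.obj.iso.hom) ≫ f.map (𝟙 x.obj.snd)
        rw [Category.assoc, ← Functor.map_comp_assoc,
          show β₂.hom.toNatTrans.app x.obj.fst ≫ β₂.inv.toNatTrans.app x.obj.fst = 𝟙 _ from app_eq_of_eq β₂.hom_inv_id _]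
        simp
    obtain ⟨d, hd₁, hd₂⟩ := points_surjective_fp (FibCat.fpSnd z₀ f) (FibCat.fpSnd z₀ f)
      (spMapPts e v) (spMapPts e (AlgSp.Points.map w.hom u)) (by
        rw [spMapPts, spMapPts, map_map, map_map]
        exact hu.symm)
    obtain ⟨c, hc⟩ := surjective_pushL e₂ q₀ f (surjective_map_of_isEquivOver he₂) (AlgSt.Points.map M d)
    obtain ⟨c', rfl⟩ := surjective_map_of_isEquivOver he₃ c
    have hinj : Function.Injective (spMapPts e) := by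
      obtain ⟨G, -, ⟨β⟩, -⟩ := isEquivOver_symm he
      refine Function.Injective.comp ?_ (spPts V.obj).symm.injective
      exact Function.LeftInverse.injective (g := AlgSt.Points.map G) fun t => by
        rw [map_map, map_congr β]; obtain ⟨p, rfl⟩ := AlgSt.Points.mk_surjective t; rfl
    have hg₁ : AlgSp.Points.map g₁.hom (spPts V₂.obj c') = v := by
      apply hinj
      rw [spMapPts_map, spMapPts, Equiv.symm_apply_apply, map_congr δ₁, ← hd₁, ← map_congr ε₁,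
        ← map_map M B₁, ← hc, ← map_map e₃ (bcPush γ₁ f), map_map _ B₁, map_congr κ₁]
    have hg₂ : AlgSp.Points.map g₂.hom (spPts V₂.obj c') = AlgSp.Points.map w.hom u := by
      apply hinj
      rw [spMapPts_map, spMapPts, Equiv.symm_apply_apply, map_congr δ₂, ← hd₂, ← map_congr ε₂,
        ← map_map M B₂, ← hc, ← map_map e₃ (bcPush γ₂ f), map_map _ B₂, map_congr κ₂]
    have : spPts V₂.obj c' ∈ AlgSp.Points.map g₂.hom ⁻¹' Set.range (AlgSp.Points.map w.hom) := ⟨u, hg₂.symm⟩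
    rw [← hsame] at this
    rw [← hg₁]
    exact this
  have hsub := isOpenSubstack_inOpen O h𝒳 hO
  haveI := hsub.2.1.isStack.1
  refine ⟨InOpen O, hsub, ?_, fun Q₁ hQ₁ hP₁ y hy' => ?_, Zu, z₀, V, a, e, W, w,
    repByAlgSpWith_precomp (isEquivOver_toOverCat U) hys, he, ⟨α⟩, haQ, hw, by rw [range_subIncl_inOpen]; exact hinv⟩
  · have h := rep_of_preimage_eq hPb hP hf1 he α hw.1 hw.2.1 hsub.2.2 (by rw [range_subIncl_inOpen]; exact hinv)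
    exact (Groth.Agent.S12844.result hsub.2.1 h𝒴 P hPb hP _
      (repByAlgSp1_comp (repByAlgSp1_of_with hsub.2.2) hf1) Zu z₀
      (repByAlgSpWith_precomp (isEquivOver_toOverCat U) (smooth_to_flat hy))
      (repByAlgSpWith_precomp (isEquivOver_toOverCat U) (smooth_to_lfp hy))
      (repByAlgSpWith_precomp (isEquivOver_toOverCat U) hys)).2
        ((exists_fpSp_prop_iff hPb hP _ Zu z₀).2 h)
  · haveI := hQ₁.2.1.isStack.1
    have h := preimage_subset_of_max hPb hP hf1 he α hw hQ₁.2.2 (repByAlgSpWith_fpFst z₀ hP₁)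
    have hψs : Function.Surjective (spMapPts ψ) := by
      refine Function.Surjective.comp ?_ (spPts V.obj).symm.surjective
      exact isSurjective_of_repByAlgSpWith (repByAlgSpWith_precomp he
        (repByAlgSpWith_fpSnd f (repByAlgSpWith_precomp (isEquivOver_toOverCat U) hys)))
    refine (openSubstack_le_iff hQ₁ hsub).2 ?_ y hy'
    rw [range_subIncl_inOpen]
    intro x hx
    obtain ⟨v, rfl⟩ := hψs x
    have := h hx
    rw [← hinv] at this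
    exact this


/-- The largest open substack on which a representable morphism has a property. -/
theorem exists_largest_open_rep (h𝒳 : AlgSt.IsAlgStack Scheme.fppfPrecoverage 𝒳)
    (h𝒴 : AlgSt.IsAlgStack Scheme.fppfPrecoverage 𝒴) (P Q R : MorphismProperty (Sp S))
    (hPb : ∀ ⦃X₁ Y₁ X₂ Y₂ : Sp S⦄, IsAlgSpace X₁ → IsAlgSpace Y₁ → IsAlgSpace X₂ →
      IsAlgSpace Y₂ → ∀ (a : X₁ ⟶ Y₁) (b : Y₂ ⟶ Y₁) (a' : X₂ ⟶ Y₂) (b' : X₂ ⟶ X₁),
      IsPullback b' a' a b → P a → P a')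
    (hQb : ∀ ⦃X₁ Y₁ X₂ Y₂ : Sp S⦄, IsAlgSpace X₁ → IsAlgSpace Y₁ → IsAlgSpace X₂ →
      IsAlgSpace Y₂ → ∀ (a : X₁ ⟶ Y₁) (b : Y₂ ⟶ Y₁) (a' : X₂ ⟶ Y₂) (b' : X₂ ⟶ X₁),
      IsPullback b' a' a b → Q a → Q a')
    (hP : IsLocalOnBase IsFppfCover P) (hQ : IsLocalOnBase IsFppfCover Q)
    (h₂ : ∀ (X Y : AlgSp.Space S) (g : X ⟶ Y), LocP @Smooth g.hom → R g.hom)
    (h₃ : ∀ (X Y : AlgSp.Space S) (f : X ⟶ Y), Q f.hom → ∃ (W : AlgSp.Space S) (w : W ⟶ X), IsMaxOpen P f w)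
    (h₄ : ∀ (X Y X' Y' : AlgSp.Space S) (f : X ⟶ Y) (g : Y' ⟶ Y) (f' : X' ⟶ Y') (g' : X' ⟶ X),
      IsPullback g'.hom f'.hom f.hom g.hom → Q f.hom → R g.hom →
      ∀ (W : AlgSp.Space S) (w : W ⟶ X), IsMaxOpen P f w →
        ∀ (W' : AlgSp.Space S) (w' : W' ⟶ X') (k : W' ⟶ W), IsPullback k.hom w'.hom w.hom g'.hom →
          IsMaxOpen P f' w')
    (f : 𝒳 ⥤ᵇ 𝒴) (hf : AlgSt.RepByAlgSpWith Q f) :
    ∃ Q₀ : 𝒳.obj → Prop, AlgSt.IsOpenSubstack 𝒳 Q₀ Scheme.fppfPrecoverage ∧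
      AlgSt.RepByAlgSpWith P (BasedFunctor.comp (AlgSt.subIncl 𝒳 Q₀) f) ∧
        ∀ Q₁ : 𝒳.obj → Prop, AlgSt.IsOpenSubstack 𝒳 Q₁ Scheme.fppfPrecoverage →
          AlgSt.RepByAlgSpWith P (BasedFunctor.comp (AlgSt.subIncl 𝒳 Q₁) f) → ∀ y, Q₁ y → Q₀ y := by
  obtain ⟨Q₀, h0, h1, h5, -⟩ := exists_largest_open_rep_chart h𝒳 h𝒴 P Q R hPb hQb hP hQ h₂ h₃ h₄ f hf
  exact ⟨Q₀, h0, h1, h5⟩

end Largest


end Groth.Agent.ASt
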