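import Groth.Agent.ASt.LargestRep
/-!
The largest open substack with a property is stable under base change.
-/

set_option backward.isDefEq.respectTransparency false
set_option backward.isDefEq.respectTransparency.types false
set_option linter.unusedSectionVars false

universe u

open CategoryTheory CategoryTheory.Limits AlgebraicGeometry Opposite

namespace Groth.Agent.ASt

open _root_.AlgSp Groth.Agent.ASp

variable {S : Scheme.{u}} {𝒳 𝒴 𝒵 : AlgSt.Cat S} [h𝒳i : FibCat.IsFibGrpd 𝒳.p] [h𝒴i : FibCat.IsFibGrpd 𝒴.p]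
  [h𝒵i : FibCat.IsFibGrpd 𝒵.p]

theorem inOpen_preimage_map (F : 𝒵 ⥤ᵇ 𝒳) (O : Set (AlgSt.Points 𝒳)) (b : 𝒵.obj) :
    InOpen (AlgSt.Points.map F ⁻¹' O) b ↔ InOpen O (F.obj b) := by
  rw [inOpen_iff O ((F.w_obj b).trans rfl)]
  refine forall_congr' fun t => ?_
  show AlgSt.Points.map F _ ∈ O ↔ _
  rw [← ofChart_comp, ofChart_congr (funIso (y := BasedFunctor.comp (objFun b rfl) F)
    (y' := objFun (F.obj b) ((F.w_obj b).trans rfl))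
    (facMap (pullHom (F.obj b) ((F.w_obj b).trans rfl) (𝟙 _)) (F.map (pullHom b rfl (𝟙 _)))
      (eqToHom (((BasedFunctor.comp (objFun b rfl) F).w_obj _).trans ((objFun (F.obj b) ((F.w_obj b).trans rfl)).w_obj _).symm))
      (by simp [map_pullHom, map_w])) (map_facMap _ _ _ _)) t]

theorem isOpenSubstack_fp_largest (h𝒳 : AlgSt.IsAlgStack Scheme.fppfPrecoverage 𝒳)
    (h𝒴 : AlgSt.IsAlgStack Scheme.fppfPrecoverage 𝒴) (h𝒵 : AlgSt.IsAlgStack Scheme.fppfPrecoverage 𝒵)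
    (P Q R : MorphismProperty (Sp S))
    (hPb : ∀ ⦃X₁ Y₁ X₂ Y₂ : Sp S⦄, IsAlgSpace X₁ → IsAlgSpace Y₁ → IsAlgSpace X₂ →
      IsAlgSpace Y₂ → ∀ (a : X₁ ⟶ Y₁) (b : Y₂ ⟶ Y₁) (a' : X₂ ⟶ Y₂) (b' : X₂ ⟶ X₁),
      IsPullback b' a' a b → P a → P a')
    (hQb : ∀ ⦃X₁ Y₁ X₂ Y₂ : Sp S⦄, IsAlgSpace X₁ → IsAlgSpace Y₁ → IsAlgSpace X₂ →
      IsAlgSpace Y₂ → ∀ (a : X₁ ⟶ Y₁) (b : Y₂ ⟶ Y₁) (a' : X₂ ⟶ Y₂) (b' : X₂ ⟶ X₁),
      IsPullback b' a' a b → Q a → Q a')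
    (hRb : ∀ ⦃X₁ Y₁ X₂ Y₂ : Sp S⦄, IsAlgSpace X₁ → IsAlgSpace Y₁ → IsAlgSpace X₂ →
      IsAlgSpace Y₂ → ∀ (a : X₁ ⟶ Y₁) (b : Y₂ ⟶ Y₁) (a' : X₂ ⟶ Y₂) (b' : X₂ ⟶ X₁),
      IsPullback b' a' a b → R a → R a')
    (hP : IsLocalOnBase IsFppfCover P) (hQ : IsLocalOnBase IsFppfCover Q) (hR : IsLocalOnBase IsFppfCover R)
    (h₂ : ∀ (X Y : AlgSp.Space S) (g : X ⟶ Y), LocP @Smooth g.hom → R g.hom)
    (h₃ : ∀ (X Y : AlgSp.Space S) (f : X ⟶ Y), Q f.hom → ∃ (W : AlgSp.Space S) (w : W ⟶ X), IsMaxOpen P f w)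
    (h₄ : ∀ (X Y X' Y' : AlgSp.Space S) (f : X ⟶ Y) (g : Y' ⟶ Y) (f' : X' ⟶ Y') (g' : X' ⟶ X),
      IsPullback g'.hom f'.hom f.hom g.hom → Q f.hom → R g.hom →
      ∀ (W : AlgSp.Space S) (w : W ⟶ X), IsMaxOpen P f w →
        ∀ (W' : AlgSp.Space S) (w' : W' ⟶ X') (k : W' ⟶ W), IsPullback k.hom w'.hom w.hom g'.hom →
          IsMaxOpen P f' w')
    (f : 𝒳 ⥤ᵇ 𝒴) (hf : AlgSt.RepByAlgSpWith Q f)
    (Q₀ : 𝒳.obj → Prop) (hQ₀ : AlgSt.IsOpenSubstack 𝒳 Q₀ Scheme.fppfPrecoverage)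
    (hQ₀P : AlgSt.RepByAlgSpWith P (BasedFunctor.comp (AlgSt.subIncl 𝒳 Q₀) f))
    (hQ₀max : ∀ Q₁ : 𝒳.obj → Prop, AlgSt.IsOpenSubstack 𝒳 Q₁ Scheme.fppfPrecoverage →
      AlgSt.RepByAlgSpWith P (BasedFunctor.comp (AlgSt.subIncl 𝒳 Q₁) f) → ∀ y, Q₁ y → Q₀ y)
    (z : 𝒵 ⥤ᵇ 𝒴) (hz : AlgSt.RepByAlgSpWith R z) :
    AlgSt.IsOpenSubstack (FibCat.fp z f) (fun b ↦ Q₀ b.obj.snd) Scheme.fppfPrecoverage ∧
      AlgSt.RepByAlgSpWith P
        (BasedFunctor.comp (AlgSt.subIncl (FibCat.fp z f) fun b ↦ Q₀ b.obj.snd) (FibCat.fpFst z f)) ∧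
        ∀ Q₁ : (FibCat.fp z f).obj → Prop, AlgSt.IsOpenSubstack (FibCat.fp z f) Q₁ Scheme.fppfPrecoverage →
          AlgSt.RepByAlgSpWith P (BasedFunctor.comp (AlgSt.subIncl (FibCat.fp z f) Q₁) (FibCat.fpFst z f)) →
            ∀ b, Q₁ b → Q₀ b.obj.snd := by
  have hf1 : AlgSt.RepByAlgSp1 f := repByAlgSp1_of_with hf
  haveI : FibCat.IsFibGrpd (FibCat.fp z f).p := isFibGrpd_fp
  haveI := hQ₀.2.1.isStack.1
  have hA : AlgSt.IsAlgStack Scheme.fppfPrecoverage (FibCat.fp z f) :=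
    isAlgStack_fp (isPrestack_of_isStack h𝒴.isStack) h𝒴.diag h𝒵 h𝒳 z f
  let O := Set.range (AlgSt.Points.map (AlgSt.subIncl 𝒳 Q₀))
  let O' := AlgSt.Points.map (FibCat.fpSnd z f) ⁻¹' O
  have hO' : IsOpen O' := (isOpen_range_subIncl hQ₀).preimage (continuous_map_stack h𝒳 _)
  have hpred : (fun b : (FibCat.fp z f).obj => Q₀ b.obj.snd) = InOpen O' := by
    funext b
    apply propext
    rw [inOpen_preimage_map (FibCat.fpSnd z f) O b]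
    exact Iff.of_eq (congrFun (eq_inOpen_range hQ₀) _)
  have hsub : AlgSt.IsOpenSubstack (FibCat.fp z f) (fun b ↦ Q₀ b.obj.snd) Scheme.fppfPrecoverage := by
    rw [hpred]; exact isOpenSubstack_inOpen O' hA hO'
  refine ⟨hsub, ?_, fun Q₁ hQ₁ hP₁ b hb => ?_⟩
  · haveI := hsub.2.1.isStack.1
    let i := AlgSt.subIncl 𝒳 Q₀
    let i' := AlgSt.subIncl (FibCat.fp z f) fun b ↦ Q₀ b.obj.snd
    haveI : FibCat.IsFibGrpd (FibCat.fp z (BasedFunctor.comp i f)).p := isFibGrpd_fp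
    let E₀ : FibCat.fp z (BasedFunctor.comp i f) ⥤ᵇ FibCat.fp z f := pushR z f i
    let G : AlgSt.fullSub (FibCat.fp z f) (fun b ↦ Q₀ b.obj.snd) ⥤ᵇ FibCat.fp z (BasedFunctor.comp i f) :=
      FibCat.fpLift (BasedFunctor.comp i' (FibCat.fpFst z f))
        (DecSec.liftFullSub Q₀ (BasedFunctor.comp i' (FibCat.fpSnd z f)) fun b => b.property)
        (wL i' (FibCat.fpIso z f))
    let E := DecSec.liftFullSub (fun b : (FibCat.fp z f).obj ↦ Q₀ b.obj.snd) E₀ fun b => b.obj.snd.property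
    have hG : FibCat.IsEquivOver G := ⟨E, ⟨eqToIso (basedFunctor_ext rfl)⟩, ⟨eqToIso (basedFunctor_ext rfl)⟩⟩
    exact (basedFunctor_ext rfl : BasedFunctor.comp G (FibCat.fpFst z (BasedFunctor.comp i f)) =
      BasedFunctor.comp i' (FibCat.fpFst z f)) ▸ repByAlgSpWith_precomp hG (repByAlgSpWith_fpFst z hQ₀P)
  obtain ⟨Qm, hm0, hmP, hmax, Zu, z₀, V, a, e, W, w, hz₀s, he, ⟨α⟩, haQ, hw, hpre⟩ :=
    exists_largest_open_rep_chart h𝒳 h𝒴 P Q R hPb hQb hP hQ h₂ h₃ h₄ f hf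
  have hQm : Qm = Q₀ := funext fun y => propext ⟨hQ₀max Qm hm0 hmP y, hmax Q₀ hQ₀ hQ₀P y⟩
  subst hQm
  haveI : FibCat.IsFibGrpd (FibCat.fp z₀ f).p := isFibGrpd_fp
  haveI : FibCat.IsFibGrpd (FibCat.fp z₀ z).p := isFibGrpd_fp
  obtain ⟨Z₂, p₁, e₂, he₂, ⟨β₁⟩, hp₁⟩ := (exists_fpSp_prop_iff hRb hR z Zu z₀).2 (repByAlgSpWith_fpFst z₀ hz)
  let σ := BasedFunctor.comp e₂ (FibCat.fpSnd z₀ z)
  have hσ : AlgSt.RepByAlgSpWith IsSurjectiveMor σ := repByAlgSpWith_precomp he₂ (repByAlgSpWith_fpSnd z hz₀s)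
  let q := BasedFunctor.comp σ z
  let γ₁ : q ≅ BasedFunctor.comp (AlgSt.ofSpMap p₁.hom) z₀ :=
    (wL e₂ (FibCat.fpIso z₀ z)).symm.trans
      (wR β₁ z₀ : BasedFunctor.comp (BasedFunctor.comp e₂ (FibCat.fpFst z₀ z)) z₀ ≅ _)
  haveI : FibCat.IsFibGrpd (FibCat.fp q f).p := isFibGrpd_fp
  obtain ⟨V₂, a₂, e₃, he₃, ⟨α₂⟩⟩ := exists_fpSp hf1 Z₂ q
  obtain ⟨g, sq, ⟨δ⟩⟩ := exists_square hf1 p₁ he α γ₁ he₃ α₂
  let W' : AlgSp.Space S :=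
    ⟨pullback w.hom g.hom, isAlgSpace_pullback V.property.diag W.property V₂.property w.hom g.hom⟩
  let w' : W' ⟶ V₂ := ObjectProperty.homMk (pullback.snd w.hom g.hom)
  have hw' : IsMaxOpen P a₂ w' := h₄ V Zu V₂ Z₂ a p₁ a₂ g sq haQ hp₁ W w hw W' w'
    (ObjectProperty.homMk (pullback.fst w.hom g.hom)) (IsPullback.of_hasPullback w.hom g.hom)
  have hr : Set.range (AlgSp.Points.map w'.hom) = AlgSp.Points.map g.hom ⁻¹' Set.range (AlgSp.Points.map w.hom) :=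
    range_map_of_isPullback (IsPullback.of_hasPullback w.hom g.hom)
  haveI := hQ₁.2.1.isStack.1
  haveI : FibCat.IsFibGrpd (FibCat.fp σ (FibCat.fpFst z f)).p := isFibGrpd_fp
  let e₄ := BasedFunctor.comp e₃ (bcPair (Iso.refl q) f)
  have he₄ : FibCat.IsEquivOver e₄ := isEquivOver_comp he₃ (isEquivOver_bcPair (Iso.refl q) f)
  have hsubset := preimage_subset_of_max hPb hP (f := FibCat.fpFst z f) (repByAlgSp1_fpFst z hf1) (z := σ) he₄ α₂ hw'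
    hQ₁.2.2 (repByAlgSpWith_fpFst σ hP₁)
  have hs : Function.Surjective (spMapPts (BasedFunctor.comp e₄ (FibCat.fpSnd σ (FibCat.fpFst z f)))) :=
    Function.Surjective.comp
      (isSurjective_of_repByAlgSpWith (repByAlgSpWith_precomp he₄ (repByAlgSpWith_fpSnd (FibCat.fpFst z f) hσ)))
      (spPts V₂.obj).symm.surjective
  refine (openSubstack_le_iff hQ₁ hsub).2 ?_ b hb
  intro x hx
  obtain ⟨v, rfl⟩ := hs x
  have h1 : AlgSp.Points.map g.hom v ∈ Set.range (AlgSp.Points.map w.hom) := hr.le (hsubset hx)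
  rw [← hpre] at h1
  rw [show Set.range (AlgSt.Points.map (AlgSt.subIncl (FibCat.fp z f) fun b ↦ Qm b.obj.snd)) = O' from by
    rw [hpred]; exact range_subIncl_inOpen O']
  show AlgSt.Points.map (FibCat.fpSnd z f) _ ∈ O
  rw [Set.mem_preimage, spMapPts_map, spMapPts] at h1
  rw [spMapPts, map_map]
  have hc := map_congr (wR δ.symm (FibCat.fpSnd z₀ f) :
    BasedFunctor.comp (BasedFunctor.comp e₃ (bcPush γ₁ f)) (FibCat.fpSnd z₀ f) ≅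
      BasedFunctor.comp (BasedFunctor.comp (AlgSt.ofSpMap g.hom) e) (FibCat.fpSnd z₀ f)) ((spPts V₂.obj).symm v)
  exact (congrArg (fun t => t ∈ O) hc).mpr h1

end Groth.Agent.ASt
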