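import Groth.Agent.ASt.LocQOpen
/-!
Properties of morphisms of algebraic stacks read on smooth chart squares: independence of the square.
-/

set_option backward.isDefEq.respectTransparency false
set_option backward.isDefEq.respectTransparency.types false
set_option linter.unusedSectionVars false

universe u

open CategoryTheory CategoryTheory.Limits AlgebraicGeometry Opposite Topology

namespace Groth.Agent.ASt

open _root_.AlgSp Groth.Agent.ASp

variable {S : Scheme.{u}} {𝒳 𝒴 𝒵 𝒲 : AlgSt.Cat S} [h𝒳 : FibCat.IsFibGrpd 𝒳.p] [h𝒴 : FibCat.IsFibGrpd 𝒴.p]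
  [h𝒵 : FibCat.IsFibGrpd 𝒵.p] [h𝒲 : FibCat.IsFibGrpd 𝒲.p]

theorem locP_smooth_id {X : Sp S} (hX : IsAlgSpace X) : LocP @Smooth (𝟙 X) := by
  obtain ⟨U, p, hpe, hps⟩ := hX.atlas
  exact locP_of_chart hpe hps hpe (h := 𝟙 U) (by simp) (inferInstanceAs (Smooth (𝟙 U.left)))

theorem eq_of_overMap_iso {A B : Over S} {a b : A ⟶ B} (α : AlgSt.overMap a ≅ AlgSt.overMap b) : a = b := by
  have h1 : (α.hom.toNatTrans.app (ov (𝟙 A))).left = 𝟙 A := by
    have := map_app _ _ α.hom (ov (𝟙 A))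
    exact this.trans (by simp; rfl)
  have h2 := Over.w (α.hom.toNatTrans.app (ov (𝟙 A)))
  rw [h1] at h2
  simpa [AlgSt.overMap, Category.id_comp] using h2.symm

theorem prop_of_repByAlgSpWith_overMap {M : MorphismProperty Scheme.{u}} [IsEtLocal M] {A B : Over S} {k : A ⟶ B}
    (h : AlgSt.RepByAlgSpWith (LocP M) (AlgSt.overMap k)) : M k.left := by
  obtain ⟨hs, hA, hP⟩ := (repByAlgSpWith_iff.1 h).2 B (AlgSt.overMap (𝟙 B))
  have sq : IsPullback (ObjectProperty.homMk (fibSnd (𝟙 B) k) :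
        (⟨fib (AlgSt.overMap (𝟙 B)) (AlgSt.overMap k), hs⟩ : Sp S) ⟶ (yon S).obj A)
      (ObjectProperty.homMk (fibπ (AlgSt.overMap (𝟙 B)) (AlgSt.overMap k))) ((yon S).map k) ((yon S).map (𝟙 B)) :=
    IsPullback.of_map_of_faithful (sheafToPresheaf (J S) (Type (u + 1))) (isPullback_overMap (𝟙 B) k)
  haveI : IsIso ((yon S).map (𝟙 B)) := inferInstance
  haveI := sq.isIso_fst_of_isIso
  refine hP (inv (ObjectProperty.homMk (fibSnd (𝟙 B) k) :
    (⟨fib (AlgSt.overMap (𝟙 B)) (AlgSt.overMap k), hs⟩ : Sp S) ⟶ (yon S).obj A)) (𝟙 _) k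
    (repWith_of_isIso _) (AlgSp.repWith_id _ B) ?_
  rw [IsIso.inv_comp_eq, Category.comp_id, sq.w, CategoryTheory.Functor.map_id, Category.comp_id]

/-- The second projection of the space presenting a fibre product with a slice. -/
noncomputable def sndπ' {V V' : Over S} (y : FibCat.overCat V ⥤ᵇ 𝒴) (y' : FibCat.overCat V' ⥤ᵇ 𝒴) :
    fib y y' ⟶ (pyon S).obj V' :=
  clFun (FibCat.fpSnd y y') ≫ overClHom V'

theorem sndπ'_restrF {U V V' : Over S} (h : U ⟶ V) (y : FibCat.overCat V ⥤ᵇ 𝒴)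
    (y' : FibCat.overCat V' ⥤ᵇ 𝒴) :
    clFun (restrF h y y') ≫ sndπ' y y' = sndπ' (BasedFunctor.comp (AlgSt.overMap h) y) y' := by
  unfold sndπ'
  rw [← Category.assoc, clFun_comp_app]
  rfl

theorem yon_snd_of_chart {V V' T : Over S} {y : FibCat.overCat V ⥤ᵇ 𝒴} {y' : FibCat.overCat V' ⥤ᵇ 𝒴}
    {hs : Presheaf.IsSheaf (J S) (fib y y')} (p : (yon S).obj T ⟶ (⟨fib y y', hs⟩ : Sp S))
    {E : FibCat.overCat T ⥤ᵇ FibCat.fp y y'}
    (hsec : ∀ {W : Over S} (j : W ⟶ T),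
      p.hom.app (op W) ⟨j⟩ = cl (E.obj (ov j)) ((E.w_obj (ov j)).trans (ov_base j)))
    {k : T ⟶ V'} (α : BasedFunctor.comp E (FibCat.fpSnd y y') ≅ AlgSt.overMap k) :
    p ≫ (ObjectProperty.homMk (sndπ' y y') : (⟨fib y y', hs⟩ : Sp S) ⟶ (yon S).obj V') = (yon S).map k := by
  apply ObjectProperty.hom_ext
  ext W j
  obtain ⟨j⟩ := j
  refine congrArg ULift.up ?_
  change overHom (clF (FibCat.fpSnd y y') W.unop (p.hom.app (op W.unop) ⟨j⟩)) = j ≫ k
  rw [hsec, clF_cl]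
  refine Eq.trans (congrArg overHom (cl_eq_iff.2 ⟨α.hom.toNatTrans.app (ov j), ?_⟩)) (overHom_mk (j ≫ k))
  simpa using map_app _ _ α.hom (ov j)

theorem isEquivOver_changeR {f f' : 𝒳 ⥤ᵇ 𝒴} (α : f ≅ f') (h : 𝒵 ⥤ᵇ 𝒴) :
    FibCat.IsEquivOver (FibCat.fpLift (FibCat.fpFst h f) (FibCat.fpSnd h f)
      ((FibCat.fpIso h f).trans (wL (FibCat.fpSnd h f) α)) : FibCat.fp h f ⥤ᵇ FibCat.fp h f') := by
  haveI : FibCat.IsFibGrpd (FibCat.fp h f).p := isFibGrpd_fp
  haveI : FibCat.IsFibGrpd (FibCat.fp h f').p := isFibGrpd_fp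
  refine ⟨FibCat.fpLift (FibCat.fpFst h f') (FibCat.fpSnd h f')
      ((FibCat.fpIso h f').trans (wL (FibCat.fpSnd h f') α.symm)),
    ⟨fpIsoMk (Iso.refl _) (Iso.refl _) fun x => ?_⟩, ⟨fpIsoMk (Iso.refl _) (Iso.refl _) fun x => ?_⟩⟩
  · change h.map (𝟙 x.obj.fst) ≫ x.obj.iso.hom =
      ((x.obj.iso.hom ≫ α.hom.toNatTrans.app x.obj.snd) ≫ α.inv.toNatTrans.app x.obj.snd) ≫ f.map (𝟙 x.obj.snd)
    rw [Category.assoc x.obj.iso.hom,
      show α.hom.toNatTrans.app x.obj.snd ≫ α.inv.toNatTrans.app x.obj.snd = 𝟙 _ from app_eq_of_eq α.hom_inv_id _]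
    simp
  · change h.map (𝟙 x.obj.fst) ≫ x.obj.iso.hom =
      ((x.obj.iso.hom ≫ α.inv.toNatTrans.app x.obj.snd) ≫ α.hom.toNatTrans.app x.obj.snd) ≫ f'.map (𝟙 x.obj.snd)
    rw [Category.assoc x.obj.iso.hom,
      show α.inv.toNatTrans.app x.obj.snd ≫ α.hom.toNatTrans.app x.obj.snd = 𝟙 _ from app_eq_of_eq α.inv_hom_id _]
    simp

theorem repByAlgSpWith_pushR {Q : MorphismProperty (Sp S)} [Q.RespectsIso] (h : 𝒵 ⥤ᵇ 𝒴) (f : 𝒳 ⥤ᵇ 𝒴)
    (b : 𝒲 ⥤ᵇ 𝒳) (hb : AlgSt.RepByAlgSpWith Q b) : AlgSt.RepByAlgSpWith Q (pushR h f b) := by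
  haveI : FibCat.IsFibGrpd (FibCat.fp h (BasedFunctor.comp b f)).p := isFibGrpd_fp
  haveI : FibCat.IsFibGrpd (FibCat.fp h f).p := isFibGrpd_fp
  haveI : FibCat.IsFibGrpd (FibCat.fp b (FibCat.fpSnd h f)).p := isFibGrpd_fp
  exact (repByAlgSpWith_precomp (isEquivOver_pasteF h f b) (repByAlgSpWith_fpSnd _ hb) :
    AlgSt.RepByAlgSpWith Q (BasedFunctor.comp (pasteF h f b) (FibCat.fpSnd b (FibCat.fpSnd h f))))

section SmLoc

variable {P : MorphismProperty (Sp S)} (hP : AlgSp.IsSmoothLocalST P)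

include hP

theorem smLoc_postcomp {X V Y : Sp S} (hX : IsAlgSpace X) (hV : IsAlgSpace V) (hY : IsAlgSpace Y) {h : X ⟶ V}
    {b : V ⟶ Y} (hb : LocP @Smooth b) (hh : P h) : P (h ≫ b) :=
  (hP.locality hX hY _).2 fun z => ⟨X, V, 𝟙 X, b, h, z, hX, hV,
    locP_smooth_id hX, hb, Category.id_comp _, Points.map_id z, hh⟩

theorem smLoc_descend {X U Y : Sp S} (hX : IsAlgSpace X) (hU : IsAlgSpace U) (hY : IsAlgSpace Y) {f : X ⟶ Y}
    {a : U ⟶ X} (ha : LocP @Smooth a) (has : Function.Surjective (Points.map a)) (h : P (a ≫ f)) : P f :=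
  (hP.locality hX hY f).2 fun z => by
    obtain ⟨v, hv⟩ := has z
    exact ⟨U, Y, a, 𝟙 Y, a ≫ f, v, hU, hY, ha, locP_smooth_id hY, (Category.comp_id _).symm, hv, h⟩

/-- Any smooth chart of a base change inherits the property from a smooth surjective one. -/
theorem smLoc_chart {f : 𝒳 ⥤ᵇ 𝒴} {V : Over S} {y : FibCat.overCat V ⥤ᵇ 𝒴} {C₀ C : Over S}
    {c₀ : FibCat.overCat C₀ ⥤ᵇ FibCat.fp y f} (h₀ : AlgSt.RepByAlgSpWith (LocP @Smooth) c₀)
    (h₀s : AlgSt.RepByAlgSpWith IsSurjectiveMor c₀) {k₀ : C₀ ⟶ V}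
    (α₀ : BasedFunctor.comp c₀ (FibCat.fpFst y f) ≅ AlgSt.overMap k₀) (hk : P ((yon S).map k₀))
    {c : FibCat.overCat C ⥤ᵇ FibCat.fp y f} (h : AlgSt.RepByAlgSpWith (LocP @Smooth) c) {k : C ⟶ V}
    (α : BasedFunctor.comp c (FibCat.fpFst y f) ≅ AlgSt.overMap k) : P ((yon S).map k) := by
  haveI : FibCat.IsFibGrpd (FibCat.fp y f).p := isFibGrpd_fp
  obtain ⟨hs, hA, W, p, E, g, hpe, hps, hcomp, -, -, hE⟩ := exists_chart_of_fib (repByAlgSp1_of_with h₀) c
  haveI : FibCat.IsFibGrpd (FibCat.fp c c₀).p := isFibGrpd_fp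
  have hEsm := hE (P := LocP @Smooth) hpe fun v hv => locP_of_repWith (repWith_yon_map
    (haveI : Etale v.left := hv; inferInstance))
  have hEsu := hE (P := IsSurjectiveMor) hps fun v hv => surjective_map_of_repWith (repWith_yon_map hv)
  obtain ⟨w, ⟨β⟩⟩ := exists_overMap (BasedFunctor.comp E (FibCat.fpFst c c₀))
  obtain ⟨w₀, ⟨β₀⟩⟩ := exists_overMap (BasedFunctor.comp E (FibCat.fpSnd c c₀))
  have hw : Smooth w.left := prop_of_repByAlgSpWith_overMap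
    (repByAlgSpWith_congr β (repByAlgSpWith_comp compLocal_smooth hEsm (repByAlgSpWith_fpFst c h₀)))
  have hw₀ : Smooth w₀.left := prop_of_repByAlgSpWith_overMap
    (repByAlgSpWith_congr β₀ (repByAlgSpWith_comp compLocal_smooth hEsm (repByAlgSpWith_fpSnd c₀ h)))
  have hws : Surjective w.left := ⟨fun t => by
    obtain ⟨v, hv⟩ := isSurjective_of_repByAlgSpWith
      (repByAlgSpWith_congr β (repByAlgSpWith_comp compLocal_surjective hEsu (repByAlgSpWith_fpFst c h₀s)))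
      (schemePts C t)
    obtain ⟨s, rfl⟩ := (schemePts W).surjective v
    rw [map_schemePts, ← show AlgSt.Points.ofChart (BasedFunctor.id (FibCat.overCat C)) (w.left s) =
      AlgSt.Points.ofChart (AlgSt.overMap w) s from (ofChart_overMap w _ s).symm, schemePts_apply] at hv
    exact ⟨s, injective_ofChart_id C hv⟩⟩
  have e : w ≫ k = w₀ ≫ k₀ := eq_of_overMap_iso ((overMapComp w k).symm.trans ((wR β.symm (AlgSt.overMap k)).trans
    ((wL (BasedFunctor.comp E (FibCat.fpFst c c₀)) α.symm).trans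
      ((wR (wL E (FibCat.fpIso c c₀)) (FibCat.fpFst y f)).trans
        ((wL (BasedFunctor.comp E (FibCat.fpSnd c c₀)) α₀).trans ((wR β₀ (AlgSt.overMap k₀)).trans (overMapComp w₀ k₀)))))))
  refine smLoc_descend hP (IsAlgSpace.yon_obj C) (IsAlgSpace.yon_obj W) (IsAlgSpace.yon_obj V)
    (locP_of_repWith (repWith_yon_map hw)) (surjective_map_of_repWith (repWith_yon_map (P := @Surjective) hws)) ?_
  rw [← Functor.map_comp, e, Functor.map_comp]
  exact hP.precomp (IsAlgSpace.yon_obj W) (IsAlgSpace.yon_obj C₀) (IsAlgSpace.yon_obj V) _ _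
    (locP_of_repWith (repWith_yon_map hw₀)) hk

/-- From one square, a smooth surjective chart with the property over every smooth chart of the target. -/
theorem exists_smLoc_chart (hY : AlgSt.RepByAlgSp1 (FibCat.diag (FibCat.toSelf 𝒴))) {f : 𝒳 ⥤ᵇ 𝒴}
    (hf : AlgSt.LocQ P f) {V' : Over S} {y' : FibCat.overCat V' ⥤ᵇ 𝒴}
    (hy' : AlgSt.RepByAlgSpWith (LocP @Smooth) y') :
    ∃ (C : Over S) (c : FibCat.overCat C ⥤ᵇ FibCat.fp y' f) (k : C ⟶ V')
      (_ : BasedFunctor.comp c (FibCat.fpFst y' f) ≅ AlgSt.overMap k),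
      AlgSt.RepByAlgSpWith (LocP @Smooth) c ∧ AlgSt.RepByAlgSpWith IsSurjectiveMor c ∧ P ((yon S).map k) := by
  obtain ⟨U, V, x, y, h, α, hx, hxs, hy, hh⟩ := hf
  obtain ⟨hs, hF, T, pT, ET, gT, hTe, hTs, -, -, hsecT, hET⟩ := exists_chart_of_fib (repByAlgSp1_of_with hy') y
  obtain ⟨vT, ⟨γT⟩⟩ := exists_overMap (BasedFunctor.comp ET (FibCat.fpSnd y y'))
  haveI : FibCat.IsFibGrpd (FibCat.fp y y').p := isFibGrpd_fp
  have hvT : Smooth vT.left := prop_of_repByAlgSpWith_overMap (repByAlgSpWith_congr γT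
    (repByAlgSpWith_comp compLocal_smooth (hET (P := LocP @Smooth) hTe fun v hv => locP_of_repWith (repWith_yon_map
      (haveI : Etale v.left := hv; inferInstance))) (repByAlgSpWith_fpSnd y' hy)))
  let hy1 := repByAlgSp1_of_diag hY (BasedFunctor.comp (AlgSt.overMap h) y)
  obtain ⟨hs', hF', C, p, E, g, hpe, hps, -, -, hsec, hE⟩ :=
    exists_chart_of_fib (repByAlgSp1_of_with hy') (BasedFunctor.comp (AlgSt.overMap h) y)
  haveI : FibCat.IsFibGrpd (FibCat.fp (BasedFunctor.comp (AlgSt.overMap h) y) y').p := isFibGrpd_fp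
  haveI : FibCat.IsFibGrpd (FibCat.fp y' (BasedFunctor.comp (AlgSt.overMap h) y)).p := isFibGrpd_fp
  haveI : FibCat.IsFibGrpd (FibCat.fp y' (BasedFunctor.comp x f)).p := isFibGrpd_fp
  haveI : FibCat.IsFibGrpd (FibCat.fp y' f).p := isFibGrpd_fp
  obtain ⟨k, ⟨γ⟩⟩ := exists_overMap (BasedFunctor.comp E (FibCat.fpSnd (BasedFunctor.comp (AlgSt.overMap h) y) y'))
  let c := BasedFunctor.comp (BasedFunctor.comp (BasedFunctor.comp E
      (swapF (BasedFunctor.comp (AlgSt.overMap h) y) y'))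
      (FibCat.fpLift (FibCat.fpFst y' (BasedFunctor.comp (AlgSt.overMap h) y))
        (FibCat.fpSnd y' (BasedFunctor.comp (AlgSt.overMap h) y))
        ((FibCat.fpIso y' (BasedFunctor.comp (AlgSt.overMap h) y)).trans (wL _ α.symm)) :
        FibCat.fp y' (BasedFunctor.comp (AlgSt.overMap h) y) ⥤ᵇ FibCat.fp y' (BasedFunctor.comp x f)))
      (pushR y' f x)
  have hc : ∀ {Q : MorphismProperty (Sp S)} [Q.RespectsIso], CompLocal Q → AlgSt.RepByAlgSpWith Q E →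
      AlgSt.RepByAlgSpWith Q x → AlgSt.RepByAlgSpWith Q c := fun hQ h1 h2 =>
    repByAlgSpWith_comp hQ (repByAlgSpWith_postcomp _ (isEquivOver_changeR α.symm y')
      (repByAlgSpWith_postcomp _ (isEquivOver_swapF _ _) h1)) (repByAlgSpWith_pushR y' f x h2)
  refine ⟨C, c, k, γ, hc compLocal_smooth (hE (P := LocP @Smooth) hpe fun v hv => locP_of_repWith (repWith_yon_map
      (haveI : Etale v.left := hv; inferInstance))) hx,
    hc compLocal_surjective (hE (P := IsSurjectiveMor) hps fun v hv => surjective_map_of_repWith (repWith_yon_map hv)) hxs, ?_⟩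
  have sqF : IsPullback
      (ObjectProperty.homMk (clFun (restrF h y y')) :
        (⟨fib (BasedFunctor.comp (AlgSt.overMap h) y) y', hs'⟩ : Sp S) ⟶ (⟨fib y y', hs⟩ : Sp S))
      (ObjectProperty.homMk (fibπ (BasedFunctor.comp (AlgSt.overMap h) y) y'))
      (ObjectProperty.homMk (fibπ y y')) ((yon S).map h) :=
    IsPullback.of_map_of_faithful (sheafToPresheaf (J S) (Type (u + 1))) (isPullback_restrF h y)
  obtain ⟨_, _, hπ⟩ := (repByAlgSpWith_iff.1 hy').2 V y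
  have hr := hP.baseChange (IsAlgSpace.yon_obj U) (IsAlgSpace.yon_obj V) hF' hF _ _ _ _ sqF.flip hπ hh
  have hsnd : LocP @Smooth (ObjectProperty.homMk (sndπ' y y') : (⟨fib y y', hs⟩ : Sp S) ⟶ (yon S).obj V') :=
    locP_of_comp_chart (IsAlgSpace.yon_obj V') hTe hTs (by
      rw [yon_snd_of_chart pT hsecT γT]; exact locP_of_repWith (repWith_yon_map hvT))
  have e := yon_snd_of_chart p hsec γ
  rw [show (ObjectProperty.homMk (sndπ' (BasedFunctor.comp (AlgSt.overMap h) y) y') :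
      (⟨fib (BasedFunctor.comp (AlgSt.overMap h) y) y', hs'⟩ : Sp S) ⟶ (yon S).obj V') =
      ObjectProperty.homMk (clFun (restrF h y y')) ≫
        (ObjectProperty.homMk (sndπ' y y') : (⟨fib y y', hs⟩ : Sp S) ⟶ (yon S).obj V') from
    ObjectProperty.hom_ext _ (sndπ'_restrF h y y').symm] at e
  rw [← e]
  exact hP.precomp (IsAlgSpace.yon_obj C) hF' (IsAlgSpace.yon_obj V') _ _
    (locP_of_repWith (repWith_mono (fun _ _ g (hg : Etale g) => (haveI := hg; inferInstance : Smooth g)) hpe))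
    (smLoc_postcomp hP hF' hF (IsAlgSpace.yon_obj V') hsnd hr)

/-- The property holds on every chart over every smooth chart of the target. -/
theorem smLoc_of_locQ (hY : AlgSt.RepByAlgSp1 (FibCat.diag (FibCat.toSelf 𝒴))) {f : 𝒳 ⥤ᵇ 𝒴}
    (hf : AlgSt.LocQ P f) {V : Over S} {y : FibCat.overCat V ⥤ᵇ 𝒴}
    (hy : AlgSt.RepByAlgSpWith (LocP @Smooth) y) {C : Over S} {c : FibCat.overCat C ⥤ᵇ FibCat.fp y f}
    (hc : AlgSt.RepByAlgSpWith (LocP @Smooth) c) {k : C ⟶ V}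
    (α : BasedFunctor.comp c (FibCat.fpFst y f) ≅ AlgSt.overMap k) : P ((yon S).map k) := by
  obtain ⟨C₀, c₀, k₀, α₀, h₀, h₀s, hk⟩ := exists_smLoc_chart hP hY hf hy
  exact smLoc_chart hP h₀ h₀s α₀ hk hc α

end SmLoc

/-- A chart square from a smooth surjective chart of a base change to an atlas. -/
theorem locQ_of_chart {P : MorphismProperty (Sp S)} {f : 𝒳 ⥤ᵇ 𝒴} {V : Over S} {y : FibCat.overCat V ⥤ᵇ 𝒴}
    (hy : AlgSt.RepByAlgSpWith (LocP @Smooth) y) (hys : AlgSt.RepByAlgSpWith IsSurjectiveMor y)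
    {C : Over S} {c : FibCat.overCat C ⥤ᵇ FibCat.fp y f} (hc : AlgSt.RepByAlgSpWith (LocP @Smooth) c)
    (hcs : AlgSt.RepByAlgSpWith IsSurjectiveMor c) {k : C ⟶ V}
    (α : BasedFunctor.comp c (FibCat.fpFst y f) ≅ AlgSt.overMap k) (hk : P ((yon S).map k)) : AlgSt.LocQ P f := by
  haveI : FibCat.IsFibGrpd (FibCat.fp y f).p := isFibGrpd_fp
  exact ⟨C, V, BasedFunctor.comp c (FibCat.fpSnd y f), y, k, (wL c (FibCat.fpIso y f)).symm.trans (wR α y),
    repByAlgSpWith_comp compLocal_smooth hc (repByAlgSpWith_fpSnd f hy),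
    repByAlgSpWith_comp compLocal_surjective hcs (repByAlgSpWith_fpSnd f hys), hy, hk⟩

end Groth.Agent.ASt
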