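import Groth.Agent.ASt.LocQCalc
/-!
Base change of properties read on chart squares.
-/

set_option backward.isDefEq.respectTransparency false
set_option backward.isDefEq.respectTransparency.types false
set_option linter.unusedSectionVars false

universe u

open CategoryTheory CategoryTheory.Limits AlgebraicGeometry Opposite Topology

namespace Groth.Agent.ASt

open _root_.AlgSp Groth.Agent.ASp

variable {S : Scheme.{u}} {𝒳 𝒴 𝒵 𝒲 : AlgSt.Cat S} [h𝒳 : FibCat.IsFibGrpd 𝒳.p] [h𝒴 : FibCat.IsFibGrpd 𝒴.p]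
  [h𝒵 : FibCat.IsFibGrpd 𝒵.p] [h𝒲 : FibCat.IsFibGrpd 𝒲.p]

section Paste

variable (f : 𝒳 ⥤ᵇ 𝒴) (g : 𝒵 ⥤ᵇ 𝒴) (b : 𝒲 ⥤ᵇ 𝒵)

/-- Comparison of a base change of a projection with a base change. -/
noncomputable def bcJ : FibCat.fp f (BasedFunctor.comp b g) ⥤ᵇ FibCat.fp b (FibCat.fpFst g f) :=
  FibCat.fpLift (FibCat.fpSnd f (BasedFunctor.comp b g))
    (FibCat.fpLift (BasedFunctor.comp (FibCat.fpSnd f (BasedFunctor.comp b g)) b)
      (FibCat.fpFst f (BasedFunctor.comp b g)) (FibCat.fpIso f (BasedFunctor.comp b g)).symm)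
    (Iso.refl _)

/-- Its inverse. -/
noncomputable def bcG : FibCat.fp b (FibCat.fpFst g f) ⥤ᵇ FibCat.fp f (BasedFunctor.comp b g) :=
  FibCat.fpLift (BasedFunctor.comp (FibCat.fpSnd b (FibCat.fpFst g f)) (FibCat.fpSnd g f))
    (FibCat.fpFst b (FibCat.fpFst g f))
    ((wL (FibCat.fpSnd b (FibCat.fpFst g f)) (FibCat.fpIso g f)).symm.trans
      (wR (FibCat.fpIso b (FibCat.fpFst g f)).symm g))

theorem isEquivOver_bcJ : FibCat.IsEquivOver (bcJ f g b) := by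
  haveI : FibCat.IsFibGrpd (FibCat.fp f (BasedFunctor.comp b g)).p := isFibGrpd_fp
  haveI : FibCat.IsFibGrpd (FibCat.fp g f).p := isFibGrpd_fp
  haveI : FibCat.IsFibGrpd (FibCat.fp b (FibCat.fpFst g f)).p := isFibGrpd_fp
  refine ⟨bcG f g b, ⟨fpIsoMk (Iso.refl _) (Iso.refl _) fun x => ?_⟩,
    ⟨fpIsoMk (Iso.refl _)
      (fpIsoMk (A := BasedFunctor.comp (BasedFunctor.comp (bcG f g b) (bcJ f g b)) (FibCat.fpSnd b (FibCat.fpFst g f)))
        (B := BasedFunctor.comp (BasedFunctor.id _) (FibCat.fpSnd b (FibCat.fpFst g f)))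
        (FibCat.fpIso b (FibCat.fpFst g f)) (Iso.refl _) fun x => ?_) fun x => ?_⟩⟩
  · change f.map (𝟙 x.obj.fst) ≫ x.obj.iso.hom =
      (x.obj.iso.hom ≫ g.map (𝟙 (b.obj x.obj.snd))) ≫ g.map (b.map (𝟙 x.obj.snd))
    simp
    exact (Category.comp_id _).symm
  · change g.map x.obj.iso.hom ≫ x.obj.snd.obj.iso.hom =
      (g.map x.obj.iso.hom ≫ x.obj.snd.obj.iso.hom) ≫ f.map (𝟙 x.obj.snd.obj.snd)
    simp
  · change b.map (𝟙 x.obj.fst) ≫ x.obj.iso.hom = 𝟙 (b.obj x.obj.fst) ≫ x.obj.iso.hom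
    simp

end Paste

/-- An equivalence is representable with any property containing isomorphisms and preserved by
composition on the base change. -/
theorem repByAlgSpWith_comp_equiv {Q : MorphismProperty (Sp S)} [Q.RespectsIso] {E : 𝒵 ⥤ᵇ 𝒲}
    (hE : FibCat.IsEquivOver E) {f : 𝒳 ⥤ᵇ 𝒵} (hf : AlgSt.RepByAlgSpWith Q f) :
    AlgSt.RepByAlgSpWith Q (BasedFunctor.comp f E) :=
  repByAlgSpWith_postcomp E hE hf

/-- Base change of a property read on chart squares. -/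
theorem locQ_fpFst {P : MorphismProperty (Sp S)} (hP : IsSmoothLocalST P)
    (hPb : ∀ ⦃X₁ Y₁ X₂ Y₂ : Sp S⦄, IsAlgSpace X₁ → IsAlgSpace Y₁ → IsAlgSpace X₂ →
      IsAlgSpace Y₂ → ∀ (a : X₁ ⟶ Y₁) (b : Y₂ ⟶ Y₁) (a' : X₂ ⟶ Y₂) (b' : X₂ ⟶ X₁),
      IsPullback b' a' a b → P a → P a')
    (hX : AlgSt.IsAlgStack Scheme.fppfPrecoverage 𝒳) (hY : AlgSt.IsAlgStack Scheme.fppfPrecoverage 𝒴)
    (hZ : AlgSt.IsAlgStack Scheme.fppfPrecoverage 𝒵) {f : 𝒳 ⥤ᵇ 𝒴} (g : 𝒵 ⥤ᵇ 𝒴)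
    (hf : AlgSt.LocQ P f) : AlgSt.LocQ P (FibCat.fpFst g f) := by
  haveI : FibCat.IsFibGrpd (FibCat.fp g f).p := isFibGrpd_fp
  obtain ⟨V, y, hy, hys⟩ := hY.atlas
  obtain ⟨E⟩ := nonempty_chartOf hY.diag hZ.atlas g y
  obtain ⟨D⟩ := nonempty_chartOf hY.diag hX.atlas f y
  have hk : P ((yon S).map D.k) := D.prop hP hY.diag hy hf
  have hr : AlgSt.RepByAlgSp1 (AlgSt.overMap D.k) :=
    repByAlgSp1_of_with (repByAlgSpWith_overMap (P := ⊤) (σ := D.k) fun _ _ _ _ => trivial)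
  obtain ⟨hs, hA, C, p, G, h, hpe, hps, hcomp, ⟨γ⟩, -, hG⟩ := exists_chart_of_fib hr (AlgSt.overMap E.k)
  haveI : FibCat.IsFibGrpd (FibCat.fp (AlgSt.overMap E.k) (AlgSt.overMap D.k)).p := isFibGrpd_fp
  haveI : FibCat.IsFibGrpd (FibCat.fp f y).p := isFibGrpd_fp
  haveI : FibCat.IsFibGrpd (FibCat.fp y f).p := isFibGrpd_fp
  let d : FibCat.overCat D.C ⥤ᵇ FibCat.fp f y := BasedFunctor.comp D.c (swapF y f)
  haveI : FibCat.IsFibGrpd (FibCat.fp (AlgSt.overMap E.k) (BasedFunctor.comp d (FibCat.fpSnd f y))).p := isFibGrpd_fp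
  haveI : FibCat.IsFibGrpd (FibCat.fp (AlgSt.overMap E.k) (FibCat.fpSnd f y)).p := isFibGrpd_fp
  haveI : FibCat.IsFibGrpd (FibCat.fp f (BasedFunctor.comp (AlgSt.overMap E.k) y)).p := isFibGrpd_fp
  haveI : FibCat.IsFibGrpd (FibCat.fp f (BasedFunctor.comp E.x g)).p := isFibGrpd_fp
  haveI : FibCat.IsFibGrpd (FibCat.fp E.x (FibCat.fpFst g f)).p := isFibGrpd_fp
  let c₁ := BasedFunctor.comp G
    (FibCat.fpLift (FibCat.fpFst (AlgSt.overMap E.k) (AlgSt.overMap D.k))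
      (FibCat.fpSnd (AlgSt.overMap E.k) (AlgSt.overMap D.k))
      ((FibCat.fpIso (AlgSt.overMap E.k) (AlgSt.overMap D.k)).trans (wL _ D.α.symm)) :
      FibCat.fp (AlgSt.overMap E.k) (AlgSt.overMap D.k) ⥤ᵇ
        FibCat.fp (AlgSt.overMap E.k) (BasedFunctor.comp d (FibCat.fpSnd f y)))
  let c₂ := BasedFunctor.comp c₁ (pushR (AlgSt.overMap E.k) (FibCat.fpSnd f y) d)
  let c₃ := BasedFunctor.comp c₂ (pasteG f y (AlgSt.overMap E.k))
  let c₄ := BasedFunctor.comp c₃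
    (FibCat.fpLift (FibCat.fpFst f (BasedFunctor.comp (AlgSt.overMap E.k) y))
      (FibCat.fpSnd f (BasedFunctor.comp (AlgSt.overMap E.k) y))
      ((FibCat.fpIso f (BasedFunctor.comp (AlgSt.overMap E.k) y)).trans (wL _ E.sq.symm)) :
      FibCat.fp f (BasedFunctor.comp (AlgSt.overMap E.k) y) ⥤ᵇ FibCat.fp f (BasedFunctor.comp E.x g))
  let c := BasedFunctor.comp c₄ (bcJ f g E.x)
  have key : ∀ {Q : MorphismProperty (Sp S)} [Q.RespectsIso], CompLocal Q → AlgSt.RepByAlgSpWith Q G →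
      AlgSt.RepByAlgSpWith Q D.c → AlgSt.RepByAlgSpWith Q c := fun hQ h1 h2 =>
    repByAlgSpWith_postcomp _ (isEquivOver_bcJ f g E.x)
      (repByAlgSpWith_postcomp _ (isEquivOver_changeR E.sq.symm f)
        (repByAlgSpWith_postcomp _ (isEquivOver_pasteG f y (AlgSt.overMap E.k))
          (repByAlgSpWith_comp hQ (repByAlgSpWith_postcomp _ (isEquivOver_changeR D.α.symm (AlgSt.overMap E.k)) h1)
            (repByAlgSpWith_pushR (AlgSt.overMap E.k) (FibCat.fpSnd f y) d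
              (repByAlgSpWith_postcomp _ (isEquivOver_swapF y f) h2)))))
  refine ⟨C, E.C, BasedFunctor.comp c (FibCat.fpSnd E.x (FibCat.fpFst g f)), E.x, h,
    (wL c (FibCat.fpIso E.x (FibCat.fpFst g f))).symm.trans (wR γ E.x),
    repByAlgSpWith_comp compLocal_smooth (key compLocal_smooth (hG (P := LocP @Smooth) hpe fun v hv => locP_of_repWith (repWith_yon_map
      (haveI : Etale v.left := hv; inferInstance))) D.smooth) (repByAlgSpWith_fpSnd _ (E.x_smooth hy)),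
    repByAlgSpWith_comp compLocal_surjective (key compLocal_surjective (hG (P := IsSurjectiveMor) hps fun v hv => surjective_map_of_repWith (repWith_yon_map hv)) D.surj)
      (repByAlgSpWith_fpSnd _ (E.x_surj hys)), E.x_smooth hy, ?_⟩
  rw [← hcomp]
  exact hP.precomp (IsAlgSpace.yon_obj C) hA (IsAlgSpace.yon_obj E.C) _ _
    (locP_of_repWith (repWith_mono (fun _ _ a (ha : Etale a) => (haveI := ha; inferInstance : Smooth a)) hpe))
    (hPb (IsAlgSpace.yon_obj D.C) (IsAlgSpace.yon_obj V) hA (IsAlgSpace.yon_obj E.C) _ _ _ _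
      (IsPullback.of_map_of_faithful (sheafToPresheaf (J S) (Type (u + 1))) (isPullback_overMap E.k D.k) :
        IsPullback (ObjectProperty.homMk (fibSnd E.k D.k) :
          (⟨fib (AlgSt.overMap E.k) (AlgSt.overMap D.k), hs⟩ : Sp S) ⟶ (yon S).obj D.C)
          (ObjectProperty.homMk (fibπ (AlgSt.overMap E.k) (AlgSt.overMap D.k))) ((yon S).map D.k) ((yon S).map E.k)) hk)

end Groth.Agent.ASt
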