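import Groth.Agent.ASt.LocQBase
import Groth.Agent.ASp.SmST
import Groth.Agent.FpqcDesc.Stalk
/-!
Descent of properties read on chart squares.
-/

set_option backward.isDefEq.respectTransparency false
set_option backward.isDefEq.respectTransparency.types false
set_option linter.unusedSectionVars false

universe u

open CategoryTheory CategoryTheory.Limits AlgebraicGeometry Opposite Topology

namespace Groth.Agent.ASt

open _root_.AlgSp Groth.Agent.ASp

variable {S : Scheme.{u}} {𝒳 𝒴 𝒵 : AlgSt.Cat S} [h𝒳 : FibCat.IsFibGrpd 𝒳.p] [h𝒴 : FibCat.IsFibGrpd 𝒴.p]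
  [h𝒵 : FibCat.IsFibGrpd 𝒵.p]

/-- The chart of a base change built from a chart and a lift of a test scheme. -/
theorem exists_bc_chart {f : 𝒳 ⥤ᵇ 𝒴} {V : Over S} {y : FibCat.overCat V ⥤ᵇ 𝒴} (D : ChartOf f y) (g : 𝒵 ⥤ᵇ 𝒴)
    {T : Over S} {e : FibCat.overCat T ⥤ᵇ 𝒵} {l : T ⟶ V}
    (sq : BasedFunctor.comp e g ≅ BasedFunctor.comp (AlgSt.overMap l) y) :
    ∃ (C : Over S) (c : FibCat.overCat C ⥤ᵇ FibCat.fp e (FibCat.fpFst g f)) (h : C ⟶ T) (F : Sp S)
      (p : (yon S).obj C ⟶ F) (π : F ⟶ (yon S).obj T) (q : F ⟶ (yon S).obj D.C),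
      AlgSt.RepByAlgSpWith (LocP @Smooth) c ∧ AlgSt.RepByAlgSpWith IsSurjectiveMor c ∧
      Nonempty (BasedFunctor.comp c (FibCat.fpFst e (FibCat.fpFst g f)) ≅ AlgSt.overMap h) ∧
      IsAlgSpace F ∧ RepWith @Etale p ∧ RepWith @Surjective p ∧ p ≫ π = (yon S).map h ∧
      IsPullback q π ((yon S).map D.k) ((yon S).map l) := by
  haveI : FibCat.IsFibGrpd (FibCat.fp g f).p := isFibGrpd_fp
  have hr : AlgSt.RepByAlgSp1 (AlgSt.overMap D.k) :=
    repByAlgSp1_of_with (repByAlgSpWith_overMap (P := ⊤) (σ := D.k) fun _ _ _ _ => trivial)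
  obtain ⟨hs, hA, C, p, G, h, hpe, hps, hcomp, ⟨γ⟩, -, hG⟩ := exists_chart_of_fib hr (AlgSt.overMap l)
  haveI : FibCat.IsFibGrpd (FibCat.fp (AlgSt.overMap l) (AlgSt.overMap D.k)).p := isFibGrpd_fp
  haveI : FibCat.IsFibGrpd (FibCat.fp f y).p := isFibGrpd_fp
  haveI : FibCat.IsFibGrpd (FibCat.fp y f).p := isFibGrpd_fp
  let d : FibCat.overCat D.C ⥤ᵇ FibCat.fp f y := BasedFunctor.comp D.c (swapF y f)
  haveI : FibCat.IsFibGrpd (FibCat.fp (AlgSt.overMap l) (BasedFunctor.comp d (FibCat.fpSnd f y))).p := isFibGrpd_fp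
  haveI : FibCat.IsFibGrpd (FibCat.fp (AlgSt.overMap l) (FibCat.fpSnd f y)).p := isFibGrpd_fp
  haveI : FibCat.IsFibGrpd (FibCat.fp f (BasedFunctor.comp (AlgSt.overMap l) y)).p := isFibGrpd_fp
  haveI : FibCat.IsFibGrpd (FibCat.fp f (BasedFunctor.comp e g)).p := isFibGrpd_fp
  haveI : FibCat.IsFibGrpd (FibCat.fp e (FibCat.fpFst g f)).p := isFibGrpd_fp
  let c₁ := BasedFunctor.comp G
    (FibCat.fpLift (FibCat.fpFst (AlgSt.overMap l) (AlgSt.overMap D.k))
      (FibCat.fpSnd (AlgSt.overMap l) (AlgSt.overMap D.k))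
      ((FibCat.fpIso (AlgSt.overMap l) (AlgSt.overMap D.k)).trans (wL _ D.α.symm)) :
      FibCat.fp (AlgSt.overMap l) (AlgSt.overMap D.k) ⥤ᵇ
        FibCat.fp (AlgSt.overMap l) (BasedFunctor.comp d (FibCat.fpSnd f y)))
  let c₂ := BasedFunctor.comp c₁ (pushR (AlgSt.overMap l) (FibCat.fpSnd f y) d)
  let c₃ := BasedFunctor.comp c₂ (pasteG f y (AlgSt.overMap l))
  let c₄ := BasedFunctor.comp c₃
    (FibCat.fpLift (FibCat.fpFst f (BasedFunctor.comp (AlgSt.overMap l) y))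
      (FibCat.fpSnd f (BasedFunctor.comp (AlgSt.overMap l) y))
      ((FibCat.fpIso f (BasedFunctor.comp (AlgSt.overMap l) y)).trans (wL _ sq.symm)) :
      FibCat.fp f (BasedFunctor.comp (AlgSt.overMap l) y) ⥤ᵇ FibCat.fp f (BasedFunctor.comp e g))
  let c := BasedFunctor.comp c₄ (bcJ f g e)
  have key : ∀ {Q : MorphismProperty (Sp S)} [Q.RespectsIso], CompLocal Q → AlgSt.RepByAlgSpWith Q G →
      AlgSt.RepByAlgSpWith Q D.c → AlgSt.RepByAlgSpWith Q c := fun hQ h1 h2 =>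
    repByAlgSpWith_postcomp _ (isEquivOver_bcJ f g e)
      (repByAlgSpWith_postcomp _ (isEquivOver_changeR sq.symm f)
        (repByAlgSpWith_postcomp _ (isEquivOver_pasteG f y (AlgSt.overMap l))
          (repByAlgSpWith_comp hQ (repByAlgSpWith_postcomp _ (isEquivOver_changeR D.α.symm (AlgSt.overMap l)) h1)
            (repByAlgSpWith_pushR (AlgSt.overMap l) (FibCat.fpSnd f y) d
              (repByAlgSpWith_postcomp _ (isEquivOver_swapF y f) h2)))))
  exact ⟨C, c, h, _, p, ObjectProperty.homMk (fibπ (AlgSt.overMap l) (AlgSt.overMap D.k)),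
    ObjectProperty.homMk (fibSnd l D.k),
    key compLocal_smooth (hG (P := LocP @Smooth) hpe fun v hv => locP_of_repWith (repWith_yon_map
      (haveI : Etale v.left := hv; inferInstance))) D.smooth,
    key compLocal_surjective (hG (P := IsSurjectiveMor) hps fun v hv => surjective_map_of_repWith (repWith_yon_map hv)) D.surj,
    ⟨γ⟩, hA, hpe, hps, hcomp,
    IsPullback.of_map_of_faithful (sheafToPresheaf (J S) (Type (u + 1))) (isPullback_overMap l D.k)⟩

/-- An fppf chart of a morphism lifts a smooth chart of the target. -/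
theorem exists_lift_chart {V W : Over S} {y : FibCat.overCat V ⥤ᵇ 𝒴} (hy : AlgSt.RepByAlgSpWith (LocP @Smooth) y)
    {c : FibCat.overCat W ⥤ᵇ 𝒵} (hc : AlgSt.RepByAlgSpWith (LocP @Smooth) c) {z : 𝒵 ⥤ᵇ 𝒴}
    {M : MorphismProperty Scheme.{u}} [IsEtLocal M]
    (hfl : AlgSt.RepByAlgSpWith (LocP M) (BasedFunctor.comp c z)) (hsu : AlgSt.IsSurjective (BasedFunctor.comp c z)) :
    ∃ (T : Over S) (e : FibCat.overCat T ⥤ᵇ 𝒵) (l : T ⟶ V)
      (_ : BasedFunctor.comp e z ≅ BasedFunctor.comp (AlgSt.overMap l) y),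
      AlgSt.RepByAlgSpWith (LocP @Smooth) e ∧ M l.left ∧ Surjective l.left ∧
      ∀ {M' : MorphismProperty Scheme.{u}} [IsEtLocal M'],
        AlgSt.RepByAlgSpWith (LocP M') (BasedFunctor.comp c z) → M' l.left := by
  obtain ⟨hs, hA, T, p, E, l, hpe, hps, hcomp, ⟨α⟩, -, hE⟩ := exists_chart_of_fib (repByAlgSp1_of_with hfl) y
  haveI : FibCat.IsFibGrpd (FibCat.fp y (BasedFunctor.comp c z)).p := isFibGrpd_fp
  obtain ⟨_, _, q3⟩ :=
    (repByAlgSpWith_iff.1 (repByAlgSpWith_surjective_of_isSurjective (repByAlgSp1_of_with hfl) hsu)).2 V y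
  obtain ⟨_, _, q1⟩ := (repByAlgSpWith_iff.1 hfl).2 V y
  refine ⟨T, BasedFunctor.comp (BasedFunctor.comp E (FibCat.fpSnd y (BasedFunctor.comp c z))) c, l,
    (wL E (FibCat.fpIso y (BasedFunctor.comp c z))).symm.trans (wR α y),
    repByAlgSpWith_comp compLocal_smooth (repByAlgSpWith_comp compLocal_smooth
      (hE (P := LocP @Smooth) hpe fun v hv => locP_of_repWith (repWith_yon_map
        (haveI : Etale v.left := hv; inferInstance))) (repByAlgSpWith_fpSnd _ hy)) hc,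
    prop_chart hpe hcomp q1, surjective_left_of_map (by
      rw [← hcomp, show AlgSp.Points.map (p ≫ _) = AlgSp.Points.map _ ∘ AlgSp.Points.map p from
        funext (AlgSp.Points.map_comp p _)]
      exact q3.comp (surjective_map_of_repWith hps)), fun h => ?_⟩
  obtain ⟨_, _, q2⟩ := (repByAlgSpWith_iff.1 h).2 V y
  exact prop_chart hpe hcomp q2

/-- Properties local on the base for fppf coverings descend along fppf morphisms. -/
theorem locQ_of_fppf {P : MorphismProperty (Sp S)} (hP : IsSmoothLocalST P) (hP₂ : IsLocalOnBase IsFppfCover P)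
    (hX : AlgSt.IsAlgStack Scheme.fppfPrecoverage 𝒳) (hY : AlgSt.IsAlgStack Scheme.fppfPrecoverage 𝒴)
    (hZ : AlgSt.IsAlgStack Scheme.fppfPrecoverage 𝒵) {f : 𝒳 ⥤ᵇ 𝒴} {z : 𝒵 ⥤ᵇ 𝒴} {W : Over S}
    {c : FibCat.overCat W ⥤ᵇ 𝒵} (hc : AlgSt.RepByAlgSpWith (LocP @Smooth) c)
    (hfl : AlgSt.RepByAlgSpWith (LocP @Flat) (BasedFunctor.comp c z))
    (hfp : AlgSt.RepByAlgSpWith (LocP @LocallyOfFinitePresentation) (BasedFunctor.comp c z))
    (hsu : AlgSt.IsSurjective (BasedFunctor.comp c z))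
    (h : AlgSt.LocQ P (FibCat.fpFst z f)) : AlgSt.LocQ P f := by
  haveI : FibCat.IsFibGrpd (FibCat.fp z f).p := isFibGrpd_fp
  obtain ⟨V, y, hy, hys⟩ := hY.atlas
  obtain ⟨D⟩ := nonempty_chartOf hY.diag hX.atlas f y
  obtain ⟨T, e, l, sq, he, hl1, hl3, hl2⟩ := exists_lift_chart hy hc hfl hsu
  obtain ⟨C, c', k', F, p, π, q, hc', -, ⟨γ⟩, hF, hpe, hps, hcomp, hpb⟩ := exists_bc_chart D z sq
  have hk' : P ((yon S).map k') := smLoc_of_locQ hP hZ.diag h he hc' γ
  rw [← hcomp] at hk'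
  have hπ : P π := smLoc_descend hP hF (IsAlgSpace.yon_obj C) (IsAlgSpace.yon_obj T)
    (locP_of_repWith (repWith_mono (fun _ _ a (ha : Etale a) => (haveI := ha; inferInstance : Smooth a)) hpe))
    (surjective_map_of_repWith hps) hk'
  refine D.locQ hy hys ((hP₂ (ι := PUnit) (fun _ => (yon S).obj T) (fun _ => (yon S).map l) (IsAlgSpace.yon_obj V)
    (fun _ => IsAlgSpace.yon_obj T) ⟨fun _ => ⟨locP_of_prop_left hl1, locP_of_prop_left (hl2 hfp)⟩, fun x => ?_⟩
    ((yon S).map D.k) (IsAlgSpace.yon_obj D.C) (fun _ => F) (fun _ => π) (fun _ => q) (fun _ => hF)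
    (fun _ => hpb)).2 fun _ => hπ)
  obtain ⟨t, ht⟩ := surjective_map_of_repWith (repWith_yon_map (P := @Surjective) hl3) x
  exact ⟨PUnit.unit, t, ht⟩

/-- Flatness descends along flat surjective morphisms. -/
theorem flat_of_flat_surjective (hX : AlgSt.IsAlgStack Scheme.fppfPrecoverage 𝒳)
    (hY : AlgSt.IsAlgStack Scheme.fppfPrecoverage 𝒴) (hZ : AlgSt.IsAlgStack Scheme.fppfPrecoverage 𝒵)
    {f : 𝒳 ⥤ᵇ 𝒴} {z : 𝒵 ⥤ᵇ 𝒴} {W : Over S} {c : FibCat.overCat W ⥤ᵇ 𝒵}
    (hc : AlgSt.RepByAlgSpWith (LocP @Smooth) c) (hfl : AlgSt.RepByAlgSpWith (LocP @Flat) (BasedFunctor.comp c z))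
    (hsu : AlgSt.IsSurjective (BasedFunctor.comp c z))
    (h : AlgSt.LocQ (LocP @Flat) (FibCat.fpFst z f)) : AlgSt.LocQ (LocP @Flat) f := by
  haveI : FibCat.IsFibGrpd (FibCat.fp z f).p := isFibGrpd_fp
  obtain ⟨V, y, hy, hys⟩ := hY.atlas
  obtain ⟨D⟩ := nonempty_chartOf hY.diag hX.atlas f y
  obtain ⟨T, e, l, sq, he, hl1, hl3, -⟩ := exists_lift_chart hy hc hfl hsu
  obtain ⟨C, c', k', F, p, π, q, hc', -, ⟨γ⟩, hF, hpe, hps, hcomp, hpb⟩ := exists_bc_chart D z sq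
  haveI : Flat k'.left := prop_left_of_locP (smLoc_of_locQ isSmoothLocalST_locP hZ.diag h he hc' γ)
  obtain ⟨b, hb⟩ := (yon S).map_surjective (p ≫ q)
  have hb' : b ≫ D.k = k' ≫ l := (yon S).map_injective (by
    rw [Functor.map_comp, Functor.map_comp, hb, ← hcomp, Category.assoc, Category.assoc, hpb.w])
  have hqf : LocP @Flat q := locP_of_isPullback hpb (IsAlgSpace.yon_obj T) (IsAlgSpace.yon_obj V)
    (IsAlgSpace.yon_obj D.C) (locP_of_prop_left hl1)
  haveI : Flat b.left := prop_left_of_locP (by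
    rw [hb]
    exact locP_comp hF (locP_of_repWith (repWith_mono (fun _ _ a (ha : Etale a) => (haveI := ha; inferInstance : Flat a)) hpe)) hqf)
  haveI : Surjective b.left := surjective_left_of_map (by
    rw [hb, show AlgSp.Points.map (p ≫ q) = AlgSp.Points.map q ∘ AlgSp.Points.map p from
      funext (AlgSp.Points.map_comp p q)]
    exact (surjective_map_of_isPullback hpb.flip (surjective_map_of_repWith (repWith_yon_map hl3))).comp
      (surjective_map_of_repWith hps))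
  haveI : Flat l.left := hl1
  haveI : Flat (b.left ≫ D.k.left) := by rw [← Over.comp_left, hb', Over.comp_left]; infer_instance
  exact D.locQ hy hys (locP_of_prop_left (Groth.Agent.FlatDescStalk.flat_of_comp b.left D.k.left))

end Groth.Agent.ASt
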