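import Groth.Agent.ASt.Calc
import Groth.Agent.ASt.Local
import Groth.Agent.ASt.Inv
/-!
Products of representable morphisms.
-/

set_option backward.isDefEq.respectTransparency false
set_option backward.isDefEq.respectTransparency.types false
set_option linter.unusedSectionVars false

universe u

open CategoryTheory CategoryTheory.Limits AlgebraicGeometry Opposite

namespace Groth.Agent.ASt

open _root_.AlgSp Groth.Agent.ASp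

variable {S : Scheme.{u}} {𝒳₁ 𝒳₂ 𝒴₁ 𝒴₂ : AlgSt.Cat S} [h₁ : FibCat.IsFibGrpd 𝒳₁.p]
  [h₂ : FibCat.IsFibGrpd 𝒳₂.p] [h₃ : FibCat.IsFibGrpd 𝒴₁.p] [h₄ : FibCat.IsFibGrpd 𝒴₂.p]
variable (f₁ : 𝒳₁ ⥤ᵇ 𝒴₁) (f₂ : 𝒳₂ ⥤ᵇ 𝒴₂)
  (e : BasedFunctor.comp (BasedFunctor.comp (FibCat.fpFst (FibCat.toSelf 𝒳₁) (FibCat.toSelf 𝒳₂)) f₁)
      (FibCat.toSelf 𝒴₁) ≅
    BasedFunctor.comp (BasedFunctor.comp (FibCat.fpSnd (FibCat.toSelf 𝒳₁) (FibCat.toSelf 𝒳₂)) f₂)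
      (FibCat.toSelf 𝒴₂))

theorem isFibGrpd_prod (A B : AlgSt.Cat S) [FibCat.IsFibGrpd A.p] [FibCat.IsFibGrpd B.p] :
    FibCat.IsFibGrpd (FibCat.fp (FibCat.toSelf A) (FibCat.toSelf B)).p := isFibGrpd_fp

/-- The product of two functors over the base. -/
noncomputable abbrev prodMap : FibCat.fp (FibCat.toSelf 𝒳₁) (FibCat.toSelf 𝒳₂) ⥤ᵇ
    FibCat.fp (FibCat.toSelf 𝒴₁) (FibCat.toSelf 𝒴₂) :=
  FibCat.fpLift (BasedFunctor.comp (FibCat.fpFst (FibCat.toSelf 𝒳₁) (FibCat.toSelf 𝒳₂)) f₁)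
    (BasedFunctor.comp (FibCat.fpSnd (FibCat.toSelf 𝒳₁) (FibCat.toSelf 𝒳₂)) f₂) e

variable {U : Over S} (w : FibCat.overCat U ⥤ᵇ FibCat.fp (FibCat.toSelf 𝒴₁) (FibCat.toSelf 𝒴₂))

/-- The fibre of a product mapped to the fibre of the first factor. -/
noncomputable def prodFst : FibCat.fp w (prodMap f₁ f₂ e) ⥤ᵇ
    FibCat.fp (BasedFunctor.comp w (FibCat.fpFst (FibCat.toSelf 𝒴₁) (FibCat.toSelf 𝒴₂))) f₁ :=
  FibCat.fpLift (FibCat.fpFst w (prodMap f₁ f₂ e))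
    (BasedFunctor.comp (FibCat.fpSnd w (prodMap f₁ f₂ e)) (FibCat.fpFst (FibCat.toSelf 𝒳₁) (FibCat.toSelf 𝒳₂)))
    (wR (FibCat.fpIso w (prodMap f₁ f₂ e)) (FibCat.fpFst (FibCat.toSelf 𝒴₁) (FibCat.toSelf 𝒴₂)))

/-- The fibre of a product mapped to the fibre of the second factor. -/
noncomputable def prodSnd : FibCat.fp w (prodMap f₁ f₂ e) ⥤ᵇ
    FibCat.fp (BasedFunctor.comp w (FibCat.fpSnd (FibCat.toSelf 𝒴₁) (FibCat.toSelf 𝒴₂))) f₂ :=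
  FibCat.fpLift (FibCat.fpFst w (prodMap f₁ f₂ e))
    (BasedFunctor.comp (FibCat.fpSnd w (prodMap f₁ f₂ e)) (FibCat.fpSnd (FibCat.toSelf 𝒳₁) (FibCat.toSelf 𝒳₂)))
    (wR (FibCat.fpIso w (prodMap f₁ f₂ e)) (FibCat.fpSnd (FibCat.toSelf 𝒴₁) (FibCat.toSelf 𝒴₂)))

variable {T : Over S}

theorem snd_map_vert {k : T ⟶ U} {m : (FibCat.fp (FibCat.toSelf 𝒳₁) (FibCat.toSelf 𝒳₂)).obj}
    (hm : (FibCat.fp (FibCat.toSelf 𝒳₁) (FibCat.toSelf 𝒳₂)).p.obj m = T)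
    {φ : w.obj (ov k) ⟶ (prodMap f₁ f₂ e).obj m}
    (hφ : (FibCat.fp (FibCat.toSelf 𝒴₁) (FibCat.toSelf 𝒴₂)).p.map φ =
      eqToHom (((w.w_obj (ov k)).trans (ov_base k)).trans (hm.symm.trans ((prodMap f₁ f₂ e).w_obj m).symm))) :
    𝒴₂.p.map φ.hom.snd =
      eqToHom ((((BasedFunctor.comp w (FibCat.fpSnd (FibCat.toSelf 𝒴₁) (FibCat.toSelf 𝒴₂))).w_obj (ov k)).trans
        (ov_base k)).trans (((fp_snd_base m).trans hm).symm.trans (f₂.w_obj m.obj.snd).symm)) := by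
  have h0 : 𝒴₁.p.map φ.hom.fst = eqToHom _ := hφ
  rw [fp_map_snd, h0]
  exact (congrArg (fun r => _ ≫ r) (eqToHom_trans _ _)).trans (eqToHom_trans _ _)

theorem clF_prodFst (k : T ⟶ U) (m : (FibCat.fp (FibCat.toSelf 𝒳₁) (FibCat.toSelf 𝒳₂)).obj)
    (hm : (FibCat.fp (FibCat.toSelf 𝒳₁) (FibCat.toSelf 𝒳₂)).p.obj m = T)
    (φ : w.obj (ov k) ⟶ (prodMap f₁ f₂ e).obj m) (hφ) {hφ'} :
    clF (prodFst f₁ f₂ e w) T (fpEl k m hm φ hφ) =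
      fpEl (y := BasedFunctor.comp w (FibCat.fpFst (FibCat.toSelf 𝒴₁) (FibCat.toSelf 𝒴₂))) (f := f₁)
        k m.obj.fst hm φ.hom.fst hφ' :=
  cl_eq_iff.2 ⟨fpHomMk (𝟙 _) (𝟙 _) (by
    simp [prodFst, fpObj, fpMk, FibCat.fpLift, FibCat.fpIso, BasedNatIso.mkNatIso, wR]
    rfl), ((FibCat.overCat U).p.map_id _).trans rfl⟩

theorem clF_prodSnd (k : T ⟶ U) (m : (FibCat.fp (FibCat.toSelf 𝒳₁) (FibCat.toSelf 𝒳₂)).obj)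
    (hm : (FibCat.fp (FibCat.toSelf 𝒳₁) (FibCat.toSelf 𝒳₂)).p.obj m = T)
    (φ : w.obj (ov k) ⟶ (prodMap f₁ f₂ e).obj m) (hφ) {hφ'} :
    clF (prodSnd f₁ f₂ e w) T (fpEl k m hm φ hφ) =
      fpEl (y := BasedFunctor.comp w (FibCat.fpSnd (FibCat.toSelf 𝒴₁) (FibCat.toSelf 𝒴₂))) (f := f₂)
        k m.obj.snd ((fp_snd_base m).trans hm) φ.hom.snd hφ' :=
  cl_eq_iff.2 ⟨fpHomMk (𝟙 _) (𝟙 _) (by
    simp [prodSnd, fpObj, fpMk, FibCat.fpLift, FibCat.fpIso, BasedNatIso.mkNatIso, wR]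
    rfl), ((FibCat.overCat U).p.map_id _).trans rfl⟩

theorem isPullback_prod [FibCat.IsFibGrpd (FibCat.fp w (prodMap f₁ f₂ e)).p] [FibCat.IsFibGrpd (FibCat.fp (FibCat.toSelf 𝒳₁) (FibCat.toSelf 𝒳₂)).p]
    [FibCat.IsFibGrpd (FibCat.fp (FibCat.toSelf 𝒴₁) (FibCat.toSelf 𝒴₂)).p] :
    IsPullback (clFun (prodFst f₁ f₂ e w)) (clFun (prodSnd f₁ f₂ e w))
      (fibπ (BasedFunctor.comp w (FibCat.fpFst (FibCat.toSelf 𝒴₁) (FibCat.toSelf 𝒴₂))) f₁)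
      (fibπ (BasedFunctor.comp w (FibCat.fpSnd (FibCat.toSelf 𝒴₁) (FibCat.toSelf 𝒴₂))) f₂) := by
  refine isPullback_of_pointwise ?_ (fun T a a' e1 e2 => ?_) (fun T b d h => ?_)
  · ext T c
    obtain ⟨m, hm, rfl⟩ := cl_exists (T := T.unop) c
    rfl
  · obtain ⟨k, m, hm, φ, hφ, rfl⟩ := fpEl_exists (T := T) a
    obtain ⟨k', m', hm', φ', hφ', rfl⟩ := fpEl_exists (T := T) a'
    have hs := snd_map_vert f₁ f₂ e w hm hφ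
    have hs' := snd_map_vert f₁ f₂ e w hm' hφ'
    have e3 := (clF_prodFst f₁ f₂ e w k m hm φ hφ (hφ' := hφ)).symm.trans
      (e1.trans (clF_prodFst f₁ f₂ e w k' m' hm' φ' hφ' (hφ' := hφ')))
    have e4 := (clF_prodSnd f₁ f₂ e w k m hm φ hφ (hφ' := hs)).symm.trans
      (e2.trans (clF_prodSnd f₁ f₂ e w k' m' hm' φ' hφ' (hφ' := hs')))
    obtain rfl : k = k' := (fpHom_fpEl _ _ _ _ _).symm.trans ((congrArg fpHom e3).trans (fpHom_fpEl _ _ _ _ _))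
    obtain ⟨v₁, hv₁, hv₁'⟩ := fpEl_eq_iff.1 e3
    obtain ⟨v₂, hv₂, hv₂'⟩ := fpEl_eq_iff.1 e4
    have hw : (FibCat.toSelf 𝒳₁).map v₁ ≫ m'.obj.iso.hom = m.obj.iso.hom ≫ (FibCat.toSelf 𝒳₂).map v₂ := by
      change 𝒳₁.p.map v₁ ≫ m'.obj.iso.hom = m.obj.iso.hom ≫ 𝒳₂.p.map v₂
      have i1 := fp_iso_map m
      have i2 := fp_iso_map m'
      change m.obj.iso.hom = _ at i1
      change m'.obj.iso.hom = _ at i2
      rw [hv₁, hv₂, i1, i2]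
      exact (eqToHom_trans _ _).trans (eqToHom_trans _ _).symm
    exact fpEl_eq_iff.2 ⟨fpHomMk v₁ v₂ hw, hv₁, fp_hom_ext hv₁' hv₂'⟩
  · obtain ⟨k, x₁, hx₁, φ₁, hφ₁, rfl⟩ := fpEl_exists (T := T) b
    obtain ⟨k', x₂, hx₂, φ₂, hφ₂, rfl⟩ := fpEl_exists (T := T) d
    obtain rfl : k = k' := (fpHom_fpEl k x₁ hx₁ φ₁ hφ₁).symm.trans
      ((congrArg ULift.down h).trans (fpHom_fpEl k' x₂ hx₂ φ₂ hφ₂))
    have he : (FibCat.toSelf 𝒳₁).obj x₁ = (FibCat.toSelf 𝒳₂).obj x₂ := hx₁.trans hx₂.symm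
    let m : (FibCat.fp (FibCat.toSelf 𝒳₁) (FibCat.toSelf 𝒳₂)).obj :=
      fpMk x₁ x₂ (hx₂.trans hx₁.symm) (eqToIso he) (eqToHom_map (FibCat.selfOver (Over S)).p he)
    let φ : w.obj (ov k) ⟶ (prodMap f₁ f₂ e).obj m := fpHomMk φ₁ φ₂ (by
      change 𝒴₁.p.map φ₁ ≫ ((prodMap f₁ f₂ e).obj m).obj.iso.hom = (w.obj (ov k)).obj.iso.hom ≫ 𝒴₂.p.map φ₂
      have i1 := fp_iso_map ((prodMap f₁ f₂ e).obj m)
      have i2 := fp_iso_map (w.obj (ov k))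
      change ((prodMap f₁ f₂ e).obj m).obj.iso.hom = _ at i1
      change (w.obj (ov k)).obj.iso.hom = _ at i2
      rw [i1, i2, hφ₁, hφ₂]
      exact (eqToHom_trans _ _).trans (eqToHom_trans _ _).symm)
    exact ⟨fpEl k m hx₁ φ hφ₁, clF_prodFst f₁ f₂ e w k m hx₁ φ hφ₁, clF_prodSnd f₁ f₂ e w k m hx₁ φ hφ₁⟩

omit w in
/-- The product of two morphisms with a property stable under base change and composition has it. -/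
theorem repByAlgSpWith_prodMap {P : MorphismProperty (Sp S)}
    (hPb : ∀ ⦃X₁ Y₁ X₂ Y₂ : Sp S⦄, IsAlgSpace X₁ → IsAlgSpace Y₁ → IsAlgSpace X₂ →
      IsAlgSpace Y₂ → ∀ (a : X₁ ⟶ Y₁) (b : Y₂ ⟶ Y₁) (a' : X₂ ⟶ Y₂) (b' : X₂ ⟶ X₁),
      IsPullback b' a' a b → P a → P a')
    (hPc : ∀ ⦃X Y Z : Sp S⦄, IsAlgSpace X → IsAlgSpace Y → IsAlgSpace Z →
      ∀ (a : X ⟶ Y) (b : Y ⟶ Z), P a → P b → P (a ≫ b))
    (hf₁ : AlgSt.RepByAlgSpWith P f₁) (hf₂ : AlgSt.RepByAlgSpWith P f₂) :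
    AlgSt.RepByAlgSpWith P (prodMap f₁ f₂ e) := by
  haveI := respectsIso_onSpaces hPb
  haveI : FibCat.IsFibGrpd (FibCat.fp (FibCat.toSelf 𝒳₁) (FibCat.toSelf 𝒳₂)).p := isFibGrpd_fp
  haveI : FibCat.IsFibGrpd (FibCat.fp (FibCat.toSelf 𝒴₁) (FibCat.toSelf 𝒴₂)).p := isFibGrpd_fp
  haveI := faithful_of_repByAlgSp1 (repByAlgSp1_of_with hf₁)
  haveI := faithful_of_repByAlgSp1 (repByAlgSp1_of_with hf₂)
  haveI : (prodMap f₁ f₂ e).toFunctor.Faithful :=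
    ⟨fun h => fp_hom_ext (f₁.toFunctor.map_injective (congrArg (fun k => k.hom.fst) h))
      (f₂.toFunctor.map_injective (congrArg (fun k => k.hom.snd) h))⟩
  refine repByAlgSpWith_onSpaces_iff.1 (repByAlgSpWith_iff.2 ⟨inferInstance, fun U w => ?_⟩)
  obtain ⟨hs₁, hA₁, hP₁⟩ := (repByAlgSpWith_iff.1 (repByAlgSpWith_onSpaces_iff.2 hf₁)).2 U
    (BasedFunctor.comp w (FibCat.fpFst (FibCat.toSelf 𝒴₁) (FibCat.toSelf 𝒴₂)))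
  obtain ⟨hs₂, hA₂, hP₂⟩ := (repByAlgSpWith_iff.1 (repByAlgSpWith_onSpaces_iff.2 hf₂)).2 U
    (BasedFunctor.comp w (FibCat.fpSnd (FibCat.toSelf 𝒴₁) (FibCat.toSelf 𝒴₂)))
  let π₁ : (⟨_, hs₁⟩ : Sp S) ⟶ (yon S).obj U :=
    ObjectProperty.homMk (fibπ (BasedFunctor.comp w (FibCat.fpFst (FibCat.toSelf 𝒴₁) (FibCat.toSelf 𝒴₂))) f₁)
  let π₂ : (⟨_, hs₂⟩ : Sp S) ⟶ (yon S).obj U :=
    ObjectProperty.homMk (fibπ (BasedFunctor.comp w (FibCat.fpSnd (FibCat.toSelf 𝒴₁) (FibCat.toSelf 𝒴₂))) f₂)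
  haveI : FibCat.IsFibGrpd (FibCat.fp w (prodMap f₁ f₂ e)).p := isFibGrpd_fp
  let i := ((IsPullback.of_hasPullback π₁ π₂).map (sheafToPresheaf (J S) (Type (u + 1)))).isoIsPullback _ _
    (isPullback_prod f₁ f₂ e w)
  have hQ : IsAlgSpace (pullback π₁ π₂) :=
    isAlgSpace_pullback (IsAlgSpace.yon_obj U).diag hA₁ hA₂ π₁ π₂
  obtain ⟨hs, hA⟩ := ((isAlgSpaceP_obj_iff (pullback π₁ π₂)).2 hQ).of_iso i
  refine ⟨hs, hA, fun _ _ => ?_⟩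
  let q : (⟨fib w (prodMap f₁ f₂ e), hs⟩ : Sp S) ⟶ (⟨_, hs₁⟩ : Sp S) := ObjectProperty.homMk (clFun (prodFst f₁ f₂ e w))
  let r : (⟨fib w (prodMap f₁ f₂ e), hs⟩ : Sp S) ⟶ (⟨_, hs₂⟩ : Sp S) := ObjectProperty.homMk (clFun (prodSnd f₁ f₂ e w))
  have sq : IsPullback q r π₁ π₂ :=
    IsPullback.of_map_of_faithful (sheafToPresheaf (J S) (Type (u + 1))) (isPullback_prod f₁ f₂ e w)
  have hπ : (ObjectProperty.homMk (fibπ w (prodMap f₁ f₂ e)) : (⟨fib w (prodMap f₁ f₂ e), hs⟩ : Sp S) ⟶ (yon S).obj U) =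
      q ≫ π₁ := by
    refine ObjectProperty.hom_ext _ ?_
    ext T c
    obtain ⟨m, hm, rfl⟩ := cl_exists (T := T.unop) c
    rfl
  rw [hπ]
  exact hPc hA hA₁ (IsAlgSpace.yon_obj U) q π₁
    (hPb hA₂ (IsAlgSpace.yon_obj U) hA hA₁ π₂ π₁ q r sq.flip (hP₂ hA₂ (IsAlgSpace.yon_obj U)))
    (hP₁ hA₁ (IsAlgSpace.yon_obj U))

end Groth.Agent.ASt
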