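import Groth.Agent.ASt.Props
/-!
Affine, integral and finite morphisms of spaces are stable under isomorphisms.
-/

set_option backward.isDefEq.respectTransparency.types false

universe u

open CategoryTheory CategoryTheory.Limits AlgebraicGeometry Opposite

namespace Groth.Agent.ASt

open _root_.AlgSp

variable {S : Scheme.{u}}

theorem respectsIso_of_affineType {P : MorphismProperty (Sp S)} {M : ∀ {W Z : Over S}, (W ⟶ Z) → Prop}
    (hP : ∀ ⦃F G : Sp S⦄ (f : F ⟶ G), P f ↔ ∀ ⦃Z : Over S⦄, IsAffine Z.left → ∀ (g : (yon S).obj Z ⟶ G),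
      ∃ (W : Over S) (i : W ⟶ Z) (fst : (yon S).obj W ⟶ F), IsPullback fst ((yon S).map i) f g ∧ M i) :
    P.RespectsIso := by
  refine MorphismProperty.RespectsIso.mk _ (fun {X Y W} e f hf => (hP _).2 fun Z hZ g => ?_)
    (fun {X Y W} e f hf => (hP _).2 fun Z hZ g => ?_)
  · obtain ⟨V, i, fst, sq, hM⟩ := (hP f).1 hf hZ g
    exact ⟨V, i, fst ≫ e.inv, IsPullback.of_iso sq (Iso.refl _) e.symm (Iso.refl _) (Iso.refl _)
      (by simp) (by simp) (by simp) (by simp), hM⟩
  · obtain ⟨V, i, fst, sq, hM⟩ := (hP f).1 hf hZ (g ≫ e.inv)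
    exact ⟨V, i, fst, IsPullback.of_iso sq (Iso.refl _) (Iso.refl _) (Iso.refl _) e
      (by simp) (by simp) (by simp) (by simp), hM⟩

instance respectsIso_isAffineMor : (IsAffineMor : MorphismProperty (Sp S)).RespectsIso :=
  respectsIso_of_affineType (M := fun {W _} _ => IsAffine W.left) fun _ _ _ => Iff.rfl

instance respectsIso_isIntegralMor : (IsIntegralMor : MorphismProperty (Sp S)).RespectsIso :=
  respectsIso_of_affineType (M := fun {W _} i => IsAffine W.left ∧ IsIntegralHom i.left) fun _ _ _ => Iff.rfl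

end Groth.Agent.ASt
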