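import Groth.Agent.ASt.Fp
import Groth.Prelude.Def_AlgSt4
/-!
Points of categories fibred in groupoids over schemes.
-/

set_option backward.isDefEq.respectTransparency false
set_option backward.isDefEq.respectTransparency.types false
set_option linter.unusedSectionVars false

universe u

open CategoryTheory CategoryTheory.Limits AlgebraicGeometry Opposite

namespace Groth.Agent.ASt

open AlgSt

variable {S : Scheme.{u}} {𝒳 𝒴 𝒵 : AlgSt.Cat S} [h𝒳 : FibCat.IsFibGrpd 𝒳.p] [h𝒴 : FibCat.IsFibGrpd 𝒴.p]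
  [h𝒵 : FibCat.IsFibGrpd 𝒵.p]

/-- A field-valued point pulled back along an extension. -/
noncomputable def pullPt (p : FPt 𝒳) {L : Type u} [Field L] {w : Spec (CommRingCat.of L) ⟶ S}
    (k : Over.mk w ⟶ Over.mk p.str) : FPt 𝒳 :=
  { K := L, str := w, obj := pull p.obj p.lies k, lies := pull_base p.obj p.lies k }

theorem rel_pullPt (p : FPt 𝒳) {L : Type u} [Field L] {w : Spec (CommRingCat.of L) ⟶ S}
    (k : Over.mk w ⟶ Over.mk p.str) : FPt.Rel (pullPt p k) p :=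
  ⟨pullPt p k, 𝟙 _, pullHom p.obj p.lies k, trivial⟩

theorem rel_refl (p : FPt 𝒳) : FPt.Rel p p := ⟨p, 𝟙 _, 𝟙 _, trivial⟩

theorem rel_symm {p q : FPt 𝒳} (h : FPt.Rel p q) : FPt.Rel q p :=
  let ⟨r, a, b, _⟩ := h
  ⟨r, b, a, trivial⟩

/-- The morphism of spectra below a morphism of field-valued points. -/
noncomputable def ptBase {p q : FPt 𝒳} (a : p.obj ⟶ q.obj) : Over.mk p.str ⟶ Over.mk q.str :=
  eqToHom p.lies.symm ≫ 𝒳.p.map a ≫ eqToHom q.lies

theorem map_eq_ptBase {p q : FPt 𝒳} (a : p.obj ⟶ q.obj) :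
    𝒳.p.map a = eqToHom p.lies ≫ ptBase a ≫ eqToHom q.lies.symm := by
  simp [ptBase]

/-- Two extensions of a spectrum of a field have a common extension. -/
theorem exists_common {L Ω₁ Ω₂ : Type u} [Field L] [Field Ω₁] [Field Ω₂]
    {w : Spec (CommRingCat.of L) ⟶ S} {w₁ : Spec (CommRingCat.of Ω₁) ⟶ S}
    {w₂ : Spec (CommRingCat.of Ω₂) ⟶ S} (b₁ : Over.mk w₁ ⟶ Over.mk w) (b₂ : Over.mk w₂ ⟶ Over.mk w) :
    ∃ (Ω : Type u) (_ : Field Ω) (v : Spec (CommRingCat.of Ω) ⟶ S) (d₁ : Over.mk v ⟶ Over.mk w₁)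
      (d₂ : Over.mk v ⟶ Over.mk w₂), d₁ ≫ b₁ = d₂ ≫ b₂ := by
  obtain ⟨Ω, _, i₁, i₂, hi⟩ :=
    AlgSp.FieldPt.exists_amalgamation (Spec.preimage b₁.left).hom (Spec.preimage b₂.left).hom
  have hL : Spec.map (CommRingCat.ofHom i₁) ≫ b₁.left = Spec.map (CommRingCat.ofHom i₂) ≫ b₂.left := by
    conv_lhs => rw [← Spec.map_preimage b₁.left]
    conv_rhs => rw [← Spec.map_preimage b₂.left]
    rw [← Spec.map_comp, ← Spec.map_comp]
    congr 1
    exact CommRingCat.hom_ext hi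
  have e₁ : b₁.left ≫ w = w₁ := Over.w b₁
  have e₂ : b₂.left ≫ w = w₂ := Over.w b₂
  refine ⟨Ω, inferInstance, Spec.map (CommRingCat.ofHom i₁) ≫ w₁, Over.homMk (Spec.map (CommRingCat.ofHom i₁)) rfl,
    Over.homMk (Spec.map (CommRingCat.ofHom i₂)) ?_, Over.OverMorphism.ext hL⟩
  change Spec.map (CommRingCat.ofHom i₂) ≫ w₂ = Spec.map (CommRingCat.ofHom i₁) ≫ w₁
  rw [← e₁, ← e₂, ← Category.assoc, ← Category.assoc, hL]

theorem rel_trans {p q r : FPt 𝒳} (h₁ : FPt.Rel p q) (h₂ : FPt.Rel q r) : FPt.Rel p r := by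
  obtain ⟨s, a, b, -⟩ := h₁
  obtain ⟨t, c, d, -⟩ := h₂
  obtain ⟨Ω, _, v, d₁, d₂, hd⟩ := exists_common (ptBase b) (ptBase c)
  refine ⟨pullPt s d₁, pullHom s.obj s.lies d₁ ≫ a,
    facMap c (pullHom s.obj s.lies d₁ ≫ b) (eqToHom (pull_base s.obj s.lies d₁) ≫ d₂ ≫ eqToHom t.lies.symm) ?_ ≫ d,
    trivial⟩
  rw [Functor.map_comp, map_pullHom, map_eq_ptBase b, map_eq_ptBase c]
  simp [reassoc_of% hd]

theorem equivalence_rel : _root_.Equivalence (@FPt.Rel S 𝒳) := ⟨rel_refl, rel_symm, rel_trans⟩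

theorem mk_eq_mk_iff {p q : FPt 𝒳} : Points.mk p = Points.mk q ↔ FPt.Rel p q :=
  ⟨fun h => (equivalence_rel.eqvGen_iff).1 (Quot.eqvGen_exact h), Points.sound⟩

/-- Points of a 2-fibre product surject onto the fibre product of the points. -/
theorem points_surjective_fp (g : 𝒵 ⥤ᵇ 𝒴) (f : 𝒳 ⥤ᵇ 𝒴) (z : Points 𝒵) (x : Points 𝒳)
    (h : Points.map g z = Points.map f x) : ∃ w : Points (FibCat.fp g f),
      Points.map (FibCat.fpFst g f) w = z ∧ Points.map (FibCat.fpSnd g f) w = x := by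
  obtain ⟨p, rfl⟩ := Points.mk_surjective z
  obtain ⟨q, rfl⟩ := Points.mk_surjective x
  obtain ⟨r, a, b, -⟩ := mk_eq_mk_iff.1 (show Points.mk (p.map g) = Points.mk (q.map f) from h)
  let p' := pullPt p (ptBase (q := p.map g) a)
  let q' := pullPt q (ptBase (q := q.map f) b)
  let α := facMap a (g.map (pullHom p.obj p.lies (ptBase (q := p.map g) a)))
    (eqToHom (((g.w_obj _).trans (pull_base p.obj p.lies _)).trans r.lies.symm)) (by
      rw [map_w, map_pullHom, map_eq_ptBase (q := p.map g) a]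
      simp)
  let β := facMap b (f.map (pullHom q.obj q.lies (ptBase (q := q.map f) b)))
    (eqToHom (((f.w_obj _).trans (pull_base q.obj q.lies _)).trans r.lies.symm)) (by
      rw [map_w, map_pullHom, map_eq_ptBase (q := q.map f) b]
      simp)
  haveI : IsIso α := isIso_of_vert _ (map_facMap _ _ _ _)
  haveI : IsIso β := isIso_of_vert _ (map_facMap _ _ _ _)
  let w : (FibCat.fp g f).obj := fpMk p'.obj q'.obj (q'.lies.trans p'.lies.symm)
    (asIso α ≪≫ (asIso β).symm) (by simp [α, β])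
  let W : FPt (FibCat.fp g f) := { K := r.K, str := r.str, obj := w, lies := p'.lies }
  exact ⟨Points.mk W, Points.sound ⟨p', 𝟙 _, pullHom p.obj p.lies _, trivial⟩,
    Points.sound ⟨q', 𝟙 _, pullHom q.obj q.lies _, trivial⟩⟩

theorem isSurjective_fpFst (g : 𝒵 ⥤ᵇ 𝒴) {f : 𝒳 ⥤ᵇ 𝒴} (hf : AlgSt.IsSurjective f) :
    AlgSt.IsSurjective (FibCat.fpFst g f) := fun z =>
  let ⟨x, hx⟩ := hf (Points.map g z)
  let ⟨w, hw, _⟩ := points_surjective_fp g f z x hx.symm
  ⟨w, hw⟩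

theorem injective_map_of_full (f : 𝒳 ⥤ᵇ 𝒴) [f.toFunctor.Full] : Function.Injective (Points.map f) := by
  intro x y e
  obtain ⟨p, rfl⟩ := Points.mk_surjective x
  obtain ⟨q, rfl⟩ := Points.mk_surjective y
  obtain ⟨r, a, b, -⟩ := mk_eq_mk_iff.1 (show Points.mk (p.map f) = Points.mk (q.map f) from e)
  let α := facMap a (f.map (pullHom p.obj p.lies (ptBase (q := p.map f) a)))
    (eqToHom (((f.w_obj _).trans (pull_base p.obj p.lies _)).trans r.lies.symm)) (by
      rw [map_w, map_pullHom, map_eq_ptBase (q := p.map f) a]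
      simp)
  exact Points.sound ⟨pullPt p (ptBase (q := p.map f) a), pullHom p.obj p.lies _,
    f.toFunctor.preimage (α ≫ b), trivial⟩

/-- Two points over one spectrum with a vertical identification of their images acquire an
identification after an extension. -/
def LiftsIso (f : 𝒳 ⥤ᵇ 𝒴) : Prop :=
  ∀ (p q : FPt 𝒳) (e : 𝒳.p.obj q.obj = 𝒳.p.obj p.obj) (γ : f.obj p.obj ⟶ f.obj q.obj),
    𝒴.p.map γ = eqToHom ((f.w_obj p.obj).trans (e.symm.trans (f.w_obj q.obj).symm)) →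
    ∃ (r : FPt 𝒳) (a : r.obj ⟶ p.obj) (b : r.obj ⟶ q.obj),
      𝒳.p.map b = 𝒳.p.map a ≫ eqToHom e.symm ∧ f.map b = f.map a ≫ γ

theorem liftsIso_of_surjective_diag {f : 𝒳 ⥤ᵇ 𝒴} (h : AlgSt.IsSurjective (FibCat.diag f)) :
    LiftsIso f := by
  intro p q e γ hγ
  haveI : FibCat.IsFibGrpd (FibCat.fp f f).p := isFibGrpd_fp
  haveI := isIso_of_vert γ hγ
  let w : FPt (FibCat.fp f f) :=
    { K := p.K, str := p.str, obj := fpMk p.obj q.obj e (asIso γ) hγ, lies := p.lies }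
  obtain ⟨x, hx⟩ := h (Points.mk w)
  obtain ⟨s, rfl⟩ := Points.mk_surjective x
  obtain ⟨r, m, n, -⟩ := mk_eq_mk_iff.1 (show Points.mk (s.map (FibCat.diag f)) = Points.mk w from hx)
  have h1 := fp_map_snd m
  let v := facMap m.hom.snd m.hom.fst (eqToHom (fp_snd_base r.obj).symm) (by
    rw [h1]; simp)
  have hv : 𝒳.p.map v = eqToHom (fp_snd_base r.obj).symm := map_facMap _ _ _ _
  have e1 : f.map v = r.obj.obj.iso.hom := by
    refine hom_ext (f.map m.hom.snd) ?_ ?_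
    · rw [map_w, hv, fp_iso_map]; simp
    · rw [← f.map_comp, facMap_comp]
      exact (Category.comp_id _).symm.trans (m.hom.w.trans rfl)
  refine ⟨{ K := r.K, str := r.str, obj := r.obj.obj.fst, lies := r.lies }, n.hom.fst, v ≫ n.hom.snd, ?_, ?_⟩
  · rw [Functor.map_comp, hv, fp_map_snd]
    simp
  · rw [f.map_comp, e1]
    exact n.hom.w.symm

theorem surjective_diag_of_liftsIso {f : 𝒳 ⥤ᵇ 𝒴} (h : LiftsIso f) : AlgSt.IsSurjective (FibCat.diag f) := by
  intro z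
  haveI : FibCat.IsFibGrpd (FibCat.fp f f).p := isFibGrpd_fp
  obtain ⟨w, rfl⟩ := Points.mk_surjective z
  let p : FPt 𝒳 := { K := w.K, str := w.str, obj := w.obj.obj.fst, lies := w.lies }
  let q : FPt 𝒳 := { K := w.K, str := w.str, obj := w.obj.obj.snd, lies := (fp_snd_base w.obj).trans w.lies }
  obtain ⟨r, a, b, hb, hab⟩ := h p q (fp_snd_base w.obj) w.obj.obj.iso.hom (fp_iso_map w.obj)
  refine ⟨Points.mk r, Points.sound ⟨r.map (FibCat.diag f), 𝟙 _, fpHomMk a b ?_, trivial⟩⟩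
  exact hab.symm.trans (Category.id_comp (f.map b)).symm

theorem injective_fpFst_of_liftsIso {f : 𝒳 ⥤ᵇ 𝒴} (h : LiftsIso f) (g : 𝒵 ⥤ᵇ 𝒴) :
    Function.Injective (Points.map (FibCat.fpFst g f)) := by
  haveI : FibCat.IsFibGrpd (FibCat.fp g f).p := isFibGrpd_fp
  intro x y e
  obtain ⟨u, rfl⟩ := Points.mk_surjective x
  obtain ⟨v, rfl⟩ := Points.mk_surjective y
  obtain ⟨r, a, b, -⟩ := mk_eq_mk_iff.1 (show Points.mk (u.map (FibCat.fpFst g f)) = Points.mk (v.map (FibCat.fpFst g f)) from e)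
  let u' := pullPt u (ptBase (q := u.map (FibCat.fpFst g f)) a)
  let v' := pullPt v (ptBase (q := v.map (FibCat.fpFst g f)) b)
  let α := facMap a (pullHom u.obj u.lies (ptBase (q := u.map (FibCat.fpFst g f)) a)).hom.fst
    (eqToHom ((pull_base u.obj u.lies _).trans r.lies.symm)) (by
      refine Eq.trans ?_ (map_pullHom u.obj u.lies _).symm
      rw [map_eq_ptBase (q := u.map (FibCat.fpFst g f)) a]
      simp)
  let β := facMap b (pullHom v.obj v.lies (ptBase (q := v.map (FibCat.fpFst g f)) b)).hom.fst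
    (eqToHom ((pull_base v.obj v.lies _).trans r.lies.symm)) (by
      refine Eq.trans ?_ (map_pullHom v.obj v.lies _).symm
      rw [map_eq_ptBase (q := v.map (FibCat.fpFst g f)) b]
      simp)
  have hα : 𝒵.p.map α = eqToHom _ := map_facMap _ _ _ _
  have hβ : 𝒵.p.map β = eqToHom _ := map_facMap _ _ _ _
  haveI : IsIso α := isIso_of_vert _ hα
  haveI : IsIso β := isIso_of_vert _ hβ
  let p : FPt 𝒳 := { K := r.K, str := r.str, obj := u'.obj.obj.snd, lies := (fp_snd_base u'.obj).trans u'.lies }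
  let q : FPt 𝒳 := { K := r.K, str := r.str, obj := v'.obj.obj.snd, lies := (fp_snd_base v'.obj).trans v'.lies }
  obtain ⟨r', a', b', hb', hab'⟩ := h p q (q.lies.trans p.lies.symm)
    (u'.obj.obj.iso.inv ≫ g.map (α ≫ inv β) ≫ v'.obj.obj.iso.hom) (by
      have h1 : 𝒴.p.map u'.obj.obj.iso.inv =
          eqToHom ((f.w_obj _).trans ((fp_snd_base u'.obj).trans (g.w_obj _).symm)) := by
        rw [← cancel_epi (𝒴.p.map u'.obj.obj.iso.hom), ← Functor.map_comp]
        simp [fp_iso_map]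
      simp [h1, hα, hβ, map_w, fp_iso_map])
  let u'' : (FibCat.fp g f).obj := pull u'.obj u'.lies (ptBase (q := p) a')
  let π := pullHom u'.obj u'.lies (ptBase (q := p) a')
  let γ := facMap a' π.hom.snd (eqToHom ((fp_snd_base u'').trans ((pull_base u'.obj u'.lies _).trans r'.lies.symm))) (by
    rw [fp_map_snd, show 𝒵.p.map π.hom.fst = _ from map_pullHom u'.obj u'.lies _, map_eq_ptBase (q := p) a']
    simp)
  have hγ : 𝒳.p.map γ = eqToHom _ := map_facMap _ _ _ _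
  refine Points.sound ⟨pullPt u' (ptBase (q := p) a'), π ≫ pullHom u.obj u.lies _,
    fpHomMk (π.hom.fst ≫ α ≫ inv β) (γ ≫ b') ?_ ≫ pullHom v.obj v.lies _, trivial⟩
  change g.map (π.hom.fst ≫ α ≫ inv β) ≫ v'.obj.obj.iso.hom = u''.obj.iso.hom ≫ f.map (γ ≫ b')
  rw [f.map_comp, hab', ← Category.assoc (f.map γ), ← f.map_comp, facMap_comp, ← Category.assoc u''.obj.iso.hom,
    ← π.hom.w, g.map_comp]
  simp

theorem liftsIso_comp {f : 𝒳 ⥤ᵇ 𝒴} {g : 𝒴 ⥤ᵇ 𝒵} (hf : LiftsIso f) (hg : LiftsIso g) :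
    LiftsIso (BasedFunctor.comp f g) := by
  intro p q e γ hγ
  obtain ⟨r, a, b, hb, hab⟩ := hg (p.map f) (q.map f) ((f.w_obj q.obj).trans (e.trans (f.w_obj p.obj).symm)) γ hγ
  let p' := pullPt p (ptBase (q := p.map f) a)
  let α := facMap a (f.map (pullHom p.obj p.lies (ptBase (q := p.map f) a)))
    (eqToHom (((f.w_obj _).trans (pull_base p.obj p.lies _)).trans r.lies.symm)) (by
      rw [map_w, map_pullHom, map_eq_ptBase (q := p.map f) a]
      simp)
  have hα : 𝒴.p.map α = eqToHom _ := map_facMap _ _ _ _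
  let kq : Over.mk r.str ⟶ Over.mk q.str := ptBase (q := q.map f) b
  let q' := pullPt q kq
  let β := facMap (f.map (pullHom q.obj q.lies kq)) b
    (eqToHom (r.lies.trans (((f.w_obj _).trans (pull_base q.obj q.lies _)).symm))) (by
      rw [map_w, map_pullHom, map_eq_ptBase (q := q.map f) b]
      simp [kq])
  have hβ : 𝒴.p.map β = eqToHom _ := map_facMap _ _ _ _
  obtain ⟨s, c, d, hd, hcd⟩ := hf p' q' (q'.lies.trans p'.lies.symm) (α ≫ β) (by simp [hα, hβ])
  refine ⟨s, c ≫ pullHom p.obj p.lies _, d ≫ pullHom q.obj q.lies kq, ?_, ?_⟩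
  · have hk : kq = ptBase (q := p.map f) a ≫ eqToHom (p.lies.symm.trans (e.symm.trans q.lies)) := by
      have h1 : 𝒴.p.map b = 𝒴.p.map a ≫ eqToHom ((f.w_obj p.obj).trans (e.symm.trans (f.w_obj q.obj).symm)) := hb
      change eqToHom r.lies.symm ≫ 𝒴.p.map b ≫ eqToHom (q.map f).lies = _
      rw [h1]
      simp [ptBase]
    have hk' : ∀ {X Y : Over S} (e₁ : X = Over.mk r.str) (e₂ : Over.mk q.str = Y),
        eqToHom e₁ ≫ kq ≫ eqToHom e₂ =
          eqToHom e₁ ≫ ptBase (q := p.map f) a ≫ eqToHom ((p.lies.symm.trans (e.symm.trans q.lies)).trans e₂) :=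
      fun e₁ e₂ => by subst e₁ e₂; simp [hk]
    rw [Functor.map_comp, hd, Functor.map_comp, map_pullHom, map_pullHom, hk']
    simp
  · change g.map (f.map (d ≫ pullHom q.obj q.lies kq)) = g.map (f.map (c ≫ pullHom p.obj p.lies _)) ≫ γ
    rw [f.map_comp, hcd, f.map_comp, Category.assoc, Category.assoc, facMap_comp, g.map_comp, g.map_comp, hab]
    rw [← Category.assoc (g.map α), ← g.map_comp, facMap_comp, g.map_comp, Category.assoc]

theorem surjective_diag_of_injective {f : 𝒳 ⥤ᵇ 𝒴} (h : Function.Injective (Points.map (FibCat.fpFst f f))) :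
    AlgSt.IsSurjective (FibCat.diag f) := by
  intro z
  haveI : FibCat.IsFibGrpd (FibCat.fp f f).p := isFibGrpd_fp
  obtain ⟨w, rfl⟩ := Points.mk_surjective z
  let p : FPt 𝒳 := { K := w.K, str := w.str, obj := w.obj.obj.fst, lies := w.lies }
  exact ⟨Points.mk p, h (show Points.mk (p.map (BasedFunctor.comp (FibCat.diag f) (FibCat.fpFst f f))) =
    Points.mk (w.map (FibCat.fpFst f f)) from rfl)⟩

theorem liftsIso_fpFst (g : 𝒵 ⥤ᵇ 𝒴) {f : 𝒳 ⥤ᵇ 𝒴} (h : LiftsIso f) : LiftsIso (FibCat.fpFst g f) := by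
  intro p q e γ hγ
  haveI : FibCat.IsFibGrpd (FibCat.fp g f).p := isFibGrpd_fp
  have hv : 𝒵.p.map γ = eqToHom e.symm := hγ
  haveI := isIso_of_vert γ hv
  let x : FPt 𝒳 := { K := p.K, str := p.str, obj := p.obj.obj.snd, lies := (fp_snd_base p.obj).trans p.lies }
  let y : FPt 𝒳 := { K := q.K, str := q.str, obj := q.obj.obj.snd, lies := (fp_snd_base q.obj).trans q.lies }
  have h1 : 𝒴.p.map p.obj.obj.iso.inv =
      eqToHom ((f.w_obj _).trans ((fp_snd_base p.obj).trans (g.w_obj _).symm)) := by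
    rw [← cancel_epi (𝒴.p.map p.obj.obj.iso.hom), ← Functor.map_comp]
    simp [fp_iso_map]
  obtain ⟨r, a, b, hb, hab⟩ := h x y ((fp_snd_base q.obj).trans (e.trans (fp_snd_base p.obj).symm))
    (p.obj.obj.iso.inv ≫ g.map γ ≫ q.obj.obj.iso.hom) (by simp [h1, hv, map_w, fp_iso_map])
  let k : Over.mk r.str ⟶ Over.mk p.str := ptBase (q := x) a
  let p' := pullPt p k
  let π := pullHom p.obj p.lies k
  let δ := facMap a π.hom.snd (eqToHom ((fp_snd_base p'.obj).trans (p'.lies.trans r.lies.symm))) (by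
    rw [fp_map_snd, show 𝒵.p.map π.hom.fst = _ from map_pullHom p.obj p.lies k, map_eq_ptBase (q := x) a]
    simp [k])
  refine ⟨p', π, fpHomMk (π.hom.fst ≫ γ) (δ ≫ b) ?_, ?_, rfl⟩
  · rw [f.map_comp, hab, ← Category.assoc (f.map δ), ← f.map_comp, facMap_comp, ← Category.assoc p'.obj.obj.iso.hom]
    refine Eq.trans ?_ (congrArg (fun m => m ≫ p.obj.obj.iso.inv ≫ g.map γ ≫ q.obj.obj.iso.hom) π.hom.w)
    rw [g.map_comp]
    simp
  · change 𝒵.p.map (π.hom.fst ≫ γ) = 𝒵.p.map π.hom.fst ≫ eqToHom e.symm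
    rw [Functor.map_comp, hv]

end Groth.Agent.ASt
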