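import Groth.Agent.ASt.StkAlg
import Groth.Agent.ASp.Univ
/-!
Properties of representable morphisms read on points.
-/

set_option backward.isDefEq.respectTransparency false
set_option backward.isDefEq.respectTransparency.types false
set_option linter.unusedSectionVars false

universe u

open CategoryTheory CategoryTheory.Limits AlgebraicGeometry Opposite Topology

namespace Groth.Agent.ASt

open _root_.AlgSp Groth.Agent.ASp

variable {S : Scheme.{u}} {𝒳 𝒴 𝒵 : AlgSt.Cat S} [h𝒳 : FibCat.IsFibGrpd 𝒳.p] [h𝒴 : FibCat.IsFibGrpd 𝒴.p]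
  [h𝒵 : FibCat.IsFibGrpd 𝒵.p]

theorem map_congr {f g : 𝒳 ⥤ᵇ 𝒴} (α : f ≅ g) (z : AlgSt.Points 𝒳) :
    AlgSt.Points.map f z = AlgSt.Points.map g z := by
  obtain ⟨p, rfl⟩ := AlgSt.Points.mk_surjective z
  exact AlgSt.Points.sound ⟨p.map f, 𝟙 _, α.hom.toNatTrans.app p.obj, trivial⟩

theorem map_map (f : 𝒳 ⥤ᵇ 𝒴) (g : 𝒴 ⥤ᵇ 𝒵) (z : AlgSt.Points 𝒳) :
    AlgSt.Points.map g (AlgSt.Points.map f z) = AlgSt.Points.map (BasedFunctor.comp f g) z := by
  obtain ⟨p, rfl⟩ := AlgSt.Points.mk_surjective z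
  rfl

theorem points_fp_comm (g : 𝒵 ⥤ᵇ 𝒴) (f : 𝒳 ⥤ᵇ 𝒴) (z : AlgSt.Points (FibCat.fp g f)) :
    AlgSt.Points.map g (AlgSt.Points.map (FibCat.fpFst g f) z) =
      AlgSt.Points.map f (AlgSt.Points.map (FibCat.fpSnd g f) z) := by
  rw [map_map, map_map, map_congr (FibCat.fpIso g f)]

theorem preimage_image_fp (g : 𝒵 ⥤ᵇ 𝒴) (f : 𝒳 ⥤ᵇ 𝒴) (O : Set (AlgSt.Points 𝒳)) :
    AlgSt.Points.map g ⁻¹' (AlgSt.Points.map f '' O) =
      AlgSt.Points.map (FibCat.fpFst g f) '' (AlgSt.Points.map (FibCat.fpSnd g f) ⁻¹' O) := by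
  ext z
  constructor
  · rintro ⟨x, hx, e⟩
    obtain ⟨w, hw₁, hw₂⟩ := points_surjective_fp g f z x e.symm
    exact ⟨w, show _ ∈ O by rwa [hw₂], hw₁⟩
  · rintro ⟨w, hw, rfl⟩
    exact ⟨_, hw, (points_fp_comm g f w).symm⟩

/-- The underlying space of a scheme and the points of its slice. -/
noncomputable def schemePts (V : Over S) : ↥V.left ≃ₜ AlgSt.Points (FibCat.overCat V) :=
  have h1 : AlgSt.RepByAlgSpWith (LocP @Smooth) (BasedFunctor.id (FibCat.overCat V)) :=
    repByAlgSpWith_id fun U => by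
      rw [← (yon S).map_id]
      exact locP_of_repWith (repWith_yon_map (inferInstanceAs (Smooth (𝟙 U.left))))
  have h2 : AlgSt.RepByAlgSpWith IsSurjectiveMor (BasedFunctor.id (FibCat.overCat V)) :=
    repByAlgSpWith_id fun U => by
      rw [← (yon S).map_id]
      exact surjective_map_of_repWith (repWith_yon_map (inferInstanceAs (Surjective (𝟙 U.left))))
  (Equiv.ofBijective _ ⟨injective_ofChart_id V, surjective_ofChart_id V⟩).toHomeomorphOfContinuousOpen
    (continuous_ofChart h1 h2 _) (isOpenMap_ofChart_of_smooth h1)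

theorem schemePts_apply (V : Over S) (t : ↥V.left) :
    schemePts V t = AlgSt.Points.ofChart (BasedFunctor.id (FibCat.overCat V)) t := rfl

theorem map_schemePts {V : Over S} (x : FibCat.overCat V ⥤ᵇ 𝒳) (t : ↥V.left) :
    AlgSt.Points.map x (schemePts V t) = AlgSt.Points.ofChart x t :=
  (ofChart_comp (BasedFunctor.id (FibCat.overCat V)) x t).symm

/-- The points of the space presenting a fibre of a representable morphism. -/
theorem exists_fibHomeo {f : 𝒳 ⥤ᵇ 𝒴} (hf : AlgSt.RepByAlgSp1 f) {V : Over S}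
    (y : FibCat.overCat V ⥤ᵇ 𝒴) :
    ∃ (hs : Presheaf.IsSheaf (J S) (fib y f)) (_ : IsAlgSpace (⟨fib y f, hs⟩ : Sp S))
      (Φ : AlgSt.Points (FibCat.fp y f) ≃ₜ Points (⟨fib y f, hs⟩ : Sp S)),
      ∀ z, Points.map (ObjectProperty.homMk (fibπ y f) : (⟨fib y f, hs⟩ : Sp S) ⟶ (yon S).obj V) (Φ z) =
        Points.schemeHomeo V ((schemePts V).symm (AlgSt.Points.map (FibCat.fpFst y f) z)) := by
  haveI hg : FibCat.IsFibGrpd (FibCat.fp y f).p := isFibGrpd_fp
  haveI := faithful_of_repByAlgSp1 hf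
  haveI : (FibCat.fp y f).p.Faithful := faithful_fp
  obtain ⟨hs, hA, U, p, E, h, hpe, hps, hcomp, ⟨α⟩, hsec, hE⟩ := exists_chart_of_fib hf y
  have hEs : AlgSt.RepByAlgSpWith (LocP @Smooth) E :=
    hE (P := LocP @Smooth) hpe fun v hv => locP_of_repWith (repWith_yon_map
      (haveI : Etale v.left := hv; inferInstance))
  have hEsurj : Function.Surjective (AlgSt.Points.ofChart E) :=
    surjective_chart (hE (P := IsSurjectiveMor) hps fun v hv => surjective_map_of_repWith (repWith_yon_map hv))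
  have hkey : ∀ u u', AlgSt.Points.ofChart E u = AlgSt.Points.ofChart E u' ↔ Points.ofPt p u = Points.ofPt p u' := by
    intro u u'
    constructor
    · intro e
      obtain ⟨r, a, b, -⟩ := mk_eq_mk_iff.1 e
      refine AlgSp.Points.sound ⟨r.K, inferInstance, r.str,
        eqToHom r.lies.symm ≫ (FibCat.fp y f).p.map a ≫ eqToHom (E.w_obj (ov (rHom U u))),
        eqToHom r.lies.symm ≫ (FibCat.fp y f).p.map b ≫ eqToHom (E.w_obj (ov (rHom U u'))), ?_⟩
      change clMap _ (p.hom.app (op (rPt U u)) ⟨rHom U u⟩) = clMap _ (p.hom.app (op (rPt U u')) ⟨rHom U u'⟩)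
      rw [hsec (rHom U u), hsec (rHom U u'), clMap_cl _ a r.lies _ (by simp),
        clMap_cl _ b r.lies _ (by simp)]
    · intro e
      obtain ⟨Ω, _, w, a, b, hab⟩ := AlgSp.Points.mk_eq_mk_iff.1
        (show AlgSp.Points.mk (AlgSp.FieldPt.ofPt p u) = AlgSp.Points.mk (AlgSp.FieldPt.ofPt p u') from e)
      let k : Over.mk w ⟶ U := a ≫ rHom U u
      let k' : Over.mk w ⟶ U := b ≫ rHom U u'
      have hcl : cl (E.obj (ov k)) ((E.w_obj (ov k)).trans (ov_base k)) =
          cl (E.obj (ov k')) ((E.w_obj (ov k')).trans (ov_base k')) := by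
        rw [← hsec k, ← hsec k']
        exact (NatTrans.naturality_apply p.hom a.op ⟨rHom U u⟩).trans
          (hab.trans (NatTrans.naturality_apply p.hom b.op ⟨rHom U u'⟩).symm)
      obtain ⟨v, hv⟩ := cl_eq_iff.1 hcl
      let r : AlgSt.FPt (FibCat.fp y f) :=
        { K := Ω, str := w, obj := E.obj (ov k), lies := (E.w_obj (ov k)).trans (ov_base k) }
      exact AlgSt.Points.sound ⟨r, E.map (ovHom a rfl : ov k ⟶ ov (rHom U u)),
        v ≫ E.map (ovHom b rfl : ov k' ⟶ ov (rHom U u')), trivial⟩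
  let φ : AlgSt.Points (FibCat.fp y f) → Points (⟨fib y f, hs⟩ : Sp S) :=
    fun z => Points.ofPt p (Function.surjInv hEsurj z)
  have hφ : ∀ u, φ (AlgSt.Points.ofChart E u) = Points.ofPt p u := fun u =>
    (hkey _ _).1 (Function.surjInv_eq hEsurj _)
  have hbij : Function.Bijective φ := by
    refine ⟨fun z z' e => ?_, fun w => ?_⟩
    · obtain ⟨u, rfl⟩ := hEsurj z
      obtain ⟨u', rfl⟩ := hEsurj z'
      rw [hφ, hφ] at e
      exact (hkey _ _).2 e
    · obtain ⟨u, rfl⟩ := surjective_ofPt hps w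
      exact ⟨_, hφ u⟩
  have hcont : Continuous φ := continuous_def.2 fun O hO => by
    rw [← Set.image_preimage_eq (φ ⁻¹' O) hEsurj]
    refine isOpenMap_ofChart_of_smooth hEs _ ?_
    rw [show AlgSt.Points.ofChart E ⁻¹' (φ ⁻¹' O) = Points.ofPt p ⁻¹' O from Set.ext fun u => by simp [hφ]]
    exact hO.preimage (Points.continuous_ofPt p)
  have hopen : IsOpenMap φ := fun O hO => by
    rw [← Set.image_preimage_eq O hEsurj, Set.image_image]
    simp only [hφ]
    exact isOpenMap_ofPt_of_etale hpe _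
      (hO U E hEs)
  refine ⟨hs, hA, (Equiv.ofBijective φ hbij).toHomeomorphOfContinuousOpen hcont hopen, fun z => ?_⟩
  obtain ⟨u, rfl⟩ := hEsurj z
  change Points.map _ (φ _) = _
  rw [hφ, Points.map_ofPt, hcomp, ← Category.comp_id ((yon S).map h), ofPt_yon_map_comp, ← ofChart_comp,
    ofChart_congr α, show AlgSt.overMap h = BasedFunctor.comp (AlgSt.overMap h) (BasedFunctor.id _) from rfl,
    ofChart_overMap, ← schemePts_apply, Homeomorph.symm_apply_apply]
  rfl

/-- A property of maps of spaces which does not see homeomorphisms and descends along open surjections. -/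
structure IsTopProp (P : ∀ {A B : Type (u + 1)} [TopologicalSpace A] [TopologicalSpace B], (A → B) → Prop) : Prop where
  conj : ∀ {A B A' B' : Type (u + 1)} [TopologicalSpace A] [TopologicalSpace B] [TopologicalSpace A']
    [TopologicalSpace B'] (e : A' ≃ₜ A) (e' : B ≃ₜ B') (f : A → B), P f → P (e' ∘ f ∘ e)
  desc : ∀ {A B A' B' : Type (u + 1)} [TopologicalSpace A] [TopologicalSpace B] [TopologicalSpace A']
    [TopologicalSpace B'] (a : A' → A) (b : B' → B) (k : A → B) (k' : A' → B'),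
    Continuous a → Continuous b → IsOpenMap b → Function.Surjective b → Continuous k →
    (∀ O : Set A, b ⁻¹' (k '' O) = k' '' (a ⁻¹' O)) → (∀ x, b (k' x) = k (a x)) →
    (∀ x w, b w = k x → ∃ x', k' x' = w ∧ a x' = x) → P k' → P k
  fpqc : ∀ {Z Z' W W' : Sp S} {q : W ⟶ Z} {snd : Z' ⟶ Z} {c : W' ⟶ Z'} {r : W' ⟶ W},
    IsFpqcCover (fun _ : PUnit.{u + 1} => W) (fun _ => q) → IsPullback c r snd q →
    P (Points.map r) → P (Points.map snd)

theorem isTopProp_isOpenMap : IsTopProp (S := S) (fun {_ _} _ _ f => IsOpenMap f) where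
  conj e e' f h := e'.isOpenMap.comp (h.comp e.isOpenMap)
  desc a b k k' ha _ hbo hbs _ hpre _ _ h O hO := by
    rw [← Set.image_preimage_eq (k '' O) hbs, hpre]
    exact hbo _ (h _ (hO.preimage ha))
  fpqc hτ sq h := isOpenMap_of_fpqc hτ (fun _ => sq) fun _ => h

theorem isTopProp_isClosedMap : IsTopProp (S := S) (fun {_ _} _ _ f => IsClosedMap f) where
  conj e e' f h := e'.isClosedMap.comp (h.comp e.isClosedMap)
  desc a b k k' ha _ hbo hbs _ hpre _ _ h O hO := by
    rw [← isOpen_compl_iff, ← Set.image_preimage_eq (k '' O)ᶜ hbs, Set.preimage_compl, hpre]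
    exact hbo _ (h _ (hO.preimage ha)).isOpen_compl
  fpqc hτ sq h := isClosedMap_of_fpqc hτ (fun _ => sq) fun _ => h

theorem isTopProp_injective : IsTopProp (S := S) (fun {_ _} _ _ f => Function.Injective f) where
  conj e e' f h := e'.injective.comp (h.comp e.injective)
  desc a b k k' _ _ _ hbs _ _ _ hcart h := fun x x' e => by
    obtain ⟨w, hw⟩ := hbs (k x)
    obtain ⟨z, hz, rfl⟩ := hcart x w hw
    obtain ⟨z', hz', rfl⟩ := hcart x' w (hw.trans e)
    rw [h (hz.trans hz'.symm)]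
  fpqc hτ sq h := injective_of_fpqc hτ (fun _ => sq) fun _ => h

theorem isTopProp_isQuotientMap : IsTopProp (S := S) (fun {_ _} _ _ f => IsQuotientMap f) where
  conj e e' f h := e'.isQuotientMap.comp (h.comp e.isQuotientMap)
  desc a b k k' ha hb hbo hbs hk hpre hcomm _ h := by
    refine (isQuotientMap_iff _).2 ⟨isCoinducing_iff.2 fun O => ⟨fun hO => ?_, fun hO => hO.preimage hk⟩,
      fun x => ?_⟩
    · rw [← Set.image_preimage_eq O hbs]
      refine hbo _ (h.isOpen_preimage.1 ?_)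
      rw [show k' ⁻¹' (b ⁻¹' O) = a ⁻¹' (k ⁻¹' O) from Set.ext fun x => by simp [hcomm]]
      exact hO.preimage ha
    · obtain ⟨w, rfl⟩ := hbs x
      obtain ⟨x', rfl⟩ := h.surjective w
      exact ⟨a x', (hcomm x').symm⟩
  fpqc hτ sq h := isQuotientMap_of_fpqc hτ (fun _ => sq) fun _ => h

theorem isTopProp_isHomeomorph : IsTopProp (S := S) (fun {_ _} _ _ f => IsHomeomorph f) where
  conj e e' f h := e'.isHomeomorph.comp (h.comp e.isHomeomorph)
  desc a b k k' ha hb hbo hbs hk hpre hcomm hcart h :=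
    ⟨hk, (isTopProp_isOpenMap (S := S)).desc a b k k' ha hb hbo hbs hk hpre hcomm hcart h.isOpenMap,
      (isTopProp_injective (S := S)).desc a b k k' ha hb hbo hbs hk hpre hcomm hcart h.injective,
      fun x => by
        obtain ⟨w, rfl⟩ := hbs x
        obtain ⟨x', rfl⟩ := h.surjective w
        exact ⟨a x', (hcomm x').symm⟩⟩
  fpqc hτ sq h := isHomeomorph_of_fpqc hτ (fun _ => sq) fun _ => h

variable {P : ∀ {A B : Type (u + 1)} [TopologicalSpace A] [TopologicalSpace B], (A → B) → Prop}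

/-- Universal topological properties of a representable morphism are read on the points of its base
changes to algebraic stacks. -/
theorem repByAlgSpWith_univSp_iff (hP : IsTopProp (S := S) P) [MorphismProperty.RespectsIso
      (UnivSp (S := S) fun _ _ f => P (Points.map f))]
    {f : 𝒳 ⥤ᵇ 𝒴} (hf : AlgSt.RepByAlgSp1 f) :
    AlgSt.RepByAlgSpWith (UnivSp fun _ _ f => P (Points.map f)) f ↔
      ∀ (𝒵 : AlgSt.Cat S), AlgSt.IsAlgStack Scheme.fppfPrecoverage 𝒵 → ∀ (g : 𝒵 ⥤ᵇ 𝒴),
        P (AlgSt.Points.map (FibCat.fpFst g f)) := by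
  constructor
  · intro h 𝒵 hZ g
    haveI := hZ.isStack.1
    haveI : FibCat.IsFibGrpd (FibCat.fp g f).p := isFibGrpd_fp
    obtain ⟨W, a, ha, has⟩ := hZ.atlas
    haveI : FibCat.IsFibGrpd (FibCat.fp a (FibCat.fpFst g f)).p := isFibGrpd_fp
    obtain ⟨hs, hA, Φ, hΦ⟩ := exists_fibHomeo (repByAlgSp1_fpFst g hf) a
    obtain ⟨_, _, hu⟩ := (repByAlgSpWith_iff.1 (repByAlgSpWith_fpFst (g := g) h)).2 W a
    have hbase : P (AlgSt.Points.map (FibCat.fpFst a (FibCat.fpFst g f))) := by
      have h1 : P (Points.map (ObjectProperty.homMk (fibπ a (FibCat.fpFst g f)) : (⟨fib a (FibCat.fpFst g f), hs⟩ : Sp S) ⟶ (yon S).obj W)) :=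
        hu (IsAlgSpace.yon_obj W) (𝟙 _) (𝟙 _) _ (IsPullback.of_horiz_isIso ⟨by simp⟩)
      have h2 := hP.conj Φ ((Points.schemeHomeo W).symm.trans (schemePts W)) _ h1
      rwa [show ((Points.schemeHomeo W).symm.trans (schemePts W) : Points ((yon S).obj W) → _) ∘
          Points.map (ObjectProperty.homMk (fibπ a (FibCat.fpFst g f)) : (⟨fib a (FibCat.fpFst g f), hs⟩ : Sp S) ⟶ (yon S).obj W) ∘ Φ =
        AlgSt.Points.map (FibCat.fpFst a (FibCat.fpFst g f)) from funext fun z => by simp [hΦ]] at h2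
    have hbs : Function.Surjective (AlgSt.Points.map a) := isSurjective_of_repByAlgSpWith has
    have hbo : IsOpenMap (AlgSt.Points.map a) := by
      rw [show AlgSt.Points.map a = AlgSt.Points.ofChart a ∘ (schemePts W).symm from funext fun z => by
        simp [← map_schemePts]]
      exact (isOpenMap_ofChart_of_smooth ha).comp (schemePts W).symm.isOpenMap
    obtain ⟨V, c, hc, hcs⟩ := hasAtlas_fp_of_repByAlgSp1 hZ.atlas g hf
    obtain ⟨W', a₀, ha₀, has₀⟩ := id hZ.atlas
    exact hP.desc (AlgSt.Points.map (FibCat.fpSnd a (FibCat.fpFst g f))) (AlgSt.Points.map a) _ _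
      (continuous_map hc hcs _) (continuous_map ha has a) hbo hbs (continuous_map ha₀ has₀ (FibCat.fpFst g f))
      (preimage_image_fp a (FibCat.fpFst g f)) (points_fp_comm a (FibCat.fpFst g f))
      (fun x w e => points_surjective_fp a (FibCat.fpFst g f) w x e) hbase
  · intro h
    refine repByAlgSpWith_iff.2 ⟨faithful_of_repByAlgSp1 hf, fun V y => ?_⟩
    obtain ⟨hs, hA⟩ := (repByAlgSp1_iff.1 hf).2 V y
    refine ⟨hs, hA, fun Z Z' hZ g fst snd sq => ?_⟩
    obtain ⟨W, q, hqe, hqs⟩ := hZ.atlas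
    obtain ⟨k, hk⟩ := (yon S).map_surjective (q ≫ g)
    obtain ⟨hs', hA', Φ, hΦ⟩ := exists_fibHomeo hf (BasedFunctor.comp (AlgSt.overMap k) y)
    have sqF : IsPullback
        (ObjectProperty.homMk (clFun (restrF k y f)) :
          (⟨fib (BasedFunctor.comp (AlgSt.overMap k) y) f, hs'⟩ : Sp S) ⟶ (⟨fib y f, hs⟩ : Sp S))
        (ObjectProperty.homMk (fibπ (BasedFunctor.comp (AlgSt.overMap k) y) f))
        (ObjectProperty.homMk (fibπ y f)) ((yon S).map k) :=
      IsPullback.of_map_of_faithful (sheafToPresheaf (J S) (Type (u + 1))) (isPullback_restrF k y)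
    refine hP.fpqc (isFpqcCover_of_chart hZ hqe hqs) (c := sq.lift _ _ (by rw [sqF.w, hk, Category.assoc]))
      (IsPullback.of_right (by rw [sq.lift_fst, ← hk]; exact sqF) (sq.lift_snd _ _ _) sq) ?_
    haveI : FibCat.IsFibGrpd (FibCat.fp (BasedFunctor.comp (AlgSt.overMap k) y) f).p := isFibGrpd_fp
    have h2 := hP.conj Φ.symm ((schemePts W).symm.trans (Points.schemeHomeo W)) _
      (h _ (isAlgStack_overCat W) (BasedFunctor.comp (AlgSt.overMap k) y))
    rwa [show ((schemePts W).symm.trans (Points.schemeHomeo W) : _ → Points ((yon S).obj W)) ∘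
        AlgSt.Points.map (FibCat.fpFst (BasedFunctor.comp (AlgSt.overMap k) y) f) ∘ Φ.symm =
      Points.map (ObjectProperty.homMk (fibπ (BasedFunctor.comp (AlgSt.overMap k) y) f) :
        (⟨fib (BasedFunctor.comp (AlgSt.overMap k) y) f, hs'⟩ : Sp S) ⟶ (yon S).obj W) from
      funext fun z => by simp [← hΦ]] at h2

end Groth.Agent.ASt
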