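import Groth.Agent.ASt.Pts
import Groth.Agent.ASt.PtsMor
/-!
Identifications of points descend along surjective morphisms.
-/

set_option backward.isDefEq.respectTransparency false
set_option backward.isDefEq.respectTransparency.types false
set_option linter.unusedSectionVars false

universe u

open CategoryTheory CategoryTheory.Limits AlgebraicGeometry Opposite

namespace Groth.Agent.ASt

open AlgSt

variable {S : Scheme.{u}} {𝒳 𝒴 𝒲 : AlgSt.Cat S} [h𝒳 : FibCat.IsFibGrpd 𝒳.p] [h𝒴 : FibCat.IsFibGrpd 𝒴.p]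
  [h𝒲 : FibCat.IsFibGrpd 𝒲.p]

/-- Identifications at a point lift if they do after a base change whose image contains its image. -/
theorem exists_lift_of_mem_range (w : 𝒲 ⥤ᵇ 𝒴) {f : 𝒳 ⥤ᵇ 𝒴} (p q : FPt 𝒳)
    (hp : ∃ t, Points.map w t = Points.map f (Points.mk p))
    (h : LiftsIso (FibCat.fpFst w f)) (e : 𝒳.p.obj q.obj = 𝒳.p.obj p.obj) (γ : f.obj p.obj ⟶ f.obj q.obj)
    (hγ : 𝒴.p.map γ = eqToHom ((f.w_obj p.obj).trans (e.symm.trans (f.w_obj q.obj).symm))) :
    ∃ (r : FPt 𝒳) (a : r.obj ⟶ p.obj) (b : r.obj ⟶ q.obj),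
      𝒳.p.map b = 𝒳.p.map a ≫ eqToHom e.symm ∧ f.map b = f.map a ≫ γ := by
  haveI : FibCat.IsFibGrpd (FibCat.fp w f).p := isFibGrpd_fp
  obtain ⟨t, ht⟩ := hp
  obtain ⟨m, -, hm⟩ := points_surjective_fp w f t (Points.mk p) ht
  obtain ⟨M, rfl⟩ := Points.mk_surjective m
  obtain ⟨r, a, b, -⟩ := mk_eq_mk_iff.1 (show Points.mk (M.map (FibCat.fpSnd w f)) = Points.mk p from hm)
  let M' := pullPt M (ptBase (q := M.map (FibCat.fpSnd w f)) a)
  let π := pullHom M.obj M.lies (ptBase (q := M.map (FibCat.fpSnd w f)) a)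
  have hx : 𝒳.p.obj M'.obj.obj.snd = Over.mk r.str := (fp_snd_base M'.obj).trans M'.lies
  let v : M'.obj.obj.snd ⟶ r.obj := facMap a π.hom.snd (eqToHom (hx.trans r.lies.symm)) (by
    rw [fp_map_snd, show 𝒲.p.map π.hom.fst = _ from map_pullHom M.obj M.lies _,
      map_eq_ptBase (q := M.map (FibCat.fpSnd w f)) a]
    simp)
  have hv : 𝒳.p.map v = eqToHom _ := map_facMap _ _ _ _
  let bp : M'.obj.obj.snd ⟶ p.obj := v ≫ b
  have hbp : 𝒳.p.map bp = eqToHom hx ≫ ptBase (q := p) b ≫ eqToHom p.lies.symm := by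
    simp [bp, hv, map_eq_ptBase (q := p) b]
  let kq : Over.mk r.str ⟶ Over.mk q.str :=
    ptBase (q := p) b ≫ eqToHom (p.lies.symm.trans (e.symm.trans q.lies))
  let q' := pullPt q kq
  let bq := pullHom q.obj q.lies kq
  have hbq : 𝒳.p.map bq = eqToHom (pull_base q.obj q.lies kq) ≫ kq ≫ eqToHom q.lies.symm := map_pullHom _ _ _
  let γ' : f.obj M'.obj.obj.snd ⟶ f.obj q'.obj := facMap (f.map bq) (f.map bp ≫ γ)
    (eqToHom (((f.w_obj _).trans hx).trans ((f.w_obj _).trans q'.lies).symm)) (by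
      rw [Functor.map_comp, map_w, map_w, hbp, hbq, hγ]
      simp [kq])
  have hγ' : 𝒴.p.map γ' = eqToHom _ := map_facMap _ _ _ _
  haveI := isIso_of_vert γ' hγ'
  let z := M'.obj.obj.fst
  let Q : FPt (FibCat.fp w f) :=
    { K := r.K, str := r.str
      obj := fpMk z q'.obj (q'.lies.trans M'.lies.symm) (M'.obj.obj.iso ≪≫ asIso γ') (by
        simp [hγ', fp_iso_map, z])
      lies := M'.lies }
  obtain ⟨r', a', b', hb', hab⟩ := h M' Q rfl (𝟙 z) (𝒲.p.map_id _)
  have hfst : b'.hom.fst = a'.hom.fst := hab.trans (Category.comp_id _)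
  have key : f.map b'.hom.snd = f.map a'.hom.snd ≫ γ' := by
    have h1 := b'.hom.w
    have h2 := a'.hom.w
    change w.map b'.hom.fst ≫ (M'.obj.obj.iso.hom ≫ γ') = r'.obj.obj.iso.hom ≫ f.map b'.hom.snd at h1
    rw [hfst, ← Category.assoc, h2, Category.assoc] at h1
    exact ((cancel_epi _).1 h1).symm
  refine ⟨{ K := r'.K, str := r'.str, obj := r'.obj.obj.snd, lies := (fp_snd_base r'.obj).trans r'.lies },
    a'.hom.snd ≫ bp, b'.hom.snd ≫ bq, ?_, ?_⟩
  · have h3 : 𝒲.p.map b'.hom.fst = 𝒲.p.map a'.hom.fst := by rw [hfst]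
    rw [Functor.map_comp, Functor.map_comp, fp_map_snd, fp_map_snd, h3, hbp, hbq]
    simp [kq, Q]
  · rw [f.map_comp, key, f.map_comp, Category.assoc, Category.assoc, facMap_comp]

/-- If the base change along a surjection lifts identifications, so does the morphism. -/
theorem liftsIso_of_surjective (w : 𝒲 ⥤ᵇ 𝒴) {f : 𝒳 ⥤ᵇ 𝒴} (hs : AlgSt.IsSurjective w)
    (h : LiftsIso (FibCat.fpFst w f)) : LiftsIso f :=
  fun p q => exists_lift_of_mem_range w p q (hs _) h

/-- Lifting of identifications can be tested on spectra of fields mapped to the target. -/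
theorem liftsIso_of_forall_field {f : 𝒳 ⥤ᵇ 𝒴}
    (h : ∀ (p : FPt 𝒴) (z : FibCat.overCat (Over.mk p.str) ⥤ᵇ 𝒴), LiftsIso (FibCat.fpFst z f)) :
    LiftsIso f := fun p q => by
  let T : Over S := Over.mk p.str
  let y : FibCat.overCat T ⥤ᵇ 𝒴 := objFun (f.obj p.obj) (p.map f).lies
  let t : FPt (FibCat.overCat T) := { K := p.K, str := p.str, obj := ov (𝟙 T), lies := ov_base _ }
  exact exists_lift_of_mem_range y p q ⟨Points.mk t, Points.sound ⟨t.map y, 𝟙 _,
    pullHom (f.obj p.obj) (p.map f).lies (𝟙 T), trivial⟩⟩ (h (p.map f) y)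

end Groth.Agent.ASt
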