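import Groth.Agent.ASt.QcMor
import Groth.Agent.ASt.StQc
/-!
Quasi-compact morphisms read on spaces of points, over targets with quasi-compact diagonal.
-/

set_option backward.isDefEq.respectTransparency false
set_option backward.isDefEq.respectTransparency.types false
set_option linter.unusedSectionVars false

universe u

open CategoryTheory CategoryTheory.Limits AlgebraicGeometry Opposite Topology

namespace Groth.Agent.ASt

open _root_.AlgSp Groth.Agent.ASp

variable {S : Scheme.{u}} {𝒳 𝒴 : AlgSt.Cat S} [h𝒳 : FibCat.IsFibGrpd 𝒳.p] [h𝒴 : FibCat.IsFibGrpd 𝒴.p]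

theorem isQuasiCompactMor_of_comp' {𝒵 : AlgSt.Cat S} [FibCat.IsFibGrpd 𝒵.p]
    (hX : AlgSt.IsAlgStack Scheme.fppfPrecoverage 𝒳)
    (hY : AlgSt.IsAlgStack Scheme.fppfPrecoverage 𝒴) (hZ : AlgSt.IsAlgStack Scheme.fppfPrecoverage 𝒵)
    {f : 𝒳 ⥤ᵇ 𝒴} {g : 𝒴 ⥤ᵇ 𝒵}
    (h : AlgSt.IsQuasiCompactMor Scheme.fppfPrecoverage (BasedFunctor.comp f g))
    (hg : AlgSt.RepByAlgSpWith AlgSp.IsQuasiCompactMor (FibCat.diag g)) :
    AlgSt.IsQuasiCompactMor Scheme.fppfPrecoverage f := by
  haveI : FibCat.IsFibGrpd (FibCat.fp g (BasedFunctor.comp f g)).p := isFibGrpd_fp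
  have hP := Groth.Agent.ASt.isAlgStack_fp (isPrestack_of_isStack hZ.isStack) hZ.diag hY hX g (BasedFunctor.comp f g)
  have hd : AlgSt.RepByAlgSpWith AlgSp.IsQuasiCompactMor (graph f g) := repByAlgSpWith_graph f hg
  have h1 := (repByAlgSpWith_isQuasiCompactMor_iff hX hP (repByAlgSp1_of_with hd)).1 hd
  rw [← graph_fst f g]
  exact isQuasiCompactMor_compSt hX hP hY h1 (isQuasiCompactMor_fpFst hX hZ hY g h)

/-- An affine chart into a stack with quasi-compact diagonal is quasi-compact. -/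
theorem isQuasiCompactMor_affine_chart [QuasiSeparatedSpace S]
    (hY : AlgSt.IsAlgStack Scheme.fppfPrecoverage 𝒴)
    (hΔ : AlgSt.RepByAlgSpWith AlgSp.IsQuasiCompactMor (FibCat.diag (FibCat.toSelf 𝒴)))
    {A : Over S} [IsAffine A.left] (z : FibCat.overCat A ⥤ᵇ 𝒴) :
    AlgSt.IsQuasiCompactMor Scheme.fppfPrecoverage z := by
  refine isQuasiCompactMor_of_comp' (isAlgStack_overCat A) hY (isDM_of_repByAlgSp repByAlgSp_selfOver).1 ?_ hΔ
  rw [comp_toSelf]
  exact isQuasiCompactMor_toSelf (isAlgStack_overCat A) (isQuasiCompact_overCat A)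

/-- A compact subset of points is covered by finitely many affine charts inside a given open. -/
theorem exists_affine_charts (hX : AlgSt.IsAlgStack Scheme.fppfPrecoverage 𝒳) {K O : Set (AlgSt.Points 𝒳)}
    (hK : IsCompact K) (hO : IsOpen O) (hKO : K ⊆ O) :
    ∃ (n : ℕ) (A : Fin n → Over S) (z : ∀ i, FibCat.overCat (A i) ⥤ᵇ 𝒳), (∀ i, IsAffine (A i).left) ∧
      (∀ i, IsOpen (Set.range (AlgSt.Points.ofChart (z i)))) ∧
      (∀ i, Set.range (AlgSt.Points.ofChart (z i)) ⊆ O) ∧ K ⊆ ⋃ i, Set.range (AlgSt.Points.ofChart (z i)) := by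
  classical
  obtain ⟨W, a, ha, has⟩ := hX.atlas
  let W₀ : W.left.Opens := ⟨AlgSt.Points.ofChart a ⁻¹' O, hO.preimage (continuous_ofChart_stack hX a)⟩
  obtain ⟨t, ht⟩ := hK.elim_finite_subcover
    (fun B : {B : W.left.Opens // IsAffineOpen B ∧ B ≤ W₀} => AlgSt.Points.ofChart a '' B.1)
    (fun B => isOpenMap_ofChart_of_smooth ha _ B.1.2)
    (fun x hx => by
      obtain ⟨w, rfl⟩ := surjective_chart has x
      obtain ⟨B, hB, hwB, hBW⟩ := exists_isAffineOpen_mem_and_subset (x := w) (U := W₀) (hKO hx)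
      exact Set.mem_iUnion.2 ⟨⟨B, hB, hBW⟩, w, hwB, rfl⟩)
  let e := t.equivFin.symm
  let A : Fin t.card → Over S := fun i => Over.mk ((e i).1.1.ι ≫ W.hom)
  let z : ∀ i, FibCat.overCat (A i) ⥤ᵇ 𝒳 := fun i =>
    BasedFunctor.comp (AlgSt.overMap (Over.homMk (e i).1.1.ι rfl : A i ⟶ W)) a
  have hr : ∀ i, Set.range (AlgSt.Points.ofChart (z i)) = AlgSt.Points.ofChart a '' (e i).1.1 := fun i => by
    rw [show AlgSt.Points.ofChart (z i) = AlgSt.Points.ofChart a ∘ (e i).1.1.ι from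
      funext fun u => ofChart_overMap _ a u, Set.range_comp, Scheme.Opens.range_ι]
  refine ⟨t.card, A, z, fun i => (e i).1.2.1, fun i => hr i ▸ isOpenMap_ofChart_of_smooth ha _ (e i).1.1.2,
    fun i => ?_, fun x hx => ?_⟩
  · rw [hr i]
    rintro _ ⟨w, hw, rfl⟩
    exact (e i).1.2.2 hw
  · obtain ⟨B, hB, hxB⟩ := Set.mem_iUnion₂.1 (ht hx)
    refine Set.mem_iUnion.2 ⟨e.symm ⟨B, hB⟩, ?_⟩
    rw [hr, Equiv.apply_symm_apply]
    exact hxB

theorem isCompact_range_chart (hX : AlgSt.IsAlgStack Scheme.fppfPrecoverage 𝒳) {A : Over S} [IsAffine A.left]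
    (z : FibCat.overCat A ⥤ᵇ 𝒳) : IsCompact (Set.range (AlgSt.Points.ofChart z)) :=
  isCompact_range (continuous_ofChart_stack hX z)

/-- Quasi-compactness is compactness of preimages of compact open sets of points. -/
theorem isQuasiCompactMor_iff_isCompact_preimage [QuasiSeparatedSpace S]
    (hX : AlgSt.IsAlgStack Scheme.fppfPrecoverage 𝒳) (hY : AlgSt.IsAlgStack Scheme.fppfPrecoverage 𝒴)
    (hΔ : AlgSt.RepByAlgSpWith AlgSp.IsQuasiCompactMor (FibCat.diag (FibCat.toSelf 𝒴))) (f : 𝒳 ⥤ᵇ 𝒴) :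
    AlgSt.IsQuasiCompactMor Scheme.fppfPrecoverage f ↔
      ∀ K : Set (AlgSt.Points 𝒴), IsOpen K → IsCompact K → IsCompact (AlgSt.Points.map f ⁻¹' K) := by
  constructor
  · intro hf K hKo hKc
    obtain ⟨n, A, z, hA, -, hzK, hKz⟩ := exists_affine_charts hY hKc hKo subset_rfl
    rw [show K = ⋃ i, Set.range (AlgSt.Points.ofChart (z i)) from
      Set.Subset.antisymm hKz (Set.iUnion_subset hzK), Set.preimage_iUnion]
    refine isCompact_iUnion fun i => ?_
    haveI := hA i
    haveI : FibCat.IsFibGrpd (FibCat.fp (z i) f).p := isFibGrpd_fp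
    have hfp := Groth.Agent.ASt.isAlgStack_fp (isPrestack_of_isStack hY.isStack) hY.diag (isAlgStack_overCat (A i)) hX (z i) f
    haveI := compactSpace_of_isQuasiCompact hfp
      (hf _ (isAlgStack_overCat (A i)) (isQuasiCompact_overCat (A i)) (z i))
    have e : AlgSt.Points.map f ⁻¹' Set.range (AlgSt.Points.ofChart (z i)) =
        Set.range (AlgSt.Points.map (FibCat.fpSnd (z i) f)) := by
      ext x
      constructor
      · rintro ⟨u, hu⟩
        obtain ⟨w, -, hw⟩ := points_surjective_fp (z i) f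
          (AlgSt.Points.ofChart (BasedFunctor.id (FibCat.overCat (A i))) u) x
          (by rw [← ofChart_comp]; exact hu)
        exact ⟨w, hw⟩
      · rintro ⟨w, rfl⟩
        obtain ⟨u, hu⟩ := surjective_ofChart_id (A i) (AlgSt.Points.map (FibCat.fpFst (z i) f) w)
        exact ⟨u, by rw [← points_fp_comm (z i) f w, ← hu]; rfl⟩
    rw [e]
    exact isCompact_range (continuous_map_stack hX _)
  · intro hf 𝒵 hZ hZc g
    haveI := hZ.isStack.1
    haveI : FibCat.IsFibGrpd (FibCat.fp g f).p := isFibGrpd_fp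
    obtain ⟨W, a, hW, ha, has⟩ := hZc
    let h := BasedFunctor.comp a g
    haveI : FibCat.IsFibGrpd (FibCat.fp h f).p := isFibGrpd_fp
    have hfp := Groth.Agent.ASt.isAlgStack_fp (isPrestack_of_isStack hY.isStack) hY.diag (isAlgStack_overCat W) hX h f
    suffices CompactSpace (AlgSt.Points (FibCat.fp h f)) from
      isQuasiCompact_of_surjective (Groth.Agent.ASt.isAlgStack_fp (isPrestack_of_isStack hY.isStack) hY.diag hZ hX g f)
        (surjective_pushL a g f (isSurjective_of_repByAlgSpWith has))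
    obtain ⟨n, A, z, hA, hAo, -, hAc⟩ := exists_affine_charts hY (isCompact_range_chart hY h) isOpen_univ (Set.subset_univ _)
    have hK : IsCompact (⋃ i, Set.range (AlgSt.Points.ofChart (z i))) :=
      isCompact_iUnion fun i => haveI := hA i; isCompact_range_chart hY (z i)
    obtain ⟨m, B, b, hB, -, -, hBc⟩ :=
      exists_affine_charts hX (hf _ (isOpen_iUnion hAo) hK) isOpen_univ (Set.subset_univ _)
    haveI : ∀ j, FibCat.IsFibGrpd (FibCat.fp h (BasedFunctor.comp (b j) f)).p := fun j => isFibGrpd_fp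
    have hc : ∀ j, CompactSpace (AlgSt.Points (FibCat.fp h (BasedFunctor.comp (b j) f))) := fun j => by
      haveI := hB j
      exact compactSpace_of_isQuasiCompact
        (Groth.Agent.ASt.isAlgStack_fp (isPrestack_of_isStack hY.isStack) hY.diag (isAlgStack_overCat W)
          (isAlgStack_overCat (B j)) h _)
        (isQuasiCompactMor_affine_chart hY hΔ (BasedFunctor.comp (b j) f) _ (isAlgStack_overCat W)
          (isQuasiCompact_overCat W) h)
    refine ⟨?_⟩
    rw [show (Set.univ : Set (AlgSt.Points (FibCat.fp h f))) =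
        ⋃ j, Set.range (AlgSt.Points.map (pushR h f (b j))) from ?_]
    · exact isCompact_iUnion fun j => haveI := hc j; isCompact_range (continuous_map_stack hfp _)
    refine (Set.eq_univ_of_forall fun w => ?_).symm
    obtain ⟨u, hu⟩ := surjective_ofChart_id W (AlgSt.Points.map (FibCat.fpFst h f) w)
    have hx : AlgSt.Points.map (FibCat.fpSnd h f) w ∈
        AlgSt.Points.map f ⁻¹' ⋃ i, Set.range (AlgSt.Points.ofChart (z i)) :=
      hAc ⟨u, by rw [← points_fp_comm h f w, ← hu]; rfl⟩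
    obtain ⟨j, hj⟩ := Set.mem_iUnion.1 (hBc hx)
    obtain ⟨v, hv⟩ := hj
    obtain ⟨e, -, he⟩ := points_surjective_fp (b j) (FibCat.fpSnd h f)
      (AlgSt.Points.ofChart (BasedFunctor.id (FibCat.overCat (B j))) v) w (by rw [← ofChart_comp]; exact hv)
    haveI : FibCat.IsFibGrpd (FibCat.fp (b j) (FibCat.fpSnd h f)).p := isFibGrpd_fp
    refine Set.mem_iUnion.2 ⟨j, AlgSt.Points.map (pasteG h f (b j)) e, ?_⟩
    let α : BasedFunctor.comp (pasteG h f (b j)) (pushR h f (b j)) ≅ FibCat.fpSnd (b j) (FibCat.fpSnd h f) :=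
      fpIsoMk (Iso.refl _) (FibCat.fpIso (b j) (FibCat.fpSnd h f)) fun x => by
        change h.map (𝟙 x.obj.snd.obj.fst) ≫ x.obj.snd.obj.iso.hom =
          (x.obj.snd.obj.iso.hom ≫ f.map x.obj.iso.inv) ≫ f.map x.obj.iso.hom
        simp [← Functor.map_comp]
    rw [map_map, map_congr α, he]

end Groth.Agent.ASt
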