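import Groth.Agent.ASt.Fp
import Groth.Agent.ASp.Basic
import Groth.Prelude.Def_AlgSt2
import Groth.Prelude.Def_AlgSt3
import Groth.Prelude.Def_AlgSpRep
/-!
Representability by algebraic spaces in terms of presheaves of classes.
-/

set_option backward.isDefEq.respectTransparency false
set_option backward.isDefEq.respectTransparency.types false
set_option linter.unusedSectionVars false

universe u

open CategoryTheory CategoryTheory.Limits AlgebraicGeometry Opposite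

namespace Groth.Agent.ASt

open _root_.AlgSp

variable {S : Scheme.{u}} {𝒳 𝒴 : AlgSt.Cat S}

theorem isAlgSpace_of_isFibGrpd_ofSp (F : Sp S) : FibCat.IsFibGrpd (AlgSt.ofSp F).p :=
  Stk.isFibGrpd_ofPsh F.obj

instance isFibGrpd_ofSp (F : Sp S) : FibCat.IsFibGrpd (AlgSt.ofSp F).p :=
  Stk.isFibGrpd_ofPsh F.obj

instance faithful_ofSp (F : Sp S) : (AlgSt.ofSp F).p.Faithful :=
  faithful_forget F.obj

theorem isFibGrpd_of_repByAlgSp (h : AlgSt.RepByAlgSp 𝒳) : FibCat.IsFibGrpd 𝒳.p := by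
  obtain ⟨F, e, he⟩ := h
  exact isFibGrpd_of_isEquivOver he

theorem faithful_of_repByAlgSp (h : AlgSt.RepByAlgSp 𝒳) : 𝒳.p.Faithful := by
  obtain ⟨F, e, he⟩ := h
  obtain ⟨G, hG, -, -⟩ := isEquivOver_symm he
  have := isFibGrpd_of_isEquivOver he
  exact faithful_of_isEquivOver hG

theorem repByAlgSp_iff [h𝒳 : FibCat.IsFibGrpd 𝒳.p] :
    AlgSt.RepByAlgSp 𝒳 ↔ 𝒳.p.Faithful ∧ IsAlgSpaceP (Cl 𝒳) := by
  constructor
  · intro h
    obtain ⟨F, e, he⟩ := h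
    have := isIso_ofPshCl he
    exact ⟨faithful_of_repByAlgSp ⟨F, e, he⟩,
      ((isAlgSpaceP_obj_iff F.obj).2 F.property).of_iso (asIso (ofPshCl e))⟩
  · rintro ⟨hf, hs, hA⟩
    obtain ⟨G, hG, -, -⟩ := isEquivOver_symm (isEquivOver_toPsh (𝒳 := 𝒳))
    exact ⟨⟨⟨Cl 𝒳, hs⟩, hA⟩, G, hG⟩

theorem cl_inverse [h𝒳 : FibCat.IsFibGrpd 𝒳.p] {G : Stk.ofPsh (Cl 𝒳) ⥤ᵇ 𝒳}
    (β : BasedFunctor.comp G (toPsh 𝒳) ≅ BasedFunctor.id _) (T : Over S) (s : ClType 𝒳 T) :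
    cl (G.obj ⟨T, s⟩) (G.w_obj _) = s := by
  have h1 := map_app _ _ β.hom ⟨T, s⟩
  have h2 : clMap (β.hom.toNatTrans.app ⟨T, s⟩).hom s = cl (G.obj ⟨T, s⟩) rfl :=
    (β.hom.toNatTrans.app ⟨T, s⟩).map_sec
  obtain ⟨x, hx, rfl⟩ := cl_exists s
  have h3 : (β.hom.toNatTrans.app ⟨T, cl x hx⟩).hom = eqToHom (G.w_obj ⟨T, cl x hx⟩) := h1
  have h4 : ∀ {T' : Over S} (e : T' = T), clMap (eqToHom e) (cl x hx) = cl x (hx.trans e.symm) :=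
    fun e => by subst e; exact clMap_id _
  have h5 := ((h4 _).symm.trans (congrArg (fun k => clMap k (cl x hx)) h3.symm)).trans h2
  obtain ⟨a, ha⟩ := cl_eq_iff.1 h5
  exact (cl_eq_iff.2 ⟨a, ha⟩).symm

variable {U : Over S}

section Fibre

variable [h𝒳 : FibCat.IsFibGrpd 𝒳.p] [h𝒴 : FibCat.IsFibGrpd 𝒴.p]

/-- The presheaf of classes of the fibre over a scheme mapping to the target. -/
noncomputable abbrev fib (y : FibCat.overCat U ⥤ᵇ 𝒴) (f : 𝒳 ⥤ᵇ 𝒴) : PSp S := Cl (FibCat.fp y f)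

/-- Its map to the scheme. -/
noncomputable def fibπ (y : FibCat.overCat U ⥤ᵇ 𝒴) (f : 𝒳 ⥤ᵇ 𝒴) : fib y f ⟶ (pyon S).obj U where
  app T := ↾(fun c => ⟨fpHom c⟩)
  naturality {A B} g := by
    ext c
    exact congrArg ULift.up (fpHom_clMap g.unop c)

theorem fibπ_app (y : FibCat.overCat U ⥤ᵇ 𝒴) (f : 𝒳 ⥤ᵇ 𝒴) (T : Over S) (c : ClType (FibCat.fp y f) T) :
    (fibπ y f).app (op T) c = ⟨fpHom c⟩ := rfl

/-- The fibre presheaf has the property `P` as a space over the scheme. -/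
def FibHas (P : MorphismProperty (Sp S)) (y : FibCat.overCat U ⥤ᵇ 𝒴) (f : 𝒳 ⥤ᵇ 𝒴) : Prop :=
  ∃ h : Presheaf.IsSheaf (J S) (fib y f), IsAlgSpace (⟨fib y f, h⟩ : Sp S) ∧
    P (ObjectProperty.homMk (fibπ y f) : (⟨fib y f, h⟩ : Sp S) ⟶ (yon S).obj U)

theorem spMapOfOver_eq {F : Sp S} {y : FibCat.overCat U ⥤ᵇ 𝒴} {f : 𝒳 ⥤ᵇ 𝒴}
    (e : AlgSt.ofSp F ⥤ᵇ FibCat.fp y f) :
    (AlgSt.spMapOfOver (BasedFunctor.comp e (FibCat.fpFst y f))).hom = ofPshCl e ≫ fibπ y f := by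
  ext T s
  rfl

theorem arrowIso_of_hom {A B : Sp S} {V : Over S} {a : A ⟶ (yon S).obj V} {b : B ⟶ (yon S).obj V}
    (i : A.obj ≅ B.obj) (w : a.hom = i.hom ≫ b.hom) : Nonempty (Arrow.mk a ≅ Arrow.mk b) :=
  ⟨Arrow.isoMk ((fullyFaithfulSheafToPresheaf (J S) _).preimageIso i) (Iso.refl _)
    (by apply ObjectProperty.hom_ext; simpa using w.symm)⟩

theorem fibHas_of_rep {P : MorphismProperty (Sp S)} [P.RespectsIso] {y : FibCat.overCat U ⥤ᵇ 𝒴}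
    {f : 𝒳 ⥤ᵇ 𝒴} {F : AlgSp.Space S} (e : AlgSt.ofSp F.obj ⥤ᵇ FibCat.fp y f)
    (he : FibCat.IsEquivOver e) (hP : P (AlgSt.spMapOfOver (BasedFunctor.comp e (FibCat.fpFst y f)))) :
    FibHas P y f := by
  have := isIso_ofPshCl he
  obtain ⟨hs, hA⟩ := ((isAlgSpaceP_obj_iff F.obj).2 F.property).of_iso (asIso (ofPshCl e))
  obtain ⟨i⟩ := arrowIso_of_hom (a := AlgSt.spMapOfOver (BasedFunctor.comp e (FibCat.fpFst y f)))
    (b := (ObjectProperty.homMk (fibπ y f) : (⟨fib y f, hs⟩ : Sp S) ⟶ (yon S).obj U))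
    (asIso (ofPshCl e)) (spMapOfOver_eq e)
  exact ⟨hs, hA, (P.arrow_mk_iso_iff i).1 hP⟩

theorem exists_rep_of_fibHas {P : MorphismProperty (Sp S)} [P.RespectsIso] {y : FibCat.overCat U ⥤ᵇ 𝒴}
    {f : 𝒳 ⥤ᵇ 𝒴} [f.toFunctor.Faithful] (h : FibHas P y f) :
    ∃ (F : AlgSp.Space S) (e : AlgSt.ofSp F.obj ⥤ᵇ FibCat.fp y f),
      FibCat.IsEquivOver e ∧ P (AlgSt.spMapOfOver (BasedFunctor.comp e (FibCat.fpFst y f))) := by
  obtain ⟨hs, hA, hP⟩ := h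
  obtain ⟨G, hG, -, ⟨β⟩⟩ := isEquivOver_symm (isEquivOver_toPsh (𝒳 := FibCat.fp y f))
  refine ⟨⟨⟨fib y f, hs⟩, hA⟩, G, hG, ?_⟩
  have : AlgSt.spMapOfOver (BasedFunctor.comp G (FibCat.fpFst y f)) =
      (ObjectProperty.homMk (fibπ y f) : (⟨fib y f, hs⟩ : Sp S) ⟶ (yon S).obj U) := by
    refine ObjectProperty.hom_ext _ ((spMapOfOver_eq (F := ⟨fib y f, hs⟩) G).trans ?_)
    ext T s
    exact congrArg (fun c => ((fibπ y f).app T c)) (cl_inverse β T.unop s)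
  rw [this]
  exact hP

theorem faithful_of_repByAlgSp1 {f : 𝒳 ⥤ᵇ 𝒴} (hf : AlgSt.RepByAlgSp1 f) : f.toFunctor.Faithful :=
  faithful_of_faithful_fp fun y => faithful_of_repByAlgSp (hf _ y)

theorem repByAlgSp1_of_with {P : MorphismProperty (Sp S)} {f : 𝒳 ⥤ᵇ 𝒴}
    (hf : AlgSt.RepByAlgSpWith P f) : AlgSt.RepByAlgSp1 f :=
  fun U y => by obtain ⟨F, e, he, -⟩ := hf U y; exact ⟨F, e, he⟩

theorem repByAlgSpWith_iff {P : MorphismProperty (Sp S)} [P.RespectsIso] {f : 𝒳 ⥤ᵇ 𝒴} :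
    AlgSt.RepByAlgSpWith P f ↔
      f.toFunctor.Faithful ∧ ∀ (U : Over S) (y : FibCat.overCat U ⥤ᵇ 𝒴), FibHas P y f := by
  constructor
  · intro hf
    refine ⟨faithful_of_repByAlgSp1 (repByAlgSp1_of_with hf), fun U y => ?_⟩
    obtain ⟨F, e, he, hP⟩ := hf U y
    exact fibHas_of_rep e he hP
  · rintro ⟨hfa, h⟩ U y
    exact exists_rep_of_fibHas (h U y)

theorem repByAlgSp1_iff {f : 𝒳 ⥤ᵇ 𝒴} : AlgSt.RepByAlgSp1 f ↔
    f.toFunctor.Faithful ∧ ∀ (U : Over S) (y : FibCat.overCat U ⥤ᵇ 𝒴), IsAlgSpaceP (fib y f) := by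
  constructor
  · intro hf
    exact ⟨faithful_of_repByAlgSp1 hf, fun U y => (repByAlgSp_iff.1 (hf U y)).2⟩
  · rintro ⟨hfa, h⟩ U y
    exact repByAlgSp_iff.2 ⟨inferInstance, h U y⟩

end Fibre

end Groth.Agent.ASt
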