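import Groth.Agent.ASt.DiagLft
import Mathlib.AlgebraicGeometry.Morphisms.FormallyUnramified
import Groth.Agent.FpqcDesc.Basic
/-!
A representable morphism whose base change along itself is unramified, or locally quasi-finite, is so.
-/

set_option backward.isDefEq.respectTransparency false
set_option backward.isDefEq.respectTransparency.types false
set_option linter.unusedSectionVars false

universe v u

open CategoryTheory CategoryTheory.Limits AlgebraicGeometry Opposite

namespace Groth.Agent.ASt

open _root_.AlgSp Groth.Agent.ASp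

section Scheme

/-- Formally unramified along itself implies formally unramified. -/
theorem formallyUnramified_of_fst_self {X Y : Scheme.{u}} (φ : X ⟶ Y)
    (h : FormallyUnramified (pullback.fst φ φ)) : FormallyUnramified φ := by
  refine FormallyUnramified.of_hom_ext φ fun R T ψ hψ hI g₁ g₂ hg hgf => ?_
  haveI : IsClosedImmersion (Spec.map ψ) := IsClosedImmersion.spec_of_surjective ψ hψ
  have e : pullback.lift g₁ g₁ rfl = pullback.lift g₁ g₂ hgf := by
    refine FormallyUnramified.hom_ext (Spec.map ψ) ?_ (pullback.fst φ φ) ?_ (by simp)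
    · refine ⟨2, ?_⟩
      rw [Scheme.ker_of_isAffine, ← Scheme.IdealSheafData.equivOfIsAffine_symm_apply, ← map_pow]
      suffices RingHom.ker (Spec.map ψ).appTop.hom ^ 2 = ⊥ by rw [this]; exact map_zero _
      have hinj : Function.Injective (Scheme.ΓSpecIso R).hom.hom :=
        (ConcreteCategory.bijective_of_isIso (Scheme.ΓSpecIso R).hom).1
      refine (Ideal.map_eq_bot_iff_of_injective hinj).1 ?_
      rw [Ideal.map_pow, eq_bot_iff, ← hI]
      refine Ideal.pow_right_mono (Ideal.map_le_iff_le_comap.2 fun a ha => ?_) 2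
      have hn := congrArg (fun m : Γ(Spec R, ⊤) ⟶ T => m.hom a) (Scheme.ΓSpecIso_naturality ψ)
      simp only [CommRingCat.hom_comp, RingHom.comp_apply, RingHom.mem_ker.1 ha, map_zero] at hn
      exact hn.symm
    · apply pullback.hom_ext <;> simp [hg]
  simpa using congrArg (fun k => k ≫ pullback.snd φ φ) e

/-- Locally quasi-finite along itself implies locally quasi-finite. -/
theorem locallyQuasiFinite_of_fst_self {X Y : Scheme.{u}} (φ : X ⟶ Y)
    (h : LocallyQuasiFinite (pullback.fst φ φ)) : LocallyQuasiFinite φ := by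
  refine LocallyQuasiFinite.of_fiberToSpecResidueField φ fun y => ?_
  by_cases hn : Nonempty ↥(φ.fiber y)
  · obtain ⟨z⟩ := hn
    let ζ := (φ.fiber y).fromSpecResidueField z
    let s := ζ ≫ φ.fiberToSpecResidueField y
    let t := ζ ≫ φ.fiberι y
    have hst : t ≫ φ = s ≫ Y.fromSpecResidueField y := by
      simp only [s, t, Category.assoc]
      rw [Scheme.Hom.fiber_fac φ y]
    let q := pullback.lift (pullback.snd φ (t ≫ φ) ≫ t) (pullback.fst φ (t ≫ φ))
      (by rw [Category.assoc]; exact (pullback.condition (f := φ) (g := t ≫ φ)).symm) (f := φ) (g := φ)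
    have sq1 : IsPullback q (pullback.snd φ (t ≫ φ)) (pullback.fst φ φ) t :=
      IsPullback.of_right (by
        rw [show q ≫ pullback.snd φ φ = pullback.fst φ (t ≫ φ) from pullback.lift_snd _ _ _]
        simpa using IsPullback.of_hasPullback φ (t ≫ φ)) (pullback.lift_fst _ _ _)
        (IsPullback.of_hasPullback φ φ).flip
    have h1 : LocallyQuasiFinite (pullback.snd φ (s ≫ Y.fromSpecResidueField y)) := by
      rw [← hst]; exact MorphismProperty.of_isPullback sq1 h
    let q2 := pullback.lift (pullback.fst φ (s ≫ Y.fromSpecResidueField y))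
      (pullback.snd φ (s ≫ Y.fromSpecResidueField y) ≫ s)
      (by rw [Category.assoc]; exact pullback.condition) (f := φ) (g := Y.fromSpecResidueField y)
    have sq2 : IsPullback (pullback.snd φ (s ≫ Y.fromSpecResidueField y)) q2 s (φ.fiberToSpecResidueField y) :=
      (IsPullback.of_right (by
        rw [show q2 ≫ pullback.fst φ (Y.fromSpecResidueField y) = _ from pullback.lift_fst _ _ _]
        simpa using IsPullback.of_hasPullback φ (s ≫ Y.fromSpecResidueField y)) (pullback.lift_snd _ _ _)
        (IsPullback.of_hasPullback φ (Y.fromSpecResidueField y))).flip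
    haveI : Surjective s := ⟨fun x => ⟨default, Subsingleton.elim _ _⟩⟩
    haveI : Flat s := inferInstance
    haveI : QuasiCompact s := inferInstance
    exact Groth.Agent.FpqcDesc.locallyQuasiFinite_descends.of_isPullback sq2
      ⟨⟨‹Surjective s›, ‹Flat s›⟩, ‹QuasiCompact s›⟩ h1
  · haveI : IsEmpty ↥(φ.fiber y) := not_nonempty_iff.1 hn
    haveI : IsOpenImmersion (φ.fiberToSpecResidueField y) := inferInstance
    infer_instance

end Scheme

section Stack

variable {S : Scheme.{u}} {𝒳 𝒴 : AlgSt.Cat S} [h𝒳 : FibCat.IsFibGrpd 𝒳.p] [h𝒴 : FibCat.IsFibGrpd 𝒴.p]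

/-- A property of schemes passes from the base change along itself to a representable morphism. -/
theorem repByAlgSpWith_locP_of_fpFst_self {Q : MorphismProperty Scheme.{u}} [IsEtLocal Q] {g : 𝒳 ⥤ᵇ 𝒴}
    (hl : AlgSt.RepByAlgSpWith (LocP @LocallyOfFiniteType) g)
    (hQ : ∀ {X Y : Scheme.{u}} (φ : X ⟶ Y), LocallyOfFiniteType φ → Q (pullback.fst φ φ) → Q φ)
    (h : AlgSt.RepByAlgSpWith (LocP Q) (FibCat.fpFst g g)) : AlgSt.RepByAlgSpWith (LocP Q) g := by
  haveI : FibCat.IsFibGrpd (FibCat.fp g g).p := isFibGrpd_fp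
  refine repByAlgSpWith_iff.2 ⟨(repByAlgSpWith_iff.1 hl).1, fun U y => ?_⟩
  obtain ⟨hs, hA, hLft⟩ := (repByAlgSpWith_iff.1 hl).2 U y
  refine ⟨hs, hA, fun A B a b k ha hb e => ?_⟩
  obtain ⟨b0, rfl⟩ := (yon S).map_surjective b
  have hb0 : Etale b0.left := (repWith_yon_map_iff _ b0).1 hb
  haveI : LocallyOfFiniteType k.left := hLft a ((yon S).map b0) k ha hb e
  refine IsEtLocal.of_postcomp (P := Q) k.left b0.left hb0 ?_
  rw [← Over.comp_left]
  let φ : A ⟶ U := k ≫ b0
  let c : ClType (FibCat.fp y g) A := uliftYonedaEquiv.{u + 1} a.hom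
  have hc : fpHom c = φ := by
    have e' := congrArg (fun m : (yon S).obj A ⟶ (yon S).obj U => (m.hom.app (op A)) ⟨𝟙 A⟩) e
    exact (congrArg ULift.down e').trans (Category.id_comp φ)
  obtain ⟨k', x, hx, ψ, hψ, hcf⟩ := fpEl_exists c
  obtain rfl : k' = φ := (fpHom_fpEl k' x hx ψ hψ).symm.trans (hcf ▸ hc)
  let z : FibCat.overCat A ⥤ᵇ 𝒳 := objFun x hx
  haveI := isIso_of_vert ψ hψ
  have hh : ov (𝟙 A ≫ φ) = ov φ := congrArg ov (Category.id_comp φ)
  let α : BasedFunctor.comp z g ≅ BasedFunctor.comp (AlgSt.overMap φ) y :=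
    funIso (y := BasedFunctor.comp z g) (g.map (pullHom x hx (𝟙 A)) ≫ inv ψ ≫ eqToHom (congrArg y.obj hh.symm)) (by
      simp [map_w, map_pullHom, hψ, eqToHom_map])
  have h1 : FibHas (LocP Q) (BasedFunctor.comp (AlgSt.overMap φ) y) g := fibHas_congr α
    ((fibHas_iff_of_bijective (bcF g g z) (fpHom_bcF g z) (bijective_clF_bcF g g z)).1
      ((repByAlgSpWith_iff.1 h).2 A z))
  obtain ⟨hs', -, hQ'⟩ := h1
  let F : Sp S := ⟨fib y g, hs⟩
  let F' : Sp S := ⟨fib (BasedFunctor.comp (AlgSt.overMap φ) y) g, hs'⟩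
  let π : F ⟶ (yon S).obj U := ObjectProperty.homMk (fibπ y g)
  let π' : F' ⟶ (yon S).obj A := ObjectProperty.homMk (fibπ (BasedFunctor.comp (AlgSt.overMap φ) y) g)
  let r : F' ⟶ F := ObjectProperty.homMk (clFun (restrF φ y g))
  have sq : IsPullback r π' π ((yon S).map φ) :=
    IsPullback.of_map_of_faithful (sheafToPresheaf (J S) (Type (u + 1))) (isPullback_restrF φ y)
  have sqP : IsPullback ((yon S).map (pullback.snd φ φ)) ((yon S).map (pullback.fst φ φ)) ((yon S).map φ)
      ((yon S).map φ) := isPullback_yon_map (IsPullback.of_hasPullback φ φ).flip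
  have eA : a ≫ π = (yon S).map φ := e.trans ((yon S).map_comp k b0).symm
  let l : (yon S).obj (pullback φ φ) ⟶ F' := sq.lift ((yon S).map (pullback.snd φ φ) ≫ a)
    ((yon S).map (pullback.fst φ φ)) (by rw [Category.assoc, eA]; exact sqP.w)
  have sql : IsPullback ((yon S).map (pullback.snd φ φ)) l a r :=
    IsPullback.of_bot (by
      rw [show l ≫ π' = (yon S).map (pullback.fst φ φ) from sq.lift_snd _ _ _, eA]
      exact sqP) (sq.lift_fst _ _ _).symm sq
  have hl' : RepWith @Etale l := repWith_of_isPullback sql ha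
  have hp := hQ' l (𝟙 _) (pullback.fst φ φ) hl' (AlgSp.repWith_id _ A) (by
    rw [Category.comp_id]; exact sq.lift_snd _ _ _)
  have hlφ : LocallyOfFiniteType φ.left := by
    rw [Over.comp_left]
    haveI := hb0
    infer_instance
  refine hQ φ.left hlφ ?_
  have hpl : IsPullback (pullback.fst φ φ).left (pullback.snd φ φ).left φ.left φ.left :=
    (IsPullback.of_hasPullback φ φ).map (Over.forget S)
  rw [← hpl.isoPullback_inv_fst]
  exact (MorphismProperty.cancel_left_of_respectsIso (P := Q) _ _).2 hp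

end Stack

end Groth.Agent.ASt
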