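import Groth.Agent.ASt.QcPts
import Groth.Agent.QCRange.Basic
import Groth.Agent.Topo.SpectralQuot
/-!
Spectral spaces of points of algebraic stacks with quasi-compact diagonal.
-/

set_option backward.isDefEq.respectTransparency false
set_option backward.isDefEq.respectTransparency.types false
set_option linter.unusedSectionVars false

universe u

open CategoryTheory CategoryTheory.Limits AlgebraicGeometry Opposite Topology

namespace Groth.Agent.ASt

open _root_.AlgSp Groth.Agent.ASp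

variable {S : Scheme.{u}} {𝒳 : AlgSt.Cat S} [h𝒳 : FibCat.IsFibGrpd 𝒳.p]

theorem spectralSpace_affine (A : Scheme.{u}) [IsAffine A] : SpectralSpace ↥A := { }

theorem ofChart_overMap_id {A B : Over S} (k : A ⟶ B) (t : ↥A.left) :
    AlgSt.Points.ofChart (AlgSt.overMap k) t = AlgSt.Points.ofChart (BasedFunctor.id (FibCat.overCat B)) (k.left t) :=
  ofChart_overMap k (BasedFunctor.id (FibCat.overCat B)) t

/-- Generalizations in the closure of a fibre of an affine chart. -/
theorem exists_specializes_fibre [QuasiSeparatedSpace S] (hX : AlgSt.IsAlgStack Scheme.fppfPrecoverage 𝒳)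
    (hΔ : AlgSt.RepByAlgSpWith AlgSp.IsQuasiCompactMor (FibCat.diag (FibCat.toSelf 𝒳)))
    {A : Over S} [IsAffine A.left] (z : FibCat.overCat A ⥤ᵇ 𝒳) (x : AlgSt.Points 𝒳) (u : ↥A.left)
    (hu : u ∈ closure (AlgSt.Points.ofChart z ⁻¹' {x})) : ∃ e, AlgSt.Points.ofChart z e = x ∧ e ⤳ u := by
  obtain ⟨u₀, hu₀⟩ : ∃ u₀, AlgSt.Points.ofChart z u₀ = x := by
    obtain ⟨v, hv⟩ := (closure_nonempty_iff.1 ⟨u, hu⟩ : (AlgSt.Points.ofChart z ⁻¹' {x}).Nonempty)
    exact ⟨v, hv⟩
  let P := rPt A u₀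
  haveI : IsAffine P.left := inferInstanceAs (IsAffine (Spec (A.left.residueField u₀)))
  let z₀ := BasedFunctor.comp (AlgSt.overMap (rHom A u₀)) z
  haveI : FibCat.IsFibGrpd (FibCat.fp z₀ z).p := isFibGrpd_fp
  have hfp := Groth.Agent.ASt.isAlgStack_fp (isPrestack_of_isStack hX.isStack) hX.diag (isAlgStack_overCat P) (isAlgStack_overCat A) z₀ z
  obtain ⟨W, w, hW, -, hws⟩ :=
    isQuasiCompactMor_affine_chart hX hΔ z _ (isAlgStack_overCat P) (isQuasiCompact_overCat P) z₀
  haveI := hW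
  obtain ⟨k, ⟨α⟩⟩ := exists_overMap (BasedFunctor.comp w (FibCat.fpSnd z₀ z))
  have hrange : AlgSt.Points.ofChart z ⁻¹' {x} = Set.range k.left := by
    have key : ∀ t, AlgSt.Points.map (FibCat.fpSnd z₀ z) (AlgSt.Points.ofChart w t) =
        AlgSt.Points.ofChart (BasedFunctor.id (FibCat.overCat A)) (k.left t) := fun t => by
      rw [← ofChart_comp, ofChart_congr α, ofChart_overMap_id]
    have hz₀ : ∀ p, AlgSt.Points.map z₀ p = x := fun p => by
      obtain ⟨s, rfl⟩ := surjective_ofChart_id P p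
      rw [← ofChart_comp]
      change AlgSt.Points.ofChart z₀ s = x
      rw [ofChart_overMap, ← hu₀]
      exact congrArg _ (Scheme.fromSpecResidueField_apply u₀ s)
    ext v
    constructor
    · intro hv
      obtain ⟨e, -, he⟩ := points_surjective_fp z₀ z
        (AlgSt.Points.ofChart (BasedFunctor.id (FibCat.overCat P)) (default : ↥(Spec (A.left.residueField u₀))))
        (AlgSt.Points.ofChart (BasedFunctor.id (FibCat.overCat A)) v)
        (by rw [hz₀, ← ofChart_comp]; exact hv.symm)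
      obtain ⟨t, rfl⟩ := surjective_chart hws e
      exact ⟨t, injective_ofChart_id A ((key t).symm.trans he)⟩
    · rintro ⟨t, rfl⟩
      have := points_fp_comm z₀ z (AlgSt.Points.ofChart w t)
      rw [hz₀, key, ← ofChart_comp] at this
      exact this.symm
  rw [hrange] at hu
  haveI : QuasiCompact k.left :=
    haveI : IsAffineHom k.left := isAffineHom_of_isAffine k.left
    inferInstance
  obtain ⟨t, ht⟩ := Groth.Agent.QCRange.exists_specializes k.left u hu
  exact ⟨k.left t, (Set.ext_iff.1 hrange _).2 ⟨t, rfl⟩, ht⟩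

/-- The image of an affine chart is spectral. -/
theorem spectralSpace_range_chart [QuasiSeparatedSpace S] (hX : AlgSt.IsAlgStack Scheme.fppfPrecoverage 𝒳)
    (hΔ : AlgSt.RepByAlgSpWith AlgSp.IsQuasiCompactMor (FibCat.diag (FibCat.toSelf 𝒳)))
    {A : Over S} [IsAffine A.left] (z : FibCat.overCat A ⥤ᵇ 𝒳)
    (ho : IsOpenMap (AlgSt.Points.ofChart z)) : SpectralSpace (Set.range (AlgSt.Points.ofChart z)) := by
  haveI := spectralSpace_affine A.left
  have hc := continuous_ofChart_stack hX z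
  let f : ↥A.left → Set.range (AlgSt.Points.ofChart z) := Set.rangeFactorization (AlgSt.Points.ofChart z)
  refine Groth.Agent.Topo.spectralSpace_of_open_surjective (f := f) (hc.subtype_mk _)
    (fun O hO => (ho.isOpen_range.isOpenEmbedding_subtypeVal.isOpen_iff_image_isOpen).2 ?_)
    Set.rangeFactorization_surjective (fun K hK hKc => ?_) (fun x u hu => ?_)
  · rw [← Set.image_comp]
    exact ho O hO
  · have h := (isQuasiCompactMor_iff_isCompact_preimage (isAlgStack_overCat A) hX hΔ z).1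
      (isQuasiCompactMor_affine_chart hX hΔ z) _ (ho K hK) (hKc.image hc)
    have h' := (schemePts A).isCompact_preimage.2 h
    convert h' using 1
    ext v
    constructor
    · rintro ⟨w, hw, e⟩
      rw [Set.mem_preimage, Set.mem_preimage, map_schemePts]
      exact ⟨w, hw, congrArg Subtype.val e⟩
    · intro hv
      rw [Set.mem_preimage, Set.mem_preimage, map_schemePts] at hv
      obtain ⟨w, hw, e⟩ := hv
      exact ⟨w, hw, Subtype.ext e⟩
  · obtain ⟨e, he, hs⟩ := exists_specializes_fibre hX hΔ z x.1 u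
      (closure_mono (fun v (hv : f v = x) => congrArg Subtype.val hv) hu)
    exact ⟨e, Subtype.ext he, hs⟩

theorem exists_affine_chart_nhd (hX : AlgSt.IsAlgStack Scheme.fppfPrecoverage 𝒳) (x : AlgSt.Points 𝒳) :
    ∃ (A : Over S) (z : FibCat.overCat A ⥤ᵇ 𝒳), IsAffine A.left ∧ IsOpenMap (AlgSt.Points.ofChart z) ∧
      x ∈ Set.range (AlgSt.Points.ofChart z) := by
  obtain ⟨W, a, ha, has⟩ := hX.atlas
  obtain ⟨w, rfl⟩ := surjective_chart has x
  obtain ⟨B, hB, hwB, -⟩ := exists_isAffineOpen_mem_and_subset (x := w) (U := (⊤ : W.left.Opens)) trivial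
  let A : Over S := Over.mk (B.ι ≫ W.hom)
  let i : A ⟶ W := Over.homMk B.ι rfl
  have e : AlgSt.Points.ofChart (BasedFunctor.comp (AlgSt.overMap i) a) = AlgSt.Points.ofChart a ∘ B.ι :=
    funext fun u => ofChart_overMap i a u
  refine ⟨A, BasedFunctor.comp (AlgSt.overMap i) a, hB, ?_, ?_⟩
  · rw [e]
    exact (isOpenMap_ofChart_of_smooth ha).comp B.ι.isOpenEmbedding.isOpenMap
  · rw [e]
    exact ⟨⟨w, hwB⟩, rfl⟩

theorem exists_isOpen_spectral [QuasiSeparatedSpace S] (hX : AlgSt.IsAlgStack Scheme.fppfPrecoverage 𝒳)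
    (hΔ : AlgSt.RepByAlgSpWith AlgSp.IsQuasiCompactMor (FibCat.diag (FibCat.toSelf 𝒳))) (x : AlgSt.Points 𝒳) :
    ∃ U : Set (AlgSt.Points 𝒳), IsOpen U ∧ x ∈ U ∧ SpectralSpace ↥U := by
  obtain ⟨A, z, hA, ho, hx⟩ := exists_affine_chart_nhd hX x
  exact ⟨_, ho.isOpen_range, hx, spectralSpace_range_chart hX hΔ z ho⟩

theorem spectralSpace_points [QuasiSeparatedSpace S] (hX : AlgSt.IsAlgStack Scheme.fppfPrecoverage 𝒳)
    (hc : AlgSt.IsQuasiCompact 𝒳)
    (hΔ : AlgSt.RepByAlgSpWith AlgSp.IsQuasiCompactMor (FibCat.diag (FibCat.toSelf 𝒳))) :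
    SpectralSpace (AlgSt.Points 𝒳) := by
  obtain ⟨A, z, hA, hz, hzs⟩ := hc
  haveI := hA
  have := spectralSpace_range_chart hX hΔ z (isOpenMap_ofChart_of_smooth hz)
  rw [(surjective_chart hzs).range_eq] at this
  haveI := this
  haveI : CompactSpace (AlgSt.Points 𝒳) := compactSpace_of_surjective_chart hX (surjective_chart hzs)
  exact (Homeomorph.Set.univ (AlgSt.Points 𝒳)).symm.isOpenEmbedding.spectralSpace

theorem locally_spectral_points [QuasiSeparatedSpace S] (hX : AlgSt.IsAlgStack Scheme.fppfPrecoverage 𝒳)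
    (hΔ : AlgSt.RepByAlgSpWith AlgSp.IsQuasiCompactMor (FibCat.diag (FibCat.toSelf 𝒳))) :
    (∀ x : AlgSt.Points 𝒳, ∃ U : Set (AlgSt.Points 𝒳), IsOpen U ∧ x ∈ U ∧ SpectralSpace ↥U) ∧
      QuasiSober (AlgSt.Points 𝒳) ∧ T0Space (AlgSt.Points 𝒳) := by
  choose U hU hxU hUs using exists_isOpen_spectral hX hΔ
  refine ⟨exists_isOpen_spectral hX hΔ, ?_, ?_⟩
  · haveI : ∀ s : Set.range U, QuasiSober ↥(s : Set (AlgSt.Points 𝒳)) := fun s => by
      obtain ⟨_, i, rfl⟩ := s
      exact (hUs i).toQuasiSober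
    exact quasiSober_of_open_cover (Set.range U)
      (fun s => by obtain ⟨_, i, rfl⟩ := s; exact hU i)
      (by rw [Set.sUnion_range]; exact Set.eq_univ_of_forall fun x => Set.mem_iUnion.2 ⟨x, hxU x⟩)
  · exact T0Space.of_open_cover fun x => ⟨U x, hxU x, hU x, (hUs x).toT0Space⟩

end Groth.Agent.ASt
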