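import Groth.Agent.ASt.DiagSq
/-!
Stacks in groupoids: invariance under equivalences, fibre products, stacks of sheaves, descent along
faithful morphisms.
-/

set_option backward.isDefEq.respectTransparency false
set_option backward.isDefEq.respectTransparency.types false
set_option linter.unusedSectionVars false

universe w v₅ u₅ v₄ u₄ v₃ u₃ v₂ u₂ v u

open CategoryTheory Opposite

namespace Groth.Agent.ASt

variable {C : Type u} [Category.{v} C]
variable {𝒳 : BasedCategory.{v₂, u₂} C} {𝒴 : BasedCategory.{v₃, u₃} C} {𝒜 : BasedCategory.{v₄, u₄} C}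
  {𝒮 : BasedCategory.{v₅, u₅} C}

theorem basedHom_ext {A B : 𝒜 ⥤ᵇ 𝒳} {α β : A ⟶ B}
    (h : ∀ a, α.toNatTrans.app a = β.toNatTrans.app a) : α = β :=
  BasedNatTrans.homCategory.ext _ _ (NatTrans.ext (funext h))

theorem app_eq_of_eq {A B : 𝒜 ⥤ᵇ 𝒳} {α β : A ⟶ B} (h : α = β) (a : 𝒜.obj) :
    α.toNatTrans.app a = β.toNatTrans.app a := by rw [h]

section Post

variable (F : 𝒳 ⥤ᵇ 𝒴) (𝒜)

/-- Composition with a functor over the base. -/
def postW : (𝒜 ⥤ᵇ 𝒳) ⥤ (𝒜 ⥤ᵇ 𝒴) where
  obj G := BasedFunctor.comp G F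
  map α := BasedCategory.whiskerRight α F
  map_id G := basedHom_ext fun a => F.toFunctor.map_id _
  map_comp α β := basedHom_ext fun a => F.toFunctor.map_comp _ _

theorem isEquivalence_postW (hF : FibCat.IsEquivOver F) : (postW 𝒜 F).IsEquivalence := by
  obtain ⟨G, ⟨α⟩, ⟨β⟩⟩ := hF
  refine (CategoryTheory.Equivalence.mk (postW 𝒜 F) (postW 𝒜 G)
    (NatIso.ofComponents (fun H => (wL H α).symm) fun {H H'} m => basedHom_ext fun a => ?_)
    (NatIso.ofComponents (fun H => wL H β) fun {H H'} m => basedHom_ext fun a => ?_)).isEquivalence_functor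
  · exact α.inv.toNatTrans.naturality (m.toNatTrans.app a)
  · exact β.hom.toNatTrans.naturality (m.toNatTrans.app a)

/-- Restriction commutes with composition. -/
def resPostIso {U : C} (R : Sieve U) :
    Stk.resSieve R 𝒳 ⋙ postW (Stk.sieveCat R) F ≅ postW (FibCat.overCat U) F ⋙ Stk.resSieve R 𝒴 :=
  NatIso.ofComponents (fun G => Iso.refl _) fun m =>
    (Category.comp_id _).trans (Eq.trans (basedHom_ext fun a => rfl) (Category.id_comp _).symm)

end Post

theorem isStackFor_of_isEquivOver {F : 𝒳 ⥤ᵇ 𝒴} (hF : FibCat.IsEquivOver F) {U : C} {R : Sieve U}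
    (h : Stk.IsStackFor R 𝒳) : Stk.IsStackFor R 𝒴 := by
  haveI : (Stk.resSieve R 𝒳).IsEquivalence := h
  haveI := isEquivalence_postW (Stk.sieveCat R) F hF
  haveI := isEquivalence_postW (FibCat.overCat U) F hF
  haveI := Functor.isEquivalence_of_iso (resPostIso F R)
  exact Functor.isEquivalence_of_comp_left (postW (FibCat.overCat U) F) _

theorem isPrestackFor_of_isEquivOver {F : 𝒳 ⥤ᵇ 𝒴} (hF : FibCat.IsEquivOver F) {U : C} {R : Sieve U}
    (h : Stk.IsPrestackFor R 𝒳) : Stk.IsPrestackFor R 𝒴 := by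
  haveI := h.1
  haveI := h.2
  haveI := isEquivalence_postW (Stk.sieveCat R) F hF
  haveI := isEquivalence_postW (FibCat.overCat U) F hF
  let e := (postW (FibCat.overCat U) F).asEquivalence
  haveI : (postW (FibCat.overCat U) F ⋙ Stk.resSieve R 𝒴).Full := Functor.Full.of_iso (resPostIso F R)
  haveI : (postW (FibCat.overCat U) F ⋙ Stk.resSieve R 𝒴).Faithful := Functor.Faithful.of_iso (resPostIso F R)
  let i : Stk.resSieve R 𝒴 ≅ e.inverse ⋙ postW (FibCat.overCat U) F ⋙ Stk.resSieve R 𝒴 :=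
    (Functor.leftUnitor _).symm ≪≫ Functor.isoWhiskerRight e.counitIso.symm _ ≪≫ Functor.associator _ _ _
  exact ⟨Functor.Full.of_iso i.symm, Functor.Faithful.of_iso i.symm⟩

theorem isStack_of_isEquivOver {J : GrothendieckTopology C} {F : 𝒳 ⥤ᵇ 𝒴} (hF : FibCat.IsEquivOver F)
    (h : Stk.IsStack J 𝒳) : Stk.IsStack J 𝒴 :=
  haveI := h.1
  ⟨isFibGrpd_of_isEquivOver hF, fun _ R hR => isStackFor_of_isEquivOver hF (h.2 R hR)⟩

theorem isPrestack_of_isEquivOver {J : GrothendieckTopology C} {F : 𝒳 ⥤ᵇ 𝒴} (hF : FibCat.IsEquivOver F)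
    (h : Stk.IsPrestack J 𝒳) : Stk.IsPrestack J 𝒴 :=
  haveI := h.1
  ⟨isFibGrpd_of_isEquivOver hF, fun _ R hR => isPrestackFor_of_isEquivOver hF (h.2 R hR)⟩

theorem isPrestack_of_isStack {J : GrothendieckTopology C} (h : Stk.IsStack J 𝒳) : Stk.IsPrestack J 𝒳 :=
  ⟨h.1, fun _ R hR => haveI : (Stk.resSieve R 𝒳).IsEquivalence := h.2 R hR; ⟨inferInstance, inferInstance⟩⟩

section FibreProduct

variable [h𝒳 : FibCat.IsFibGrpd 𝒳.p] [h𝒴 : FibCat.IsFibGrpd 𝒴.p] [h𝒮 : FibCat.IsFibGrpd 𝒮.p]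

/-- Restriction to a sieve is fully faithful for fibre products. -/
theorem isStackFor_fp {F : 𝒳 ⥤ᵇ 𝒮} {G : 𝒴 ⥤ᵇ 𝒮} {U : C} {R : Sieve U}
    (hX : Stk.IsStackFor R 𝒳) (hY : Stk.IsStackFor R 𝒴) (hS : Stk.IsPrestackFor R 𝒮) :
    Stk.IsStackFor R (FibCat.fp F G) := by
  haveI : (Stk.resSieve R 𝒳).IsEquivalence := hX
  haveI : (Stk.resSieve R 𝒴).IsEquivalence := hY
  haveI := hS.1
  haveI := hS.2
  haveI hfib : FibCat.IsFibGrpd (FibCat.fp F G).p := isFibGrpd_fp
  let RF := Stk.resSieve R (FibCat.fp F G)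
  haveI hf : RF.Faithful := ⟨fun {A B α β} h => basedHom_ext fun a => by
    have h1 : BasedCategory.whiskerRight α (FibCat.fpFst F G) = BasedCategory.whiskerRight β (FibCat.fpFst F G) :=
      (Stk.resSieve R 𝒳).map_injective (basedHom_ext fun s =>
        congrArg (fun m => m.hom.fst) (app_eq_of_eq h s))
    have h2 : BasedCategory.whiskerRight α (FibCat.fpSnd F G) = BasedCategory.whiskerRight β (FibCat.fpSnd F G) :=
      (Stk.resSieve R 𝒴).map_injective (basedHom_ext fun s =>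
        congrArg (fun m => m.hom.snd) (app_eq_of_eq h s))
    exact fp_hom_ext (app_eq_of_eq h1 a) (app_eq_of_eq h2 a)⟩
  haveI hfu : RF.Full := ⟨fun {A B} γ => by
    obtain ⟨α₁, hα₁⟩ : ∃ α₁ : BasedFunctor.comp A (FibCat.fpFst F G) ⟶ BasedFunctor.comp B (FibCat.fpFst F G),
        (Stk.resSieve R 𝒳).map α₁ = BasedCategory.whiskerRight γ (FibCat.fpFst F G) :=
      (Stk.resSieve R 𝒳).map_surjective _
    obtain ⟨α₂, hα₂⟩ : ∃ α₂ : BasedFunctor.comp A (FibCat.fpSnd F G) ⟶ BasedFunctor.comp B (FibCat.fpSnd F G),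
        (Stk.resSieve R 𝒴).map α₂ = BasedCategory.whiskerRight γ (FibCat.fpSnd F G) :=
      (Stk.resSieve R 𝒴).map_surjective _
    have hc : ((BasedCategory.whiskerRight α₁ F ≫
          ((wL B (FibCat.fpIso F G)).hom : BasedFunctor.comp (BasedFunctor.comp B (FibCat.fpFst F G)) F ⟶
            BasedFunctor.comp (BasedFunctor.comp B (FibCat.fpSnd F G)) G)) :
          BasedFunctor.comp (BasedFunctor.comp A (FibCat.fpFst F G)) F ⟶
            BasedFunctor.comp (BasedFunctor.comp B (FibCat.fpSnd F G)) G) =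
        ((wL A (FibCat.fpIso F G)).hom : BasedFunctor.comp (BasedFunctor.comp A (FibCat.fpFst F G)) F ⟶
            BasedFunctor.comp (BasedFunctor.comp A (FibCat.fpSnd F G)) G) ≫ BasedCategory.whiskerRight α₂ G :=
      (Stk.resSieve R 𝒮).map_injective (basedHom_ext fun s => by
        change F.map (α₁.toNatTrans.app s.obj) ≫ (B.obj s.obj).obj.iso.hom =
          (A.obj s.obj).obj.iso.hom ≫ G.map (α₂.toNatTrans.app s.obj)
        rw [show α₁.toNatTrans.app s.obj = (γ.toNatTrans.app s).hom.fst from app_eq_of_eq hα₁ s,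
          show α₂.toNatTrans.app s.obj = (γ.toNatTrans.app s).hom.snd from app_eq_of_eq hα₂ s]
        exact (γ.toNatTrans.app s).hom.w)
    refine ⟨
      { toNatTrans :=
          { app := fun a => fpHomMk (α₁.toNatTrans.app a) (α₂.toNatTrans.app a) (app_eq_of_eq hc a)
            naturality := fun a b m => fp_hom_ext (α₁.toNatTrans.naturality m) (α₂.toNatTrans.naturality m) }
        isHomLift' := fun a => isHomLift_id_of_map _ (A.w_obj a) (map_app _ _ α₁ a) },
      basedHom_ext fun s => fp_hom_ext (app_eq_of_eq hα₁ s) (app_eq_of_eq hα₂ s)⟩⟩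
  haveI he : RF.EssSurj := ⟨fun D => by
    let e₁ := (Stk.resSieve R 𝒳).objObjPreimageIso (BasedFunctor.comp D (FibCat.fpFst F G))
    let e₂ := (Stk.resSieve R 𝒴).objObjPreimageIso (BasedFunctor.comp D (FibCat.fpSnd F G))
    let θ : (Stk.resSieve R 𝒮).obj (BasedFunctor.comp ((Stk.resSieve R 𝒳).objPreimage
        (BasedFunctor.comp D (FibCat.fpFst F G))) F) ≅
        (Stk.resSieve R 𝒮).obj (BasedFunctor.comp ((Stk.resSieve R 𝒴).objPreimage
        (BasedFunctor.comp D (FibCat.fpSnd F G))) G) :=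
      (wR e₁ F).trans ((wL D (FibCat.fpIso F G)).trans (wR e₂ G).symm)
    let e := (Stk.resSieve R 𝒮).preimageIso θ
    refine ⟨FibCat.fpLift _ _ e, ⟨fpIsoMk e₁ e₂ fun s => ?_⟩⟩
    change F.map (e₁.hom.toNatTrans.app s) ≫ (D.obj s).obj.iso.hom =
      e.hom.toNatTrans.app s.obj ≫ G.map (e₂.hom.toNatTrans.app s)
    have := app_eq_of_eq ((Stk.resSieve R 𝒮).map_preimage θ.hom) s
    refine Eq.trans ?_ (congrArg (fun m => m ≫ G.map (e₂.hom.toNatTrans.app s)) this).symm
    change _ = (F.map (e₁.hom.toNatTrans.app s) ≫ (D.obj s).obj.iso.hom ≫ G.map (e₂.inv.toNatTrans.app s)) ≫ _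
    rw [Category.assoc, Category.assoc, ← G.map_comp, show e₂.inv.toNatTrans.app s ≫ e₂.hom.toNatTrans.app s = 𝟙 _
      from app_eq_of_eq e₂.inv_hom_id s]
    exact congrArg (fun m => F.map (e₁.hom.toNatTrans.app s) ≫ m)
      ((Category.comp_id _).symm.trans (congrArg (fun m => _ ≫ m) (G.toFunctor.map_id _).symm))⟩
  exact Functor.IsEquivalence.mk hf hfu he

theorem isStack_fp {J : GrothendieckTopology C} {F : 𝒳 ⥤ᵇ 𝒮} {G : 𝒴 ⥤ᵇ 𝒮} (hX : Stk.IsStack J 𝒳)
    (hY : Stk.IsStack J 𝒴) (hS : Stk.IsPrestack J 𝒮) : Stk.IsStack J (FibCat.fp F G) :=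
  ⟨isFibGrpd_fp, fun _ R hR => isStackFor_fp (hX.2 R hR) (hY.2 R hR) (hS.2 R hR)⟩

/-- Descent along a faithful functor with stacks as fibres over slices. -/
theorem isStack_of_faithful {J : GrothendieckTopology C} (hY : Stk.IsStack J 𝒴) (F : 𝒳 ⥤ᵇ 𝒴)
    [F.toFunctor.Faithful]
    (h : ∀ (U : C) (y : FibCat.overCat U ⥤ᵇ 𝒴), Stk.IsStack J (FibCat.fp y F)) : Stk.IsStack J 𝒳 := by
  refine ⟨h𝒳, fun U R hR => ?_⟩
  haveI : (Stk.resSieve R 𝒴).IsEquivalence := hY.2 R hR
  let RX := Stk.resSieve R 𝒳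
  haveI hf : RX.Faithful := ⟨fun {A B α β} e => basedHom_ext fun a => F.toFunctor.map_injective
    (app_eq_of_eq ((Stk.resSieve R 𝒴).map_injective (basedHom_ext fun s =>
      congrArg (fun m => F.map m) (app_eq_of_eq e s)) :
        BasedCategory.whiskerRight α F = BasedCategory.whiskerRight β F) a)⟩
  haveI hfu : RX.Full := ⟨fun {A B} γ => by
    obtain ⟨δ, hδ⟩ : ∃ δ : BasedFunctor.comp A F ⟶ BasedFunctor.comp B F,
        (Stk.resSieve R 𝒴).map δ = BasedCategory.whiskerRight γ F :=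
      (Stk.resSieve R 𝒴).map_surjective _
    haveI : IsIso δ := by
      haveI : ∀ a, IsIso (δ.toNatTrans.app a) := fun a => isIso_of_vert _ (map_app _ _ δ a)
      haveI : IsIso δ.toNatTrans := NatIso.isIso_of_isIso_app _
      exact BasedNatIso.isIso_of_toNatTrans_isIso δ
    let y := BasedFunctor.comp A F
    haveI : FibCat.IsFibGrpd (FibCat.fp y F).p := isFibGrpd_fp
    let a : FibCat.overCat U ⥤ᵇ FibCat.fp y F := FibCat.fpLift (BasedFunctor.id _) A (Iso.refl _)
    let b : FibCat.overCat U ⥤ᵇ FibCat.fp y F := FibCat.fpLift (BasedFunctor.id _) B (asIso δ)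
    haveI : (Stk.resSieve R (FibCat.fp y F)).IsEquivalence := (h U y).2 R hR
    let γ' : (Stk.resSieve R (FibCat.fp y F)).obj a ⟶ (Stk.resSieve R (FibCat.fp y F)).obj b :=
      { toNatTrans :=
          { app := fun s => fpHomMk (𝟙 s.obj) (γ.toNatTrans.app s) (by
              change F.map (A.map (𝟙 s.obj)) ≫ δ.toNatTrans.app s.obj = 𝟙 _ ≫ F.map (γ.toNatTrans.app s)
              rw [show δ.toNatTrans.app s.obj = F.map (γ.toNatTrans.app s) from app_eq_of_eq hδ s]
              simp)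
            naturality := fun s t m => fp_hom_ext ((Category.comp_id _).trans (Category.id_comp _).symm)
              (γ.toNatTrans.naturality m) }
        isHomLift' := fun s => isHomLift_id_of_map _ rfl
          (((FibCat.overCat U).p.map_id s.obj).trans (eqToHom_refl _ rfl).symm) }
    obtain ⟨ε, hε⟩ := (Stk.resSieve R (FibCat.fp y F)).map_surjective γ'
    exact ⟨BasedCategory.whiskerRight ε (FibCat.fpSnd y F),
      basedHom_ext fun s => congrArg (fun m => m.hom.snd) (app_eq_of_eq hε s)⟩⟩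
  haveI he : RX.EssSurj := ⟨fun D => by
    let θ := (Stk.resSieve R 𝒴).objObjPreimageIso (BasedFunctor.comp D F)
    let y := (Stk.resSieve R 𝒴).objPreimage (BasedFunctor.comp D F)
    haveI : (Stk.resSieve R (FibCat.fp y F)).IsEquivalence := (h U y).2 R hR
    let D' : Stk.sieveCat R ⥤ᵇ FibCat.fp y F := FibCat.fpLift (Stk.sieveIncl R) D θ
    exact ⟨BasedFunctor.comp ((Stk.resSieve R (FibCat.fp y F)).objPreimage D') (FibCat.fpSnd y F),
      ⟨wR ((Stk.resSieve R (FibCat.fp y F)).objObjPreimageIso D') (FibCat.fpSnd y F)⟩⟩⟩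
  exact Functor.IsEquivalence.mk hf hfu he

end FibreProduct

section OfPsh

variable (P : Cᵒᵖ ⥤ Type w)

theorem presheaf_map_map {P : Cᵒᵖ ⥤ Type w} {T T' T'' : C} (g : T'' ⟶ T') (f : T' ⟶ T) (x : P.obj (op T)) :
    P.map g.op (P.map f.op x) = P.map (g ≫ f).op x := by simp

theorem presheaf_map_congr {P : Cᵒᵖ ⥤ Type w} {T T' : C} {f f' : T' ⟶ T} (e : f = f') (x : P.obj (op T)) :
    P.map f.op x = P.map f'.op x := by rw [e]

/-- The section carried by the value of a functor into the category of a presheaf. -/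
def secOf {P : Cᵒᵖ ⥤ Type w} (A : 𝒜 ⥤ᵇ Stk.ofPsh P) (s : 𝒜.obj) : P.obj (op (𝒜.p.obj s)) :=
  P.map (eqToHom (A.w_obj s).symm).op (A.obj s).sec

variable {P}

theorem secOf_map (A : 𝒜 ⥤ᵇ Stk.ofPsh P) {s t : 𝒜.obj} (m : s ⟶ t) :
    P.map (𝒜.p.map m).op (secOf A t) = secOf A s := by
  have h := (A.map m).map_sec
  rw [show (A.map m).hom = eqToHom (A.w_obj s) ≫ 𝒜.p.map m ≫ eqToHom (A.w_obj t).symm from map_w A m] at h
  refine (presheaf_map_map _ _ _).trans ?_
  refine Eq.trans ?_ (congrArg (fun x => P.map (eqToHom (A.w_obj s).symm).op x) h)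
  refine Eq.trans ?_ (presheaf_map_map _ _ _).symm
  exact presheaf_map_congr (by simp) _

theorem exists_hom_iff {A B : 𝒜 ⥤ᵇ Stk.ofPsh P} :
    Nonempty (A ⟶ B) ↔ ∀ s, secOf A s = secOf B s := by
  constructor
  · rintro ⟨α⟩ s
    have h := (α.toNatTrans.app s).map_sec
    rw [show (α.toNatTrans.app s).hom = eqToHom _ from map_app _ _ α s] at h
    refine (congrArg (fun x => P.map (eqToHom (A.w_obj s).symm).op x) h).symm.trans ?_
    exact (presheaf_map_map _ _ _).trans (presheaf_map_congr (eqToHom_trans _ _) _)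
  · intro h
    have hs : ∀ s, P.map (eqToHom ((A.w_obj s).trans (B.w_obj s).symm)).op (B.obj s).sec = (A.obj s).sec :=
      fun s => by
        refine (presheaf_map_congr (eqToHom_trans (A.w_obj s) (B.w_obj s).symm).symm _).trans ?_
        refine (presheaf_map_map _ _ _).symm.trans ?_
        refine (congrArg (fun x => P.map (eqToHom (A.w_obj s)).op x) (h s).symm).trans ?_
        refine (presheaf_map_map _ _ _).trans ?_
        exact (presheaf_map_congr ((eqToHom_trans _ _).trans (eqToHom_refl _ rfl)) _).trans (by simp)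
    exact ⟨{ toNatTrans :=
              { app := fun s => (⟨eqToHom ((A.w_obj s).trans (B.w_obj s).symm), hs s⟩ : A.obj s ⟶ B.obj s)
                naturality := fun s t m => Stk.EltObj.hom_ext (by
                  change (A.map m).hom ≫ eqToHom ((A.w_obj t).trans (B.w_obj t).symm) =
                    eqToHom ((A.w_obj s).trans (B.w_obj s).symm) ≫ (B.map m).hom
                  rw [show (A.map m).hom = eqToHom (A.w_obj s) ≫ 𝒜.p.map m ≫ eqToHom (A.w_obj t).symm from map_w A m,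
                    show (B.map m).hom = eqToHom (B.w_obj s) ≫ 𝒜.p.map m ≫ eqToHom (B.w_obj t).symm from map_w B m]
                  simp) }
             isHomLift' := fun s =>
               isHomLift_id_of_map _ (A.w_obj s) (e := (A.w_obj s).trans (B.w_obj s).symm) rfl }⟩

theorem subsingleton_hom (A B : 𝒜 ⥤ᵇ Stk.ofPsh P) : Subsingleton (A ⟶ B) :=
  ⟨fun α β => basedHom_ext fun s => Stk.EltObj.hom_ext
    ((map_app _ _ α s).trans (map_app _ _ β s).symm)⟩

/-- A compatible family of sections as a functor. -/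
def mkFun (σ : ∀ s : 𝒜.obj, P.obj (op (𝒜.p.obj s)))
    (hσ : ∀ {s t : 𝒜.obj} (m : s ⟶ t), P.map (𝒜.p.map m).op (σ t) = σ s) : 𝒜 ⥤ᵇ Stk.ofPsh P where
  toFunctor :=
    { obj := fun s => ⟨𝒜.p.obj s, σ s⟩
      map := fun m => ⟨𝒜.p.map m, hσ m⟩
      map_id := fun s => Stk.EltObj.hom_ext (𝒜.p.map_id s)
      map_comp := fun m n => Stk.EltObj.hom_ext (𝒜.p.map_comp m n) }
  w := rfl

theorem secOf_mkFun (σ : ∀ s : 𝒜.obj, P.obj (op (𝒜.p.obj s)))
    (hσ : ∀ {s t : 𝒜.obj} (m : s ⟶ t), P.map (𝒜.p.map m).op (σ t) = σ s) (s : 𝒜.obj) :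
    secOf (mkFun σ hσ) s = σ s := by
  simp [secOf, mkFun]

theorem isStackFor_ofPsh_iff {U : C} {R : Sieve U} :
    Stk.IsStackFor R (Stk.ofPsh P) ↔ Presieve.IsSheafFor P R.arrows := by
  constructor
  · intro h
    haveI : (Stk.resSieve R (Stk.ofPsh P)).IsEquivalence := h
    intro x hx
    let σ : ∀ s : (Stk.sieveCat R).obj, P.obj (op ((Stk.sieveCat R).p.obj s)) := fun s => x s.obj.hom s.property
    let D : Stk.sieveCat R ⥤ᵇ Stk.ofPsh P := mkFun σ fun {s t} m => by
      have := hx m.hom.left (𝟙 _) t.property s.property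
        ((Over.w m.hom).trans (Category.id_comp _).symm)
      exact this.trans (by simp [σ])
    let e := (Stk.resSieve R (Stk.ofPsh P)).objObjPreimageIso D
    let A := (Stk.resSieve R (Stk.ofPsh P)).objPreimage D
    have hA : ∀ {V : C} (f : V ⟶ U) (hf : R f), secOf A (ov f) = x f hf := fun {V} f hf =>
      (exists_hom_iff.1 ⟨e.hom⟩ (⟨ov f, hf⟩ : (Stk.sieveCat R).obj)).trans
        (secOf_mkFun σ _ _)
    have key : ∀ {V : C} (f : V ⟶ U), P.map f.op (secOf A (ov (𝟙 U))) = secOf A (ov f) := fun {V} f =>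
      secOf_map A (toTop (ov f))
    refine ⟨secOf A (ov (𝟙 U)), fun V f hf => (key f).trans (hA f hf), fun t ht => ?_⟩
    have hσ : ∀ {s s' : (FibCat.overCat U).obj} (m : s ⟶ s'),
        P.map ((FibCat.overCat U).p.map m).op (P.map s'.hom.op t) = P.map s.hom.op t := fun {s s'} m =>
      (presheaf_map_map m.left s'.hom t).trans (presheaf_map_congr (Over.w m) t)
    let B : FibCat.overCat U ⥤ᵇ Stk.ofPsh P := mkFun (fun s => P.map s.hom.op t) hσ
    obtain ⟨γ⟩ : Nonempty ((Stk.resSieve R (Stk.ofPsh P)).obj B ⟶ (Stk.resSieve R (Stk.ofPsh P)).obj A) :=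
      exists_hom_iff.2 fun s => ((secOf_mkFun (𝒜 := FibCat.overCat U) (fun s => P.map s.hom.op t) hσ s.obj).trans
        ((ht s.obj.hom s.property).trans (hA _ s.property).symm))
    have := (exists_hom_iff.1 ⟨(Stk.resSieve R (Stk.ofPsh P)).preimage γ⟩ (ov (𝟙 U))).symm
    rw [this, secOf_mkFun]
    simp
  · intro h
    have hsep := h.isSeparatedFor
    let RP := Stk.resSieve R (Stk.ofPsh P)
    haveI hf : RP.Faithful := ⟨fun {A B α β} _ => (subsingleton_hom A B).elim α β⟩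
    haveI hfu : RP.Full := ⟨fun {A B} γ => by
      have key : ∀ (A : FibCat.overCat U ⥤ᵇ Stk.ofPsh P) (s : (FibCat.overCat U).obj),
          P.map s.hom.op (secOf A (ov (𝟙 U))) = secOf A s := fun A s => secOf_map A (toTop s)
      have e : secOf A (ov (𝟙 U)) = secOf B (ov (𝟙 U)) := hsep.ext fun V f hf => by
        exact (key A (ov f)).trans ((exists_hom_iff.1 ⟨γ⟩ (⟨ov f, hf⟩ : (Stk.sieveCat R).obj)).trans
          (key B (ov f)).symm)
      obtain ⟨α⟩ : Nonempty (A ⟶ B) := exists_hom_iff.2 fun s =>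
        (key A s).symm.trans ((congrArg (fun x => P.map s.hom.op x) e).trans (key B s))
      exact ⟨α, (subsingleton_hom _ _).elim _ _⟩⟩
    haveI he : RP.EssSurj := ⟨fun D => by
      obtain ⟨t, ht, -⟩ := h (fun V f hf => secOf D (⟨ov f, hf⟩ : (Stk.sieveCat R).obj))
        (fun V₁ V₂ V g₁ g₂ f₁ f₂ h₁ h₂ e => by
          have e₁ := secOf_map D (ObjectProperty.homMk (ovHom g₁ rfl) :
            (⟨ov (g₁ ≫ f₁), R.downward_closed h₁ g₁⟩ : (Stk.sieveCat R).obj) ⟶ ⟨ov f₁, h₁⟩)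
          have e₂ := secOf_map D (ObjectProperty.homMk (ovHom g₂ e.symm) :
            (⟨ov (g₁ ≫ f₁), R.downward_closed h₁ g₁⟩ : (Stk.sieveCat R).obj) ⟶ ⟨ov f₂, h₂⟩)
          exact e₁.trans e₂.symm)
      have hσ : ∀ {s s' : (FibCat.overCat U).obj} (m : s ⟶ s'),
          P.map ((FibCat.overCat U).p.map m).op (P.map s'.hom.op t) = P.map s.hom.op t := fun {s s'} m =>
        (presheaf_map_map m.left s'.hom t).trans (presheaf_map_congr (Over.w m) t)
      let A : FibCat.overCat U ⥤ᵇ Stk.ofPsh P := mkFun (fun s => P.map s.hom.op t) hσ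
      have hs : ∀ s : (Stk.sieveCat R).obj, secOf (RP.obj A) s = secOf D s := fun s =>
        (secOf_mkFun (𝒜 := FibCat.overCat U) (fun s => P.map s.hom.op t) hσ s.obj).trans (ht s.obj.hom s.property)
      obtain ⟨α⟩ := exists_hom_iff.2 hs
      obtain ⟨β⟩ := exists_hom_iff.2 fun s => (hs s).symm
      exact ⟨A, ⟨⟨α, β, (subsingleton_hom _ _).elim _ _, (subsingleton_hom _ _).elim _ _⟩⟩⟩⟩
    exact Functor.IsEquivalence.mk hf hfu he

theorem isStack_ofPsh_iff {J : GrothendieckTopology C} :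
    Stk.IsStack J (Stk.ofPsh P) ↔ Presieve.IsSheaf J P :=
  ⟨fun h _ R hR => isStackFor_ofPsh_iff.1 (h.2 R hR),
    fun h => ⟨Stk.isFibGrpd_ofPsh P, fun _ R hR => isStackFor_ofPsh_iff.2 (h R hR)⟩⟩

/-- The slice is the category of the representable presheaf. -/
theorem exists_equiv_ofPsh_yoneda (U : C) :
    ∃ F : Stk.ofPsh (yoneda.obj U) ⥤ᵇ FibCat.overCat U, FibCat.IsEquivOver F :=
  ⟨{ toFunctor :=
      { obj := fun a => Over.mk a.sec
        map := fun {a b} f => Over.homMk f.hom f.map_sec }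
     w := rfl },
    { toFunctor :=
      { obj := fun g => ⟨g.left, g.hom⟩
        map := fun {g h} φ => ⟨φ.left, Over.w φ⟩ }
      w := rfl },
    ⟨eqToIso (basedFunctor_ext rfl)⟩, ⟨eqToIso (basedFunctor_ext rfl)⟩⟩

theorem isStack_overCat_iff {J : GrothendieckTopology C} (U : C) :
    Stk.IsStack J (FibCat.overCat U) ↔ Presieve.IsSheaf J (yoneda.obj U) := by
  obtain ⟨F, hF⟩ := exists_equiv_ofPsh_yoneda U
  obtain ⟨G, hG, -, -⟩ := isEquivOver_symm hF
  exact ⟨fun h => isStack_ofPsh_iff.1 (isStack_of_isEquivOver hG h),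
    fun h => isStack_of_isEquivOver hF (isStack_ofPsh_iff.2 h)⟩

end OfPsh

end Groth.Agent.ASt
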