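import Groth.Agent.ASt.DiagCancel
import Groth.Agent.ASt.LocQOpen
import Groth.Agent.ASt.LocQBase
import Groth.Agent.ASt.StQc
import Groth.Agent.ASt.StkAlg
import Groth.Agent.ASt.InertiaDiag
import Groth.Agent.ASt.Inv
import Groth.Agent.ASp.SmST
import Groth.Agent.SmSrc.Smooth

/-!
Universally closed morphisms of algebraic stacks: composition, base change, cancellation along
surjections, and the two diagonals of a morphism composed with a universal homeomorphism.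
-/

set_option autoImplicit false
set_option backward.isDefEq.respectTransparency false
set_option backward.isDefEq.respectTransparency.types false
set_option linter.unusedSectionVars false

universe u

open CategoryTheory CategoryTheory.Limits AlgebraicGeometry Opposite

namespace Groth.Agent.ASt

open _root_.AlgSp Groth.Agent.ASp

variable {S : Scheme.{u}} {𝒳 𝒴 𝒵 𝒲 : AlgSt.Cat S} [h𝒳 : FibCat.IsFibGrpd 𝒳.p] [h𝒴 : FibCat.IsFibGrpd 𝒴.p]
  [h𝒵 : FibCat.IsFibGrpd 𝒵.p] [h𝒲 : FibCat.IsFibGrpd 𝒲.p]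

theorem map_comp_eq (F : 𝒳 ⥤ᵇ 𝒴) (G : 𝒴 ⥤ᵇ 𝒵) :
    AlgSt.Points.map (BasedFunctor.comp F G) = AlgSt.Points.map G ∘ AlgSt.Points.map F :=
  funext fun z => (map_map F G z).symm

/-- Closedness descends along surjections. -/
theorem isClosedMap_of_surj (hY : AlgSt.IsAlgStack Scheme.fppfPrecoverage 𝒴) {F : 𝒳 ⥤ᵇ 𝒴}
    (hs : Function.Surjective (AlgSt.Points.map F)) {p : 𝒴 ⥤ᵇ 𝒵}
    (hc : IsClosedMap (AlgSt.Points.map (BasedFunctor.comp F p))) : IsClosedMap (AlgSt.Points.map p) := by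
  rw [map_comp_eq] at hc
  exact IsClosedMap.of_comp_surjective hs (continuous_map_stack hY F) hc

theorem univClosed_congr (hX : AlgSt.IsAlgStack Scheme.fppfPrecoverage 𝒳)
    (hY : AlgSt.IsAlgStack Scheme.fppfPrecoverage 𝒴) {f f' : 𝒳 ⥤ᵇ 𝒴} (α : f ≅ f')
    (hf : AlgSt.IsUnivClosed Scheme.fppfPrecoverage f) : AlgSt.IsUnivClosed Scheme.fppfPrecoverage f' := by
  intro 𝒵 hZ g
  haveI := hZ.isStack.1
  haveI : FibCat.IsFibGrpd (FibCat.fp g f).p := isFibGrpd_fp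
  haveI : FibCat.IsFibGrpd (FibCat.fp g f').p := isFibGrpd_fp
  exact isClosedMap_of_surj (isAlgStack_fp (isPrestack_of_isStack hY.isStack) hY.diag hZ hX g f')
    (surjective_changeR α g) (p := FibCat.fpFst g f') (hf 𝒵 hZ g)

theorem univClosed_of_surjective (hX : AlgSt.IsAlgStack Scheme.fppfPrecoverage 𝒳)
    (hY : AlgSt.IsAlgStack Scheme.fppfPrecoverage 𝒴) (hZ : AlgSt.IsAlgStack Scheme.fppfPrecoverage 𝒵)
    {f : 𝒳 ⥤ᵇ 𝒴} {q : 𝒴 ⥤ᵇ 𝒵} (hs : AlgSt.IsSurjective f)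
    (h : AlgSt.IsUnivClosed Scheme.fppfPrecoverage (BasedFunctor.comp f q)) :
    AlgSt.IsUnivClosed Scheme.fppfPrecoverage q := by
  intro 𝒵' hZ' g
  haveI := hZ'.isStack.1
  haveI : FibCat.IsFibGrpd (FibCat.fp g (BasedFunctor.comp f q)).p := isFibGrpd_fp
  haveI : FibCat.IsFibGrpd (FibCat.fp g q).p := isFibGrpd_fp
  exact isClosedMap_of_surj (isAlgStack_fp (isPrestack_of_isStack hZ.isStack) hZ.diag hZ' hY g q)
    (surjective_pushR g q f hs) (p := FibCat.fpFst g q) (h 𝒵' hZ' g)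

theorem univClosed_fpFst (hX : AlgSt.IsAlgStack Scheme.fppfPrecoverage 𝒳)
    (hY : AlgSt.IsAlgStack Scheme.fppfPrecoverage 𝒴) (hW : AlgSt.IsAlgStack Scheme.fppfPrecoverage 𝒲)
    {f : 𝒳 ⥤ᵇ 𝒴} (g : 𝒲 ⥤ᵇ 𝒴) (hf : AlgSt.IsUnivClosed Scheme.fppfPrecoverage f) :
    AlgSt.IsUnivClosed Scheme.fppfPrecoverage (FibCat.fpFst g f) := by
  intro 𝒵' hZ h
  haveI := hZ.isStack.1
  haveI : FibCat.IsFibGrpd (FibCat.fp g f).p := isFibGrpd_fp
  haveI : FibCat.IsFibGrpd (FibCat.fp (BasedFunctor.comp h g) f).p := isFibGrpd_fp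
  haveI : FibCat.IsFibGrpd (FibCat.fp h (FibCat.fpFst g f)).p := isFibGrpd_fp
  have hP := isAlgStack_fp (isPrestack_of_isStack hY.isStack) hY.diag hW hX g f
  let M : FibCat.fp (BasedFunctor.comp h g) f ⥤ᵇ FibCat.fp g f := pushL h g f
  let N : FibCat.fp (BasedFunctor.comp h g) f ⥤ᵇ FibCat.fp h (FibCat.fpFst g f) :=
    FibCat.fpLift (FibCat.fpFst (BasedFunctor.comp h g) f) M (Iso.refl _)
  refine isClosedMap_of_surj (F := N)
    (isAlgStack_fp (isPrestack_of_isStack hW.isStack) hW.diag hZ hP h _) (surjective_map_of_vert fun w => ?_)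
    (p := FibCat.fpFst h (FibCat.fpFst g f)) (hf 𝒵' hZ (BasedFunctor.comp h g))
  let H : FibCat.fp h (FibCat.fpFst g f) ⥤ᵇ FibCat.fp (BasedFunctor.comp h g) f :=
    FibCat.fpLift (FibCat.fpFst h (FibCat.fpFst g f))
      (BasedFunctor.comp (FibCat.fpSnd h (FibCat.fpFst g f)) (FibCat.fpSnd g f))
      ((wR (FibCat.fpIso h (FibCat.fpFst g f)) g).trans
        (wL (FibCat.fpSnd h (FibCat.fpFst g f)) (FibCat.fpIso g f)))
  refine ⟨H.obj w, rfl, ⟨fpHomMk (𝟙 w.obj.fst)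
    (fpHomMk (m := M.obj (H.obj w)) (n := w.obj.snd) w.obj.iso.hom (𝟙 w.obj.snd.obj.snd) ?_) ?_⟩⟩
  · change g.map w.obj.iso.hom ≫ w.obj.snd.obj.iso.hom =
      (g.map w.obj.iso.hom ≫ w.obj.snd.obj.iso.hom) ≫ f.map (𝟙 w.obj.snd.obj.snd)
    simp
  · change h.map (𝟙 w.obj.fst) ≫ w.obj.iso.hom = 𝟙 (h.obj w.obj.fst) ≫ w.obj.iso.hom
    simp

/-- The paste functor after exchange is surjective on points. -/
theorem surjective_swap_paste (h : 𝒲 ⥤ᵇ 𝒵) (g : 𝒴 ⥤ᵇ 𝒵) (f : 𝒳 ⥤ᵇ 𝒴) :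
    Function.Surjective (AlgSt.Points.map
      (BasedFunctor.comp (swapF (FibCat.fpSnd h g) f) (pasteG h g f))) := by
  haveI : FibCat.IsFibGrpd (FibCat.fp h g).p := isFibGrpd_fp
  haveI : FibCat.IsFibGrpd (FibCat.fp h (BasedFunctor.comp f g)).p := isFibGrpd_fp
  haveI : FibCat.IsFibGrpd (FibCat.fp f (FibCat.fpSnd h g)).p := isFibGrpd_fp
  haveI : FibCat.IsFibGrpd (FibCat.fp (FibCat.fpSnd h g) f).p := isFibGrpd_fp
  rw [map_comp_eq]
  refine Function.Surjective.comp (surjective_map_of_vert fun x => ?_)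
    (surjective_map_of_isEquivOver (isEquivOver_swapF (FibCat.fpSnd h g) f))
  refine ⟨(pasteF h g f).obj x, fp_snd_base x, ⟨fpHomMk (𝟙 x.obj.fst) (𝟙 x.obj.snd) ?_⟩⟩
  change h.map (𝟙 x.obj.fst) ≫ x.obj.iso.hom =
    (x.obj.iso.hom ≫ g.map (𝟙 (f.obj x.obj.snd))) ≫ g.map (f.map (𝟙 x.obj.snd))
  simp
  exact (Category.comp_id _).symm

theorem univClosed_comp (hX : AlgSt.IsAlgStack Scheme.fppfPrecoverage 𝒳)
    (hY : AlgSt.IsAlgStack Scheme.fppfPrecoverage 𝒴) (hZ : AlgSt.IsAlgStack Scheme.fppfPrecoverage 𝒵)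
    {f : 𝒳 ⥤ᵇ 𝒴} {g : 𝒴 ⥤ᵇ 𝒵} (hf : AlgSt.IsUnivClosed Scheme.fppfPrecoverage f)
    (hg : AlgSt.IsUnivClosed Scheme.fppfPrecoverage g) :
    AlgSt.IsUnivClosed Scheme.fppfPrecoverage (BasedFunctor.comp f g) := by
  intro 𝒵' hZ' h
  haveI := hZ'.isStack.1
  haveI : FibCat.IsFibGrpd (FibCat.fp h g).p := isFibGrpd_fp
  have hA := isAlgStack_fp (isPrestack_of_isStack hZ.isStack) hZ.diag hZ' hY h g
  haveI : FibCat.IsFibGrpd (FibCat.fp h (BasedFunctor.comp f g)).p := isFibGrpd_fp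
  haveI : FibCat.IsFibGrpd (FibCat.fp (FibCat.fpSnd h g) f).p := isFibGrpd_fp
  refine isClosedMap_of_surj (isAlgStack_fp (isPrestack_of_isStack hZ.isStack) hZ.diag hZ' hX h _)
    (surjective_swap_paste h g f) (p := FibCat.fpFst h (BasedFunctor.comp f g)) ?_
  have : IsClosedMap (AlgSt.Points.map (FibCat.fpFst h g) ∘ AlgSt.Points.map (FibCat.fpFst (FibCat.fpSnd h g) f)) :=
    (hg 𝒵' hZ' h).comp (hf _ hA (FibCat.fpSnd h g))
  rw [← map_comp_eq] at this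
  exact this

theorem univClosed_of_repByAlgSpWith {f : 𝒳 ⥤ᵇ 𝒴} (hf : AlgSt.RepByAlgSpWith IsUnivClosedMor f) :
    AlgSt.IsUnivClosed Scheme.fppfPrecoverage f :=
  (repByAlgSpWith_univSp_iff isTopProp_isClosedMap (repByAlgSp1_of_with hf)).1 hf

/-- A flat, finitely presented, surjective and universally injective morphism is universally closed. -/
theorem univClosed_of_fppf_injective (hX : AlgSt.IsAlgStack Scheme.fppfPrecoverage 𝒳)
    (hY : AlgSt.IsAlgStack Scheme.fppfPrecoverage 𝒴) {f : 𝒳 ⥤ᵇ 𝒴} (hs : AlgSt.IsSurjective f)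
    (hfl : AlgSt.LocQ (LocP @Flat) f) (hfp : AlgSt.LocQ (LocP @LocallyOfFinitePresentation) f)
    (hi : AlgSt.IsUnivInjective Scheme.fppfPrecoverage f) :
    AlgSt.IsUnivClosed Scheme.fppfPrecoverage f := by
  intro 𝒵 hZ g
  haveI := hZ.isStack.1
  have hP := isAlgStack_fp (isPrestack_of_isStack hY.isStack) hY.diag hZ hX g f
  haveI := hP.isStack.1
  have h₁ : AlgSt.LocQ (LocP @Flat) (FibCat.fpFst g f) := locQ_fpFst isSmoothLocalST_locP
    (fun _ _ _ _ h₁' h₂' _ h₄' _ _ _ _ sq h => ASp.locP_of_isPullback sq.flip h₁' h₂' h₄' h) hX hY hZ g hfl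
  have h₂ : AlgSt.LocQ (LocP @LocallyOfFinitePresentation) (FibCat.fpFst g f) := locQ_fpFst isSmoothLocalST_locP
    (fun _ _ _ _ h₁' h₂' _ h₄' _ _ _ _ sq h => ASp.locP_of_isPullback sq.flip h₁' h₂' h₄' h) hX hY hZ g hfp
  exact IsHomeomorph.isClosedMap ⟨continuous_map_stack hZ _, isOpenMor_of_fppf hP h₁ h₂,
    hi 𝒵 hZ g, isSurjective_fpFst g hs⟩

section Push

variable (hX : AlgSt.IsAlgStack Scheme.fppfPrecoverage 𝒳) (hY : AlgSt.IsAlgStack Scheme.fppfPrecoverage 𝒴)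
  (hZ : AlgSt.IsAlgStack Scheme.fppfPrecoverage 𝒵) (hW : AlgSt.IsAlgStack Scheme.fppfPrecoverage 𝒲)

include hX hY hZ hW in
theorem univClosed_pushR (h : 𝒵 ⥤ᵇ 𝒴) (f : 𝒳 ⥤ᵇ 𝒴) {b : 𝒲 ⥤ᵇ 𝒳}
    (hb : AlgSt.IsUnivClosed Scheme.fppfPrecoverage b) :
    AlgSt.IsUnivClosed Scheme.fppfPrecoverage (pushR h f b) := by
  haveI : FibCat.IsFibGrpd (FibCat.fp h f).p := isFibGrpd_fp
  haveI : FibCat.IsFibGrpd (FibCat.fp h (BasedFunctor.comp b f)).p := isFibGrpd_fp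
  haveI : FibCat.IsFibGrpd (FibCat.fp b (FibCat.fpSnd h f)).p := isFibGrpd_fp
  haveI : FibCat.IsFibGrpd (FibCat.fp (FibCat.fpSnd h f) b).p := isFibGrpd_fp
  have hA := isAlgStack_fp (isPrestack_of_isStack hY.isStack) hY.diag hZ hX h f
  have hB := isAlgStack_fp (isPrestack_of_isStack hY.isStack) hY.diag hZ hW h (BasedFunctor.comp b f)
  have hQ := isAlgStack_fp (isPrestack_of_isStack hX.isStack) hX.diag hA hW (FibCat.fpSnd h f) b
  refine univClosed_of_surjective hQ hB hA (q := pushR h f b) (surjective_swap_paste h f b)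
    (univClosed_congr hQ hA ?_ (univClosed_fpFst hW hX hA (FibCat.fpSnd h f) hb))
  exact fpIsoMk (Iso.refl _) (FibCat.fpIso (FibCat.fpSnd h f) b) fun x => by
    change h.map (𝟙 x.obj.fst.obj.fst) ≫ (x.obj.fst.obj.iso.hom ≫ f.map x.obj.iso.hom) =
      x.obj.fst.obj.iso.hom ≫ f.map x.obj.iso.hom
    simp

include hX hY hZ hW in
theorem univClosed_pushL {a : 𝒲 ⥤ᵇ 𝒵} (h : 𝒵 ⥤ᵇ 𝒴) (f : 𝒳 ⥤ᵇ 𝒴)
    (ha : AlgSt.IsUnivClosed Scheme.fppfPrecoverage a) :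
    AlgSt.IsUnivClosed Scheme.fppfPrecoverage (pushL a h f) := by
  haveI : FibCat.IsFibGrpd (FibCat.fp h f).p := isFibGrpd_fp
  haveI : FibCat.IsFibGrpd (FibCat.fp (BasedFunctor.comp a h) f).p := isFibGrpd_fp
  haveI : FibCat.IsFibGrpd (FibCat.fp a (FibCat.fpFst h f)).p := isFibGrpd_fp
  haveI : FibCat.IsFibGrpd (FibCat.fp (FibCat.fpFst h f) a).p := isFibGrpd_fp
  have hA := isAlgStack_fp (isPrestack_of_isStack hY.isStack) hY.diag hZ hX h f
  have hB := isAlgStack_fp (isPrestack_of_isStack hY.isStack) hY.diag hW hX (BasedFunctor.comp a h) f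
  have hQ := isAlgStack_fp (isPrestack_of_isStack hZ.isStack) hZ.diag hA hW (FibCat.fpFst h f) a
  let H : FibCat.fp a (FibCat.fpFst h f) ⥤ᵇ FibCat.fp (BasedFunctor.comp a h) f :=
    FibCat.fpLift (FibCat.fpFst a (FibCat.fpFst h f))
      (BasedFunctor.comp (FibCat.fpSnd a (FibCat.fpFst h f)) (FibCat.fpSnd h f))
      ((wR (FibCat.fpIso a (FibCat.fpFst h f)) h).trans
        (wL (FibCat.fpSnd a (FibCat.fpFst h f)) (FibCat.fpIso h f)))
  let G : FibCat.fp (BasedFunctor.comp a h) f ⥤ᵇ FibCat.fp a (FibCat.fpFst h f) :=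
    FibCat.fpLift (FibCat.fpFst (BasedFunctor.comp a h) f) (pushL a h f) (Iso.refl _)
  have hs : AlgSt.IsSurjective (BasedFunctor.comp (swapF (FibCat.fpFst h f) a) H) := by
    show Function.Surjective (AlgSt.Points.map _)
    rw [map_comp_eq]
    refine Function.Surjective.comp (surjective_map_of_vert fun x => ?_)
      (surjective_map_of_isEquivOver (isEquivOver_swapF (FibCat.fpFst h f) a))
    refine ⟨G.obj x, rfl, ⟨fpHomMk (𝟙 x.obj.fst) (𝟙 x.obj.snd) ?_⟩⟩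
    change h.map (a.map (𝟙 x.obj.fst)) ≫ x.obj.iso.hom =
      (h.map (𝟙 (a.obj x.obj.fst)) ≫ x.obj.iso.hom) ≫ f.map (𝟙 x.obj.snd)
    simp
  refine univClosed_of_surjective hQ hB hA (q := pushL a h f) hs
    (univClosed_congr hQ hA ?_ (univClosed_fpFst hW hZ hA (FibCat.fpFst h f) ha))
  exact fpIsoMk (FibCat.fpIso (FibCat.fpFst h f) a) (Iso.refl _) fun x => by
    change h.map x.obj.iso.hom ≫ (h.map x.obj.iso.inv ≫ x.obj.fst.obj.iso.hom) =
      x.obj.fst.obj.iso.hom ≫ f.map (𝟙 x.obj.fst.obj.snd)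
    simp [← Functor.map_comp_assoc]

end Push

end Groth.Agent.ASt
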